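import Cfsg.Agent.Lib.Recog.ABProd.Defs
import Cfsg.Agent.Lib.Recog.GenDihedral.PSLExtension
import Cfsg.Agent.Lib.KnownC.AutPSLOut

/-!
Facts about the model group `PGL₂(p)`: it is the automorphism group of a simple subgroup of index
two, so every nonsolvable normal subgroup has index at most two.
-/

set_option autoImplicit false

namespace CfsgLib.Recog.ABProd

open Subgroup
open scoped commutatorElement

universe u

/-- A field of prime order has no nontrivial automorphism. -/
theorem card_ringAut_of_prime {F : Type*} [Field F] [Fintype F] {p : ℕ} (hp : p.Prime)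
    (hF : Fintype.card F = p) : Nat.card (F ≃+* F) = 1 := by
  haveI := Fact.mk hp
  haveI : CharP F p := by
    obtain ⟨r, hr⟩ := CharP.exists F
    obtain ⟨n, hrp, hn⟩ := FiniteField.card F r
    have : r = p := ((Nat.prime_dvd_prime_iff_eq hrp hp).1 (by rw [← hF, hn]; exact dvd_pow_self r n.ne_zero))
    exact this ▸ hr
  have hsurj : Function.Surjective (ZMod.castHom (dvd_refl p) F) :=
    ((Fintype.bijective_iff_injective_and_card _).2
      ⟨(ZMod.castHom (dvd_refl p) F).injective, by rw [ZMod.card, hF]⟩).2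
  refine Nat.card_eq_one_iff_unique.2 ⟨⟨fun σ τ => RingEquiv.ext fun x => ?_⟩, ⟨RingEquiv.refl F⟩⟩
  obtain ⟨y, rfl⟩ := hsurj x
  exact RingHom.congr_fun (Subsingleton.elim ((σ : F →+* F).comp (ZMod.castHom (dvd_refl p) F))
    ((τ : F →+* F).comp (ZMod.castHom (dvd_refl p) F))) y

/-- What the argument needs from `PGL₂(p)`. -/
theorem Model.facts {X : Type u} [Group X] [Finite X] {a b : ℕ} (h : Model X a b) :
    Nat.card X = a * b ∧ Even a ∧ Even b ∧
      ∀ K : Subgroup X, K.Normal → ¬ Group.IsSolvable K →
        Nat.card X ≤ 2 * Nat.card K ∧ centralizer ((⁅K, K⁆ : Subgroup X) : Set X) = ⊥ ∧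
          Nat.card (MulAut ↥⁅K, K⁆) = Nat.card X := by
  classical
  obtain ⟨F, hF, hFt, p, hp, hp3, hcard, ⟨e⟩, ha, hb⟩ := h
  have hodd : Odd p := hp.odd_of_ne_two (by omega)
  obtain ⟨k, hk⟩ := hodd
  let S := Matrix.ProjectiveSpecialLinearGroup (Fin 2) F
  haveI hS : IsSimpleGroup S := CfsgLib.ClassK.isSimpleGroup_psl_two (by omega)
  have e' : X ≃* Matrix.ProjGenLinGroup (Fin 2) F := e
  have hPGL : Nat.card X = 2 * Nat.card S := by
    rw [Nat.card_congr e'.toEquiv,
      CfsgLib.Recog.GenDihedral.card_pgl_eq_two_mul (hcard ▸ ⟨k, hk⟩)]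
  have hX : Nat.card X = a * b := by
    rw [Nat.card_congr e'.toEquiv, CfsgLib.Classical.card_pgl, CfsgLib.Classical.card_sl_two_eq,
      hcard, ha, hb, ← one_pow 2, Nat.sq_sub_sq, one_pow]
    ring
  refine ⟨hX, by rw [ha]; exact ⟨k + 1, by omega⟩,
    by rw [hb]; exact (show Even (p - 1) from ⟨k, by omega⟩).mul_left p, ?_⟩
  have hAut : Nat.card (MulAut S) = Nat.card X := by
    rw [CfsgLib.KnownC.card_mulAut_psl le_rfl, if_pos rfl, one_mul,
      card_ringAut_of_prime hp hcard, one_mul, Nat.card_congr e'.toEquiv]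
  obtain ⟨ψ, hψ, -⟩ := CfsgLib.Recog.GenDihedral.exists_pgl_hom (F := F)
  haveI : Finite (MulAut S) := Nat.finite_of_card_ne_zero (by rw [hAut]; exact Nat.card_pos.ne')
  have hbij : Function.Bijective (ψ.comp e'.toMonoidHom) :=
    (Nat.bijective_iff_injective_and_card _).2 ⟨hψ.comp e'.injective, hAut.symm⟩
  let E : X ≃* MulAut S := MulEquiv.ofBijective _ hbij
  let j : S →* X := E.symm.toMonoidHom.comp MulAut.conj
  have hnc : ¬ ∀ u v : S, u * v = v * u := fun hc => by
    letI : CommGroup S := { (inferInstance : Group S) with mul_comm := hc }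
    have h1 : (Nat.card S).Prime := IsSimpleGroup.prime_card
    have h2 : p * (p - 1) ∣ 2 * Nat.card S := by
      rw [← hPGL, hX, hb]
      exact dvd_mul_left _ _
    have h3 : p ∣ Nat.card S :=
      (((Nat.coprime_primes hp Nat.prime_two).2 (by omega)).dvd_of_dvd_mul_left
        ((dvd_mul_right p (p - 1)).trans h2))
    have h4 : Nat.card S = p := (Nat.prime_dvd_prime_iff_eq hp h1).1 h3 |>.symm
    have h6 : (p + 1) * (p * (p - 1)) = 2 * p := by
      rw [← hb, ← ha, ← hX, hPGL, h4]
    have h5 : p ≤ p * (p - 1) := Nat.le_mul_of_pos_right _ (by omega)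
    nlinarith
  have hZ : center S = ⊥ := by
    refine (Subgroup.Normal.eq_bot_or_eq_top (inferInstance : (center S).Normal)).resolve_right fun htop => hnc ?_
    intro u v
    exact (mem_center_iff.1 (htop ▸ mem_top u) v).symm
  have hjinj : Function.Injective j := by
    refine E.symm.injective.comp ?_
    rw [← MonoidHom.ker_eq_bot_iff, eq_bot_iff, ← hZ]
    intro s hs
    refine mem_center_iff.2 fun v => ?_
    have h1 := DFunLike.congr_fun (MonoidHom.mem_ker.1 hs) v
    rw [MulAut.conj_apply, MulAut.one_apply] at h1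
    exact (mul_inv_eq_iff_eq_mul.1 h1).symm
  set I := j.range with hI
  have hIcard : Nat.card I = Nat.card S := (Nat.card_congr (MonoidHom.ofInjective hjinj).toEquiv).symm
  have hidx : I.index = 2 := by
    have h1 := I.card_mul_index
    rw [hPGL, hIcard, mul_comm 2] at h1
    exact Nat.eq_of_mul_eq_mul_left Nat.card_pos h1
  haveI hIn : I.Normal := normal_of_index_eq_two hidx
  have hCI : centralizer (I : Set X) = ⊥ := by
    refine (eq_bot_iff_forall _).2 fun x hx => E.injective (MulEquiv.ext fun s => ?_)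
    rw [map_one, MulAut.one_apply]
    have h1 : E x * MulAut.conj s = MulAut.conj s * E x := by
      have h2 := congrArg E (mem_centralizer_iff.1 hx (j s) ⟨s, rfl⟩)
      rw [map_mul, map_mul] at h2
      have h3 : E (j s) = MulAut.conj s := E.apply_symm_apply _
      rw [h3] at h2
      exact h2.symm
    have h4 : MulAut.conj (E x s) = MulAut.conj s := by
      refine MulEquiv.ext fun v => ?_
      have h5 := DFunLike.congr_fun h1 ((E x).symm v)
      simp only [MulAut.mul_apply, MulAut.conj_apply, map_mul, map_inv, MulEquiv.apply_symm_apply] at h5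
      rw [MulAut.conj_apply, MulAut.conj_apply, h5]
    have h6 : j (E x s) = j s := congrArg E.symm h4
    exact hjinj h6
  intro K hK hns
  haveI := hK
  have hIK : I ≤ K := by
    haveI : IsSimpleGroup I := (MonoidHom.ofInjective hjinj).symm.isSimpleGroup
    rcases Subgroup.Normal.eq_bot_or_eq_top (hK.subgroupOf I) with h | h
    · exfalso
      refine hns ?_
      have hKI : K ⊓ I = ⊥ := by
        refine (eq_bot_iff_forall _).2 fun x hx => ?_
        have h1 : (⟨x, hx.2⟩ : I) ∈ K.subgroupOf I := hx.1
        rw [h, mem_bot] at h1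
        exact congrArg Subtype.val h1
      have hKC : K ≤ centralizer (I : Set X) := fun x hx => mem_centralizer_iff.2 fun y hy =>
        (commute_of_normal_of_disjoint K I hK hIn (disjoint_iff.2 hKI) x y hx hy).symm
      rw [hCI] at hKC
      rw [show K = ⊥ from le_bot_iff.1 hKC]
      infer_instance
    · exact subgroupOf_eq_top.1 h
  have hKK : ⁅K, K⁆ = I := by
    refine le_antisymm ?_ ?_
    · refine (commutator_mono le_top le_top).trans ?_
      rw [← _root_.commutator_def]
      haveI : Fact (Nat.Prime 2) := ⟨Nat.prime_two⟩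
      haveI : IsCyclic (X ⧸ I) := isCyclic_of_prime_card (p := 2) (by rw [← index_eq_card, hidx])
      exact (Normal.quotient_commutative_iff_commutator_le).1 (IsCyclic.isMulCommutative (α := X ⧸ I))
    · have hperf : commutator S = ⊤ := by
        refine (Subgroup.Normal.eq_bot_or_eq_top (inferInstance : (commutator S).Normal)).resolve_left fun h => hnc ?_
        intro u v
        have h1 : ⁅u, v⁆ ∈ commutator S := commutator_mem_commutator (mem_top u) (mem_top v)
        rw [h, mem_bot] at h1
        exact commutatorElement_eq_one_iff_mul_comm.1 h1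
      calc I = (commutator S).map j := by rw [hperf, ← MonoidHom.range_eq_map]
        _ = ⁅I, I⁆ := by rw [_root_.commutator_def, map_commutator, ← MonoidHom.range_eq_map]
        _ ≤ ⁅K, K⁆ := commutator_mono hIK hIK
  refine ⟨?_, by rw [hKK, hCI], ?_⟩
  · calc Nat.card X = 2 * Nat.card I := by rw [hPGL, hIcard]
      _ ≤ 2 * Nat.card K := Nat.mul_le_mul_left 2
          (Nat.le_of_dvd Nat.card_pos (card_dvd_of_le hIK))
  · rw [hKK, ← hAut]
    exact Nat.card_congr (MulAut.congr (MonoidHom.ofInjective hjinj).symm).toEquiv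

end CfsgLib.Recog.ABProd
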