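import Mathlib.GroupTheory.SpecificGroups.ZGroup
import Mathlib.GroupTheory.Solvable
import Mathlib.LinearAlgebra.Matrix.GeneralLinearGroup.Defs
import Mathlib.GroupTheory.QuotientGroup.Basic
import Mathlib.GroupTheory.SpecificGroups.Dihedral
import Mathlib.GroupTheory.Sylow
import Mathlib.FieldTheory.Finite.Basic

/-!
Groups that are a product of a cyclic subgroup and a Z-subgroup: common definitions.
-/

set_option autoImplicit false

namespace CfsgLib.Recog.ABProd

universe u

/-- `G = A B` with `A` cyclic and `B` a Z-group. -/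
structure Setting {G : Type*} [Group G] (A B : Subgroup G) : Prop where
  cyc : IsCyclic A
  zgrp : IsZGroup B
  prod : ∀ g : G, ∃ a ∈ A, ∃ b ∈ B, g = a * b

/-- No nontrivial solvable normal subgroup. -/
def RadFree (G : Type*) [Group G] : Prop :=
  ∀ N : Subgroup G, N.Normal → Group.IsSolvable N → N = ⊥

/-- The conclusion: `G` is `PGL₂(p)` and the factors have orders `p + 1` and `p (p - 1)`. -/
def Model (G : Type*) [Group G] (a b : ℕ) : Prop :=
  ∃ (F : Type) (_ : Field F) (_ : Fintype F) (p : ℕ), p.Prime ∧ 3 < p ∧ Fintype.card F = p ∧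
    Nonempty (G ≃* (GL (Fin 2) F ⧸ Subgroup.center (GL (Fin 2) F))) ∧
    a = p + 1 ∧ b = p * (p - 1)

/-- The statement proved by induction on the order. -/
def ModelBelow (N : ℕ) : Prop :=
  ∀ (H : Type u) [Group H] [Finite H], Nat.card H < N → ∀ (A B : Subgroup H), Setting A B →
    RadFree H → ¬ Group.IsSolvable H → Model H (Nat.card A) (Nat.card B)

/-- The primitive situation: a regular cyclic subgroup and a core free maximal Z-subgroup. -/
structure Prim {G : Type*} [Group G] (A B : Subgroup G) : Prop extends Setting A B where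
  disj : A ⊓ B = ⊥
  maxB : IsCoatom B
  core : B.normalCore = ⊥
  rad : RadFree G
  nonsolv : ¬ Group.IsSolvable G

/-- What is used about the two point stabiliser quotient: dihedral Sylow 2 and one class of
involutions in a subgroup of index two. -/
def SmallModel (X : Type*) [Group X] : Prop :=
  (∀ S : Sylow 2 X, ∃ m : ℕ, 2 ≤ m ∧ Nonempty ((S : Subgroup X) ≃* DihedralGroup m)) ∧
    ∀ E : Subgroup X, E.index = 2 → ∀ s ∈ E, ∀ t ∈ E, orderOf s = 2 → orderOf t = 2 → IsConj s t

/-- A 2-Sylow subgroup with a cyclic subgroup of index two avoided by some involution, on which a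
sign character is nontrivial. -/
def SylowData (G : Type*) [Group G] : Prop :=
  ∃ (S : Sylow 2 G) (c t : G) (ε : G →* ℤˣ), c ∈ (S : Subgroup G) ∧ t ∈ (S : Subgroup G) ∧
    orderOf t = 2 ∧ t ∉ Subgroup.zpowers c ∧
    (Subgroup.zpowers c).relIndex (S : Subgroup G) = 2 ∧ ∃ s ∈ (S : Subgroup G), ε s = -1

end CfsgLib.Recog.ABProd
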