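import Mathlib.GroupTheory.SpecificGroups.ZGroup
import Mathlib.GroupTheory.Perm.Cycle.Type
import Cfsg.Agent.Lib.Recog.ABProd.Defs
import Cfsg.Agent.Lib.Recog.GW.ConsumerRankOne
import Cfsg.Agent.Lib.Recog.GenDihedral.PSLExtension
import Cfsg.Agent.Lib.KnownA.RecipOrder.AutPSLMain
import Cfsg.Agent.Lib.Classical.PSLTwoMaximal
import Cfsg.Agent.Lib.Classical.SLTwoCent
import Cfsg.Agent.Lib.Chev.RigidCount
import Cfsg.Agent.Lib.ClassK.Kulakov
import Cfsg.Agent.Lib.Geom.MaxPair
import Cfsg.Agent.Lib.Geom.PSLTwoCentralizer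
import Cfsg.Agent.Lib.Fusion.SimplePSLTwo
import Cfsg.Agent.S2119

/-!
Groups `G = AB` with `A` cyclic, `B` a core-free maximal Z-subgroup and socle `PSL₂(q)` or `A₇`:
they are `PGL₂(p)`, and the facts about the Sylow 2-subgroups of `PGL₂(p)`.
-/

set_option autoImplicit false
set_option linter.unusedSectionVars false
set_option linter.style.haveILetI false
set_option maxHeartbeats 1000000

namespace CfsgLib.Recog.ABProd

open Subgroup Matrix CfsgLib.KnownC
open scoped MatrixGroups

universe u

/-- A Z-group has an element of order `r s` for suitable primes. -/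
theorem exists_orderOf_mul {H : Type*} [Group H] [Finite H] [IsZGroup H] {r s : ℕ} (hr : r.Prime)
    (hs : s.Prime) (hne : r ≠ s) (hrs : ¬ r ∣ s - 1) (hsr : ¬ s ∣ r - 1)
    (hrd : r ∣ Nat.card H) (hsd : s ∣ Nat.card H) : ∃ x : H, orderOf x = r * s := by
  classical
  haveI := Fact.mk hr
  haveI := Fact.mk hs
  haveI : IsCyclic (commutator H) := IsZGroup.isCyclic_commutator H
  haveI : IsCyclic (Abelianization H) := IsZGroup.isCyclic_abelianization
  have main : ∀ r s : ℕ, r.Prime → s.Prime → r ≠ s → ¬ r ∣ s - 1 → r ∣ Nat.card H →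
      s ∣ Nat.card (commutator H) → ∃ x : H, orderOf x = r * s := by
    intro r s hr hs hne hrs hrd hsd
    haveI := Fact.mk hr
    haveI := Fact.mk hs
    obtain ⟨y, hy⟩ := exists_prime_orderOf_dvd_card' (G := commutator H) s hsd
    obtain ⟨x, hx⟩ := exists_prime_orderOf_dvd_card' (G := H) r hrd
    let Y : Subgroup (commutator H) := zpowers y
    have hYc : Y.Characteristic := by
      refine characteristic_iff_map_eq.2 fun φ => ?_
      exact CfsgLib.ClassK.Kulakov.subgroup_eq_of_card
        (Nat.card_congr (Y.equivMapOfInjective _ φ.injective).toEquiv.symm)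
    haveI : ((Y.map (commutator H).subtype)).Normal := ConjAct.normal_of_characteristic_of_normal
    set N := Y.map (commutator H).subtype with hN
    have hcard : Nat.card N = s := by
      rw [hN, ← Nat.card_congr (Y.equivMapOfInjective _ (commutator H).subtype_injective).toEquiv,
        Nat.card_zpowers, hy]
    have hyN : (y : H) ∈ N := mem_map_of_mem _ (mem_zpowers y)
    -- the action of `x` on the subgroup of order `s` is trivial
    haveI : IsCyclic N := isCyclic_of_prime_card hcard
    have hAut : Nat.card (MulAut N) = s - 1 := by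
      rw [IsCyclic.card_mulAut, hcard, Nat.totient_prime hs]
    have htriv : (MulAut.conjNormal x : MulAut N) = 1 := by
      rw [← orderOf_eq_one_iff]
      refine Nat.eq_one_of_dvd_coprimes (a := r) (b := s - 1) ((hr.coprime_iff_not_dvd).2 hrs) ?_
        (hAut ▸ orderOf_dvd_natCard _)
      exact hx ▸ orderOf_map_dvd (MulAut.conjNormal : H →* MulAut N) x
    have hc : Commute x (y : H) := by
      have h := congrArg (fun φ : MulAut N => (φ ⟨y, hyN⟩ : H)) htriv
      simp only [MulAut.conjNormal_apply, MulAut.one_apply] at h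
      exact mul_inv_eq_iff_eq_mul.1 h
    refine ⟨x * y, ?_⟩
    rw [hc.orderOf_mul_eq_mul_orderOf_of_coprime (by
      rw [hx, Subgroup.orderOf_coe, hy]; exact (Nat.coprime_primes hr hs).2 hne),
      hx, Subgroup.orderOf_coe, hy]
  by_cases h1 : s ∣ Nat.card (commutator H)
  · exact main r s hr hs hne hrs hrd h1
  by_cases h2 : r ∣ Nat.card (commutator H)
  · obtain ⟨x, hx⟩ := main s r hs hr hne.symm hsr hsd h2
    exact ⟨x, by rw [hx, mul_comm]⟩
  have hA : r * s ∣ Nat.card (Abelianization H) := by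
    have hc : Nat.card H = Nat.card (Abelianization H) * Nat.card (commutator H) :=
      (commutator H).card_eq_card_quotient_mul_card_subgroup
    rw [hc] at hrd hsd
    exact Nat.Coprime.mul_dvd_of_dvd_of_dvd ((Nat.coprime_primes hr hs).2 hne)
      ((hr.dvd_mul.1 hrd).resolve_right h2) ((hs.dvd_mul.1 hsd).resolve_right h1)
  obtain ⟨a, ha⟩ := IsCyclic.exists_generator (α := Abelianization H)
  obtain ⟨h, rfl⟩ := QuotientGroup.mk_surjective (s := commutator H) a
  have hd : r * s ∣ orderOf h := by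
    refine hA.trans ?_
    rw [← orderOf_eq_card_of_forall_mem_zpowers ha]
    exact orderOf_map_dvd (QuotientGroup.mk' (commutator H)) h
  exact ⟨h ^ (orderOf h / (r * s)), orderOf_pow_orderOf_div (orderOf_pos h).ne' hd⟩

/-- A Z-group has elements of every prime power order dividing its order. -/
theorem exists_orderOf_primePow {H : Type*} [Group H] [Finite H] [IsZGroup H] {p k : ℕ}
    [Fact p.Prime] (hd : p ^ k ∣ Nat.card H) : ∃ x : H, orderOf x = p ^ k := by
  obtain ⟨P⟩ : Nonempty (Sylow p H) := inferInstance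
  haveI : IsCyclic (P : Subgroup H) := IsZGroup.isZGroup p (Fact.out) P
  obtain ⟨g, hg⟩ := IsCyclic.exists_generator (α := (P : Subgroup H))
  have hd' : p ^ k ∣ orderOf (g : H) := by
    rw [Subgroup.orderOf_coe, orderOf_eq_card_of_forall_mem_zpowers hg, P.card_eq_multiplicity]
    exact pow_dvd_pow p (((Fact.out : p.Prime).pow_dvd_iff_le_factorization Nat.card_pos.ne').1 hd)
  exact ⟨(g : H) ^ (orderOf (g : H) / p ^ k), orderOf_pow_orderOf_div (orderOf_pos _).ne' hd'⟩

section PSL

variable {F : Type} [Field F] [Fintype F]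

local notation "PSL2" => Matrix.ProjectiveSpecialLinearGroup (Fin 2) F

/-- In odd characteristic the elements of `p`-power order of `PSL₂(q)` have order at most `p`. -/
theorem psl_orderOf_pPart (p : ℕ) [Fact p.Prime] [CharP F p] (hp2 : p ≠ 2) {x : PSL2} {k : ℕ}
    (hx : orderOf x = p ^ k) : k ≤ 1 := by
  classical
  have hp := (Fact.out : p.Prime)
  obtain ⟨s, rfl⟩ := QuotientGroup.mk_surjective x
  have hmem : s ^ p ^ k ∈ Subgroup.center SL(2, F) := by
    rw [← QuotientGroup.eq_one_iff, QuotientGroup.mk_pow, ← hx, pow_orderOf_eq_one]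
  obtain ⟨c, hc, hcs⟩ := Matrix.SpecialLinearGroup.mem_center_iff.1 hmem
  rw [Fintype.card_fin] at hc
  have h2 : (s ^ 2) ^ p ^ k = 1 := by
    rw [← pow_mul, mul_comm, pow_mul, pow_two]
    refine Subtype.ext ?_
    rw [Matrix.SpecialLinearGroup.coe_mul, Matrix.SpecialLinearGroup.coe_one, ← hcs, ← map_mul,
      ← pow_two, hc, map_one]
  have h3 := CfsgLib.Classical.pow_char_of_trSL p (CfsgLib.Classical.trSL_of_pow_char p h2)
  have h4 : orderOf (QuotientGroup.mk s : PSL2) ∣ 2 * p := by
    refine orderOf_dvd_of_pow_eq_one ?_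
    rw [← QuotientGroup.mk_pow, pow_mul, h3, QuotientGroup.mk_one]
  rw [hx] at h4
  by_contra hk
  have h5 : p ^ 2 ∣ 2 * p := (pow_dvd_pow p (by omega)).trans h4
  rw [pow_two] at h5
  have h6 := Nat.dvd_of_mul_dvd_mul_right hp.pos h5
  exact hp2 ((Nat.prime_dvd_prime_iff_eq hp Nat.prime_two).1 h6)

/-- A Z-subgroup of even index at most `q + 1` in `PSL₂(q)`. -/
theorem psl_index_eq (hodd : Odd (Fintype.card F)) (hq : 3 < Fintype.card F)
    (H : Subgroup PSL2) (hZ : IsZGroup H) (hH : H ≠ ⊤) (heven : Even H.index)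
    (hle : H.index ≤ Fintype.card F + 1) :
    (Fintype.card F).Prime ∧ H.index = Fintype.card F + 1 := by
  classical
  obtain ⟨j, hj⟩ := hodd
  have hcard := CfsgLib.Classical.card_psl_two_ge (F := F)
  rw [Nat.gcd_eq_left ⟨j, by omega⟩] at hcard
  have hmul := H.index_mul_card
  haveI := CfsgLib.ClassK.isSimpleGroup_psl_two (F := F) (by omega)
  have hfac := CfsgLib.Chev.Rigid.Count.dvd_factorial_index hH
  obtain ⟨i, hi⟩ := heven
  have hidx : H.index = Fintype.card F + 1 := by
    by_contra hne
    have hlt : H.index ≤ Fintype.card F := by omega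
    rcases eq_or_ne (Fintype.card F) 5 with h5 | h5
    · rw [h5] at hcard hlt
      have hc : Nat.card PSL2 = 60 := by omega
      rw [hc] at hfac
      interval_cases H.index <;> first | omega | (norm_num [Nat.factorial] at hfac)
    rcases eq_or_ne (Fintype.card F) 7 with h7 | h7
    · rw [h7] at hcard hlt
      have hc : Nat.card PSL2 = 168 := by omega
      rw [hc] at hfac
      interval_cases H.index <;> first | omega | (norm_num [Nat.factorial] at hfac)
    rcases eq_or_ne (Fintype.card F) 11 with h11 | h11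
    · rw [h11] at hcard hlt
      have hc : Nat.card PSL2 = 660 := by omega
      rw [hc] at hfac
      interval_cases H.index <;> first | omega | (norm_num [Nat.factorial] at hfac)
    rcases eq_or_ne (Fintype.card F) 9 with h9 | h9
    · rw [h9] at hcard hlt
      have hc : Nat.card PSL2 = 360 := by omega
      rw [hc] at hfac hmul
      have h15 : 3 ∣ Nat.card H ∧ 5 ∣ Nat.card H := by
        interval_cases H.index <;> first | omega | (norm_num [Nat.factorial] at hfac)
      obtain ⟨x, hx⟩ := exists_orderOf_mul (H := H) Nat.prime_three (by norm_num : Nat.Prime 5)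
        (by norm_num) (by norm_num) (by norm_num) h15.1 h15.2
      have hle' := CfsgLib.Classical.orderOf_pgl_two_le
        (Matrix.ProjectiveSpecialLinearGroup.toPGL (x : PSL2))
      rw [orderOf_injective _ Matrix.ProjectiveSpecialLinearGroup.toPGL_injective,
        Subgroup.orderOf_coe, hx, h9] at hle'
      omega
    have := CfsgLib.Classical.index_ge_of_ne_top ⟨by omega, by omega, h5, h7, h9, h11⟩ H hH
    omega
  refine ⟨?_, hidx⟩
  obtain ⟨p, hp⟩ := CharP.exists F
  obtain ⟨f, hpr, hF⟩ := FiniteField.card F p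
  haveI := Fact.mk hpr
  have hp2 : p ≠ 2 := by
    intro h
    subst h
    rw [hF] at hj
    have : Even (2 ^ (f : ℕ)) := Nat.even_pow.2 ⟨even_two, f.pos.ne'⟩
    rw [hj] at this
    simp [parity_simps] at this
  have hdiv : p ^ (f : ℕ) ∣ Nat.card H := by
    have h1 : Fintype.card F * (Fintype.card F ^ 2 - 1) =
        2 * ((Fintype.card F + 1) * Nat.card H) := by
      rw [hcard, ← hmul, hidx]
    rw [show Fintype.card F ^ 2 - 1 = (Fintype.card F + 1) * (Fintype.card F - 1) from by
      rw [← Nat.sq_sub_sq, one_pow]] at h1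
    have h2 : Fintype.card F * (Fintype.card F - 1) = 2 * Nat.card H :=
      Nat.eq_of_mul_eq_mul_left (Nat.succ_pos (Fintype.card F)) (by linarith)
    rw [← hF]
    exact (Nat.Coprime.dvd_of_dvd_mul_left (Nat.coprime_two_right.2 ⟨j, hj⟩)
      (Dvd.intro _ h2 : Fintype.card F ∣ 2 * Nat.card H))
  obtain ⟨x, hx⟩ := exists_orderOf_primePow (H := H) hdiv
  have hf1 := psl_orderOf_pPart p hp2 (x := (x : PSL2)) (by rw [Subgroup.orderOf_coe, hx])
  rw [hF, le_antisymm hf1 f.pos, pow_one]
  exact hpr

/-- The automorphisms of `PSL₂(p)` are `PGL₂(p)`. -/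
theorem mulAut_psl_equiv (hp : (Fintype.card F).Prime) :
    Nonempty (Matrix.ProjGenLinGroup (Fin 2) F ≃* MulAut PSL2) := by
  obtain ⟨ψ, hψ, hr⟩ := CfsgLib.Recog.GenDihedral.exists_pgl_hom (F := F)
  obtain ⟨p, hc⟩ := CharP.exists F
  obtain ⟨f, hpr, hF⟩ := FiniteField.card F p
  haveI := Fact.mk hpr
  have hf : (f : ℕ) = 1 := (Nat.Prime.eq_one_of_pow (hF ▸ hp))
  have hbij : Function.Bijective (ZMod.castHom (dvd_refl p) F) := by
    refine (Fintype.bijective_iff_injective_and_card _).2 ⟨RingHom.injective _, ?_⟩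
    rw [ZMod.card, hF, hf, pow_one]
  have htriv : ∀ σ : F ≃+* F, σ = RingEquiv.refl F := fun σ => by
    refine RingEquiv.ext fun x => ?_
    obtain ⟨y, rfl⟩ := hbij.2 x
    exact RingHom.congr_fun (RingHom.ext_zmod ((σ : F →+* F).comp (ZMod.castHom (dvd_refl p) F))
      (ZMod.castHom (dvd_refl p) F)) y
  refine ⟨MulEquiv.ofBijective ψ ⟨hψ, fun β => ?_⟩⟩
  rcases mulAut_psl_cases le_rfl β with ⟨g, σ, rfl⟩ | ⟨h3, -⟩
  · rw [htriv σ]
    exact hr g
  · omega

end PSL

theorem lcm_of_sum_le_seven (s : Multiset ℕ) (h2 : ∀ n ∈ s, 2 ≤ n) (hs : s.sum ≤ 7) :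
    s.lcm ∣ 12 ∨ s.lcm ∣ 10 ∨ s.lcm ∣ 7 := by
  have hc := Multiset.card_nsmul_le_sum h2
  rw [smul_eq_mul] at hc
  have h3 : Multiset.card s ≤ 3 := by omega
  interval_cases hk : Multiset.card s
  · rw [Multiset.card_eq_zero] at hk
    subst hk
    simp
  · obtain ⟨a, rfl⟩ := Multiset.card_eq_one.1 hk
    simp only [Multiset.mem_singleton, forall_eq, Multiset.sum_singleton] at h2 hs
    interval_cases a <;> decide
  · obtain ⟨a, b, rfl⟩ := Multiset.card_eq_two.1 hk
    simp only [Multiset.insert_eq_cons, Multiset.mem_cons, Multiset.mem_singleton, forall_eq_or_imp,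
      forall_eq, Multiset.sum_cons, Multiset.sum_singleton] at h2 hs
    obtain ⟨ha, hb⟩ := h2
    have : a ≤ 5 := by omega
    interval_cases a <;> (have : b ≤ 5 := by omega) <;> interval_cases b <;>
      first | omega | decide
  · obtain ⟨a, b, c, rfl⟩ := Multiset.card_eq_three.1 hk
    simp only [Multiset.insert_eq_cons, Multiset.mem_cons, Multiset.mem_singleton, forall_eq_or_imp,
      forall_eq, Multiset.sum_cons, Multiset.sum_singleton] at h2 hs
    obtain ⟨ha, hb, hc'⟩ := h2
    have : a ≤ 3 := by omega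
    have : b ≤ 3 := by omega
    have : c ≤ 3 := by omega
    interval_cases a <;> interval_cases b <;> interval_cases c <;> first | omega | decide

/-- Orders of elements of `S₇`. -/
theorem perm_seven_pow (g : Equiv.Perm (Fin 7)) : g ^ 12 = 1 ∨ g ^ 10 = 1 ∨ g ^ 7 = 1 := by
  have h := lcm_of_sum_le_seven g.cycleType (fun n hn => Equiv.Perm.two_le_of_mem_cycleType hn)
    ((Equiv.Perm.sum_cycleType_le g).trans_eq (Fintype.card_fin 7))
  rw [Equiv.Perm.lcm_cycleType] at h
  exact h.imp orderOf_dvd_iff_pow_eq_one.1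
    (Or.imp orderOf_dvd_iff_pow_eq_one.1 orderOf_dvd_iff_pow_eq_one.1)

/-- A Z-subgroup of `A₇` has no index ten or twelve. -/
theorem alt_seven_false (H : Subgroup (alternatingGroup (Fin 7))) (hZ : IsZGroup H)
    (hidx : H.index = 10 ∨ H.index = 12) : False := by
  have hc : Nat.card (alternatingGroup (Fin 7)) = 2520 := by
    rw [nat_card_alternatingGroup, Nat.card_eq_fintype_card, Fintype.card_fin]
    rfl
  have hmul := H.index_mul_card
  rw [hc] at hmul
  rcases hidx with h | h <;> rw [h] at hmul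
  · haveI : Fact (Nat.Prime 3) := ⟨Nat.prime_three⟩
    obtain ⟨x, hx⟩ := exists_orderOf_primePow (H := H) (p := 3) (k := 2) ⟨28, by omega⟩
    have h9 : orderOf ((x : alternatingGroup (Fin 7)) : Equiv.Perm (Fin 7)) = 9 := by
      rw [Subgroup.orderOf_coe, Subgroup.orderOf_coe, hx]; rfl
    rcases perm_seven_pow ((x : alternatingGroup (Fin 7)) : Equiv.Perm (Fin 7)) with e | e | e <;>
      · have := orderOf_dvd_of_pow_eq_one e
        rw [h9] at this
        omega
  · obtain ⟨x, hx⟩ := exists_orderOf_mul (H := H) (r := 5) (s := 7) (by norm_num) (by norm_num)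
      (by norm_num) (by norm_num) (by norm_num) ⟨42, by omega⟩ ⟨30, by omega⟩
    have h35 : orderOf ((x : alternatingGroup (Fin 7)) : Equiv.Perm (Fin 7)) = 35 := by
      rw [Subgroup.orderOf_coe, Subgroup.orderOf_coe, hx]
    rcases perm_seven_pow ((x : alternatingGroup (Fin 7)) : Equiv.Perm (Fin 7)) with e | e | e <;>
      · have := orderOf_dvd_of_pow_eq_one e
        rw [h35] at this
        omega

section Setting

variable {G : Type u} [Group G] [Finite G] {A B : Subgroup G}

theorem card_eq_mul (hS : Setting A B) (hd : A ⊓ B = ⊥) :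
    Nat.card G = Nat.card A * Nat.card B := by
  rw [← Nat.card_prod]
  refine (Nat.card_eq_of_bijective (fun x : A × B => (x.1 : G) * x.2) ⟨?_, ?_⟩).symm
  · rintro ⟨a, b⟩ ⟨a', b'⟩ h
    simp only at h
    have h1 : (a' : G)⁻¹ * a = b' * (b : G)⁻¹ := by
      rw [eq_mul_inv_iff_mul_eq, mul_assoc, h, inv_mul_cancel_left]
    have h2 : (a' : G)⁻¹ * a ∈ A ⊓ B :=
      Subgroup.mem_inf.2 ⟨A.mul_mem (A.inv_mem a'.2) a.2, h1 ▸ B.mul_mem b'.2 (B.inv_mem b.2)⟩
    rw [hd, mem_bot] at h2
    obtain rfl : a' = a := Subtype.ext (inv_mul_eq_one.1 h2)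
    exact Prod.ext rfl (Subtype.ext (mul_left_cancel h))
  · intro g
    obtain ⟨a, ha, b, hb, rfl⟩ := hS.prod g
    exact ⟨(⟨a, ha⟩, ⟨b, hb⟩), rfl⟩

/-- **Identification of the primitive group.** -/
theorem model_of_socle (P : Prim A B) (heven : Even (Nat.card A)) (hS : SylowData G)
    (N : Subgroup G) (hN : N.Normal) (hsimp : IsSimpleGroup N)
    (hC : Subgroup.centralizer (N : Set G) = ⊥) (hmod : CfsgLib.Recog.GW.IsGWModel N) :
    Model G (Nat.card A) (Nat.card B) := by
  classical
  haveI := hN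
  haveI := hsimp
  haveI : IsZGroup B := P.zgrp
  have hNbot : N ≠ ⊥ := (Subgroup.nontrivial_iff_ne_bot _).1 hsimp.toNontrivial
  have hncomm : ¬ IsMulCommutative N := fun h => hNbot (le_bot_iff.1 (hC ▸ fun x hx =>
    mem_centralizer_iff.2 fun y hy =>
      congrArg Subtype.val (h.is_comm.comm (⟨y, hy⟩ : N) ⟨x, hx⟩)))
  have hNtop : N ≠ ⊤ := by
    obtain ⟨S, c, t, ε, -, -, -, -, -, s, -, hs⟩ := hS
    intro hT
    rcases (inferInstance : (ε.comp N.subtype).ker.Normal).eq_bot_or_eq_top with h | h
    · refine hncomm ⟨⟨fun a b => (MonoidHom.ker_eq_bot_iff _).1 h ?_⟩⟩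
      rw [map_mul, map_mul, mul_comm]
    · have h1 : (⟨s, hT ▸ mem_top s⟩ : N) ∈ (ε.comp N.subtype).ker := h ▸ mem_top _
      have h2 : ε s = 1 := h1
      rw [hs] at h2
      exact absurd h2 (by decide)
  have hNB : ¬ N ≤ B := fun h => hNbot (le_bot_iff.1 (P.core ▸ normal_le_normalCore.2 h))
  have hsup : N ⊔ B = ⊤ := P.maxB.2 _ (lt_of_le_of_ne le_sup_right fun e => hNB (e ▸ le_sup_left))
  have hcG := card_eq_mul P.toSetting P.disj
  set n := Nat.card A with hn
  have hBidx : B.index = n := by
    have h := B.index_mul_card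
    rw [hcG] at h
    exact Nat.eq_of_mul_eq_mul_right Nat.card_pos h
  set H := B.subgroupOf N with hH
  have hHidx : H.index = n := by
    show B.relIndex N = n
    have h1 : N.relIndex B = N.index := by
      rw [← relIndex_sup_left B N, hsup, relIndex_top_right]
    have h2 : (B ⊓ N).relIndex N * N.index = (B ⊓ N).index := relIndex_mul_index inf_le_right
    have h3 : (B ⊓ N).relIndex B * B.index = (B ⊓ N).index := relIndex_mul_index inf_le_left
    rw [inf_relIndex_right, ← h3, inf_relIndex_left, h1, hBidx, mul_comm] at h2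
    exact Nat.eq_of_mul_eq_mul_left (Nat.pos_of_ne_zero index_ne_zero_of_finite) h2
  have hHZ : IsZGroup H := IsZGroup.of_injective
    (f := ((N.subtype.comp H.subtype).codRestrict B fun x => x.2))
    fun x y h => Subtype.ext (Subtype.ext (congrArg Subtype.val h :))
  have hHtop : H ≠ ⊤ := fun h => hNB (subgroupOf_eq_top.1 h)
  obtain ⟨a, ha⟩ : ∃ a : G, orderOf a = n := by
    haveI := P.cyc
    obtain ⟨g, hg⟩ := IsCyclic.exists_generator (α := A)
    exact ⟨g, by rw [Subgroup.orderOf_coe, orderOf_eq_card_of_forall_mem_zpowers hg]⟩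
  have hcard : Nat.card N < Nat.card G := by
    refine lt_of_le_of_ne (Nat.card_le_card_of_injective _ N.subtype_injective) fun e => hNtop ?_
    exact Subgroup.eq_top_of_card_eq N e
  rcases hmod with ⟨F, _, _, hodd, hq, ⟨e⟩⟩ | ⟨⟨e⟩⟩
  · obtain ⟨K, hK, ⟨f⟩⟩ := CfsgLib.Recog.GW.PElem.exists_aut_range N hC e
    have hnle : n ≤ Fintype.card F + 1 := by
      rcases mulAut_psl_cases le_rfl ((f a : MulAut (Matrix.ProjectiveSpecialLinearGroup (Fin 2) F)))
        with ⟨g, σ, hgs⟩ | ⟨h3, -⟩
      · have h := CfsgLib.KnownA.RecipOrder.orderOf_semiAut_le (d := 2) le_rfl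
          (fun _ => by obtain ⟨j, hj⟩ := hodd; omega) g σ
        rw [← hgs, Subgroup.orderOf_coe, MulEquiv.orderOf_eq, ha] at h
        refine h.trans_eq ?_
        simp [CfsgLib.KnownA.RecipOrder.geomS, Finset.sum_range_succ, add_comm]
      · omega
    set H' := H.map e.toMonoidHom with hH'
    have hidx' : H'.index = n := by
      rw [hH', index_map_of_bijective (f := e.toMonoidHom) e.bijective, hHidx]
    haveI := hHZ
    have hZ' : IsZGroup H' := IsZGroup.of_injective (f := (e.subgroupMap H).symm.toMonoidHom)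
      (e.subgroupMap H).symm.injective
    obtain ⟨hp, hnq⟩ := psl_index_eq hodd hq H' hZ'
      (fun h => hHtop (map_injective (f := e.toMonoidHom) e.injective
        (h.trans (map_top_of_surjective _ e.surjective).symm)))
      (hidx' ▸ heven) (hidx' ▸ hnle)
    rw [hidx'] at hnq
    obtain ⟨d⟩ := mulAut_psl_equiv hp
    have hL : Nat.card N = Nat.card (Matrix.ProjectiveSpecialLinearGroup (Fin 2) F) :=
      Nat.card_congr e.toEquiv
    have h2 := CfsgLib.Recog.GenDihedral.card_pgl_eq_two_mul hodd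
    have hrange : Nat.card (MulAut.conj : Matrix.ProjectiveSpecialLinearGroup (Fin 2) F →* _).range =
        Nat.card (Matrix.ProjectiveSpecialLinearGroup (Fin 2) F) := by
      haveI := CfsgLib.ClassK.isSimpleGroup_psl_two (F := F) (by omega)
      refine (Nat.card_congr (MonoidHom.ofInjective ?_).toEquiv).symm
      rw [← MonoidHom.ker_eq_bot_iff]
      refine ((inferInstance : (MulAut.conj : Matrix.ProjectiveSpecialLinearGroup (Fin 2) F →*
        _).ker.Normal).eq_bot_or_eq_top).resolve_right fun h => hncomm ⟨⟨fun x y => e.injective ?_⟩⟩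
      have h' : MulAut.conj (e x) = 1 := MonoidHom.mem_ker.1 (h ▸ mem_top _)
      have h'' := congrArg (fun φ : MulAut _ => φ (e y)) h'
      simp only [MulAut.conj_apply, MulAut.one_apply] at h''
      rw [map_mul, map_mul]
      exact mul_inv_eq_iff_eq_mul.1 h''
    have hKG : Nat.card K = Nat.card G := (Nat.card_congr f.toEquiv).symm
    have hdvd1 := Subgroup.card_dvd_of_le hK
    have hdvd2 := Subgroup.card_subgroup_dvd_card K
    rw [← Nat.card_congr d.toEquiv, h2, hKG, ← hL] at hdvd2
    rw [hrange, hKG, ← hL] at hdvd1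
    obtain ⟨c, hc⟩ := hdvd1
    have hc2 : c = 2 := by
      rw [hc, mul_comm 2] at hdvd2
      have := (Nat.dvd_prime Nat.prime_two).1 (Nat.dvd_of_mul_dvd_mul_left Nat.card_pos hdvd2)
      rcases this with rfl | rfl
      · omega
      · rfl
    subst hc2
    have hKtop : K = ⊤ := Subgroup.eq_top_of_card_eq K (by
      rw [hKG, ← Nat.card_congr d.toEquiv, h2, hc, ← hL, mul_comm])
    refine ⟨F, inferInstance, inferInstance, Fintype.card F, hp, hq, rfl,
      ⟨(f.trans ((MulEquiv.subgroupCongr hKtop).trans Subgroup.topEquiv)).trans d.symm⟩, hnq, ?_⟩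
    have hps := CfsgLib.Classical.card_psl_two_ge (F := F)
    obtain ⟨j, hj⟩ := hodd
    rw [Nat.gcd_eq_left ⟨j, by omega⟩, ← hL, mul_comm 2, ← hc, hcG, hnq,
      show Fintype.card F ^ 2 - 1 = (Fintype.card F + 1) * (Fintype.card F - 1) from by
        rw [← Nat.sq_sub_sq, one_pow]] at hps
    exact Nat.eq_of_mul_eq_mul_left (Nat.succ_pos (Fintype.card F)) (by linarith)
  · exfalso
    obtain ⟨K, -, ⟨f⟩⟩ := CfsgLib.Recog.GW.PElem.exists_aut_range N hC e
    let c : Equiv.Perm (Fin 7) →* MulAut (alternatingGroup (Fin 7)) := MulAut.conjNormal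
    let d : Equiv.Perm (Fin 7) ≃* MulAut (alternatingGroup (Fin 7)) :=
      MulEquiv.ofBijective c (Cfsg.Agent.S2119.result 7 (by norm_num) (by norm_num))
    have hord : n ∣ 12 ∨ n ∣ 10 ∨ n ∣ 7 := by
      have ho : orderOf (d.symm (f a : MulAut (alternatingGroup (Fin 7)))) = n := by
        rw [MulEquiv.orderOf_eq, Subgroup.orderOf_coe, MulEquiv.orderOf_eq, ha]
      rw [← ho]
      exact (perm_seven_pow _).imp orderOf_dvd_of_pow_eq_one
        (Or.imp orderOf_dvd_of_pow_eq_one orderOf_dvd_of_pow_eq_one)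
    have hfac := CfsgLib.Chev.Rigid.Count.dvd_factorial_index hHtop
    rw [Nat.card_congr e.toEquiv, nat_card_alternatingGroup, Nat.card_eq_fintype_card,
      Fintype.card_fin, hHidx] at hfac
    have hn12 : n ≤ 12 := by
      rcases hord with h | h | h <;> have := Nat.le_of_dvd (by norm_num) h <;> omega
    have hn' : n = 10 ∨ n = 12 := by
      obtain ⟨i, hi⟩ := heven
      interval_cases n <;>
        first | omega | (norm_num [Nat.factorial] at hfac) | (norm_num at hord)
    haveI := hHZ
    refine alt_seven_false (H.map e.toMonoidHom) (IsZGroup.of_injective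
      (f := (e.subgroupMap H).symm.toMonoidHom) (e.subgroupMap H).symm.injective) ?_
    rw [index_map_of_bijective (f := e.toMonoidHom) e.bijective, hHidx]
    exact hn'

end Setting

section Small

open CfsgLib.Geom CfsgLib.Geom.Moebius

/-- The dihedral group of order `2 m` lies in the one of order `2 k` for `m ∣ k`. -/
theorem exists_dihedral_hom_of_dvd {k m : ℕ} [NeZero k] (hm : m ∣ k) :
    ∃ F : DihedralGroup m →* DihedralGroup k, Function.Injective F := by
  obtain ⟨c, hc⟩ := hm
  let φ : ZMod m →+ ZMod k := ZMod.lift m ⟨(Int.castAddHom (ZMod k)).comp (AddMonoidHom.mulLeft (c : ℤ)), by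
    show (((c : ℤ) * (m : ℤ) : ℤ) : ZMod k) = 0
    rw [ZMod.intCast_zmod_eq_zero_iff_dvd]; exact ⟨1, by rw [hc]; push_cast; ring⟩⟩
  have hφ : Function.Injective φ := by
    rw [injective_iff_map_eq_zero]
    intro a ha
    obtain ⟨a, rfl⟩ := ZMod.intCast_surjective a
    simp only [φ, ZMod.lift_coe] at ha
    change (((c : ℤ) * a : ℤ) : ZMod k) = 0 at ha
    rw [ZMod.intCast_zmod_eq_zero_iff_dvd] at ha ⊢
    have hc0 : (c : ℤ) ≠ 0 := by
      intro e
      exact NeZero.ne k (by rw [hc, Int.ofNat_eq_zero.1 e, mul_zero])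
    rw [hc] at ha
    push_cast at ha
    rw [mul_comm (m : ℤ)] at ha
    exact Int.dvd_of_mul_dvd_mul_left hc0 ha
  let F : DihedralGroup m →* DihedralGroup k := MonoidHom.mk'
    (fun x => match x with | .r i => .r (φ i) | .sr i => .sr (φ i))
    (by rintro (i | i) (j | j) <;> simp [map_add, map_sub])
  refine ⟨F, ?_⟩
  rintro (i | i) (j | j) e <;> simp [F] at e
  · rw [hφ e]
  · rw [hφ e]

/-- A group all of whose Sylow 2-subgroups are dihedral, from one dihedral 2-subgroup of full
order. -/
theorem sylow_dihedral_of_hom {X : Type*} [Group X] [Finite X] {j : ℕ}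
    (F : DihedralGroup (2 ^ j) →* X) (hF : Function.Injective F)
    (hfull : (Nat.card X).factorization 2 = j + 1) (S : Sylow 2 X) :
    Nonempty ((S : Subgroup X) ≃* DihedralGroup (2 ^ j)) := by
  haveI : Fact (Nat.Prime 2) := ⟨Nat.prime_two⟩
  have hcard : Nat.card F.range = 2 ^ (Nat.card X).factorization 2 := by
    rw [← Nat.card_congr (MonoidHom.ofInjective hF).toEquiv, DihedralGroup.nat_card, hfull,
      pow_succ, mul_comm]
  obtain ⟨g, hg⟩ := MulAction.exists_smul_eq X (Sylow.ofCard F.range hcard) S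
  have h : F.range.map (MulAut.conj g).toMonoidHom = (S : Subgroup X) := congrArg Sylow.toSubgroup hg
  exact ⟨((MulEquiv.subgroupCongr h.symm).trans
    ((MulAut.conj g).subgroupMap F.range).symm).trans (MonoidHom.ofInjective hF).symm⟩

theorem smallModel_of_model {X : Type u} [Group X] [Finite X] {a b : ℕ} (h : Model X a b)
    (h4 : 4 ∣ a) : SmallModel X := by
  classical
  obtain ⟨F, _, _, p, hp, hp3, hF, ⟨d⟩, ha, -⟩ := h
  have hodd : Odd (Fintype.card F) := hF ▸ hp.odd_of_ne_two (by omega)
  have hq4 : 4 ≤ Fintype.card F := by omega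
  let e : X ≃* PGL(2, F) := d
  have := finite_pgl_two (F := F)
  refine ⟨fun S => ?_, fun E hE s hs t ht hso hto => ?_⟩
  · haveI : Fact (Nat.Prime 2) := ⟨Nat.prime_two⟩
    obtain ⟨E', _, _, f, hE', hQC⟩ := exists_quadExt F
    obtain ⟨P, Q, g, hne, hg, hgP, hgQ, hcard⟩ := exists_torus_nonsplit f hE' hQC
    obtain ⟨-, -, w, hwP, hwQ⟩ := torus_pair f hE' hQC hne hg hgP hgQ
    obtain ⟨⟨ed⟩, -⟩ := pairStab_dihedral f hQC hne ⊤ (mem_top w) hwP hwQ (by
      rw [inf_top_eq, hcard]; omega)
    rw [inf_top_eq (a := fixExt f P ⊓ fixExt f Q), hcard] at ed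
    set j := (Fintype.card F + 1).factorization 2 with hj
    obtain ⟨Φ, hΦ⟩ := exists_dihedral_hom_of_dvd (k := Fintype.card F + 1)
      (Nat.ordProj_dvd (Fintype.card F + 1) 2)
    let Ψ : DihedralGroup (2 ^ j) →* X :=
      e.symm.toMonoidHom.comp ((Subgroup.subtype _).comp (ed.symm.toMonoidHom.comp Φ))
    have hΨ : Function.Injective Ψ :=
      e.symm.injective.comp (Subtype.val_injective.comp (ed.symm.injective.comp hΦ))
    refine ⟨2 ^ j, ?_, sylow_dihedral_of_hom Ψ hΨ ?_ S⟩
    · refine le_trans (le_of_eq (pow_one 2).symm) (Nat.pow_le_pow_right two_pos ?_)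
      rw [hj, ← Nat.prime_two.pow_dvd_iff_le_factorization (by omega), pow_one, hF]
      omega
    · rw [Nat.card_congr e.toEquiv,
        show Nat.card PGL(2, F) = (Fintype.card F + 1) * (Fintype.card F * (Fintype.card F - 1)) from
          card_pgl_two, Nat.factorization_mul (by omega)
          (Nat.mul_ne_zero (by omega) (by omega)), Finsupp.add_apply,
        Nat.factorization_mul (by omega) (by omega), Finsupp.add_apply, ← hj, hF,
        Nat.factorization_eq_zero_of_not_dvd (show ¬ 2 ∣ p by omega), zero_add, add_right_inj]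
      rw [show p - 1 = 2 * ((p - 1) / 2) by omega, Nat.factorization_mul (by omega) (by omega),
        Finsupp.add_apply, Nat.prime_two.factorization_self,
        Nat.factorization_eq_zero_of_not_dvd (show ¬ 2 ∣ (p - 1) / 2 by omega)]
  · haveI := CfsgLib.ClassK.isSimpleGroup_psl_two (F := F) hq4
    set E' := E.map e.toMonoidHom with hE'
    have hidx : E'.index = 2 := by
      rw [hE', index_map_of_bijective (f := e.toMonoidHom) e.bijective, hE]
    let ψ : Matrix.ProjectiveSpecialLinearGroup (Fin 2) F →* PGL(2, F) :=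
      Matrix.ProjectiveSpecialLinearGroup.toPGL
    have hle : imL F ≤ E' := by
      haveI : E'.Normal := normal_of_index_eq_two hidx
      rcases (inferInstance : (E'.comap ψ).Normal).eq_bot_or_eq_top with hb | ht'
      · exfalso
        have hall : ∀ x : Matrix.ProjectiveSpecialLinearGroup (Fin 2) F, x * x = 1 := fun x => by
          have hx : x * x ∈ E'.comap ψ := by
            rw [mem_comap, map_mul]; exact mul_self_mem_of_index_two hidx _
          rw [hb] at hx
          exact mem_bot.1 hx
        obtain ⟨x, y, hxy⟩ : ∃ x y : Matrix.ProjectiveSpecialLinearGroup (Fin 2) F,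
            x * y ≠ y * x := by
          by_contra hc
          push Not at hc
          have hpl := CfsgLib.Classical.card_psl_two_bound (F := F) (by omega)
          have : IsMulCommutative (Matrix.ProjectiveSpecialLinearGroup (Fin 2) F) := ⟨⟨hc⟩⟩
          letI : CommGroup (Matrix.ProjectiveSpecialLinearGroup (Fin 2) F) :=
            { (inferInstance : Group (Matrix.ProjectiveSpecialLinearGroup (Fin 2) F)) with
              mul_comm := hc }
          have := IsSimpleGroup.prime_card (α := Matrix.ProjectiveSpecialLinearGroup (Fin 2) F)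
          obtain ⟨z, hz⟩ := exists_prime_orderOf_dvd_card'
            (hp := ⟨this⟩) (G := Matrix.ProjectiveSpecialLinearGroup (Fin 2) F) _ dvd_rfl
          have h2' := orderOf_dvd_of_pow_eq_one (n := 2) (x := z) (by rw [pow_two, hall])
          rw [hz] at h2'
          have := Nat.le_of_dvd two_pos h2'
          omega
        refine hxy ?_
        calc x * y = (x * y)⁻¹ := (inv_eq_of_mul_eq_one_right (hall _)).symm
          _ = y⁻¹ * x⁻¹ := mul_inv_rev x y
          _ = y * x := by
            rw [inv_eq_of_mul_eq_one_right (hall x), inv_eq_of_mul_eq_one_right (hall y)]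
      · rintro _ ⟨x, rfl⟩
        exact (show x ∈ E'.comap ψ from ht' ▸ mem_top x)
    have heq : E' = imL F := by
      refine (Subgroup.eq_of_le_of_card_ge hle ?_).symm
      have h1 := E'.index_mul_card
      have h2 := (imL F).index_mul_card
      rw [hidx] at h1
      rw [imL_index hodd] at h2
      omega
    obtain ⟨s', hs'⟩ : e s ∈ imL F := heq ▸ mem_map_of_mem e.toMonoidHom hs
    obtain ⟨t', ht''⟩ : e t ∈ imL F := heq ▸ mem_map_of_mem e.toMonoidHom ht
    have ho : ∀ (x : X) (x' : Matrix.ProjectiveSpecialLinearGroup (Fin 2) F), ψ x' = e x →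
        orderOf x = 2 → orderOf x' = 2 := fun x x' hx h2 => by
      rw [← orderOf_injective ψ Matrix.ProjectiveSpecialLinearGroup.toPGL_injective, hx,
        MulEquiv.orderOf_eq, h2]
    have hc := CfsgLib.Fusion.psl_two_involutions_conj hodd s' t' (ho s s' hs' hso) (ho t t' ht'' hto)
    have hc' := (e.symm.toMonoidHom.comp ψ).map_isConj hc
    simpa [MonoidHom.comp_apply, ψ, hs', ht''] using hc'

theorem perm_four_conj : ∀ s t : Equiv.Perm (Fin 4), s * s = 1 → s ≠ 1 → Equiv.Perm.sign s = 1 →
    t * t = 1 → t ≠ 1 → Equiv.Perm.sign t = 1 → ∃ g : Equiv.Perm (Fin 4), g * s * g⁻¹ = t := by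
  decide +kernel

theorem smallModel_perm_four {X : Type u} [Group X] [Finite X]
    (e : Nonempty (X ≃* Equiv.Perm (Fin 4))) : SmallModel X := by
  classical
  obtain ⟨e⟩ := e
  refine ⟨fun S => ?_, fun E hE s hs t ht hso hto => ?_⟩
  · haveI : Fact (Nat.Prime 2) := ⟨Nat.prime_two⟩
    let f : DihedralGroup 4 → Equiv.Perm (Fin 4) := fun x => match x with
      | .r i => (finRotate 4) ^ i.val
      | .sr i => (Equiv.swap 1 3) * (finRotate 4) ^ i.val
    have hmul : ∀ x y, f (x * y) = f x * f y := by decide +kernel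
    have hinj : Function.Injective f := by
      intro x y
      revert x y
      decide +kernel
    let Φ : DihedralGroup (2 ^ 2) →* Equiv.Perm (Fin 4) := MonoidHom.mk' f hmul
    refine ⟨2 ^ 2, by norm_num, sylow_dihedral_of_hom (e.symm.toMonoidHom.comp Φ)
      (e.symm.injective.comp hinj) ?_ S⟩
    rw [Nat.card_congr e.toEquiv, Nat.card_eq_fintype_card, Fintype.card_perm, Fintype.card_fin,
      show (4 : ℕ).factorial = 2 ^ 3 * 3 by rfl, Nat.factorization_mul (by norm_num) (by norm_num),
      Finsupp.add_apply, Nat.prime_two.factorization_pow, Finsupp.single_eq_same,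
      Nat.factorization_eq_zero_of_not_dvd (show ¬ 2 ∣ 3 by norm_num)]
  · have hidx : (E.map e.toMonoidHom).index = 2 := by
      rw [index_map_of_bijective (f := e.toMonoidHom) e.bijective, hE]
    have hE' := Equiv.Perm.eq_alternatingGroup_of_index_eq_two hidx
    have hes : ∀ x ∈ E, Equiv.Perm.sign (e x) = 1 := fun x hx =>
      Equiv.Perm.mem_alternatingGroup.1 (hE' ▸ mem_map_of_mem e.toMonoidHom hx)
    have ho : ∀ x : X, orderOf x = 2 → e x * e x = 1 ∧ e x ≠ 1 := fun x hx => by
      constructor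
      · rw [← map_mul, ← pow_two, ← hx, pow_orderOf_eq_one, map_one]
      · intro h
        rw [MulEquiv.map_eq_one_iff] at h
        rw [h, orderOf_one] at hx
        omega
    obtain ⟨g, hg⟩ := perm_four_conj (e s) (e t) (ho s hso).1 (ho s hso).2 (hes s hs) (ho t hto).1
      (ho t hto).2 (hes t ht)
    refine isConj_iff.2 ⟨e.symm g, e.injective ?_⟩
    rw [map_mul, map_mul, map_inv, MulEquiv.apply_symm_apply, hg]

end Small

end CfsgLib.Recog.ABProd
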