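import Cfsg.Agent.Lib.Recog.ABProd.SylowMain

/-!
The group on the fixed points is a smaller instance of the main statement, so it is `PGL₂(p)` or
the symmetric group of degree four.
-/

set_option autoImplicit false
set_option linter.unusedSectionVars false

namespace CfsgLib.Recog.ABProd

open MulAction Subgroup

universe u

variable {G : Type u} [Group G] [Finite G] {A B : Subgroup G}

/-- The Sylow 2-subgroup data, from the statement for smaller groups and the two facts about the
small models. -/
theorem sylowData_of_models (P : Prim A B) (ih : ModelBelow.{u} (Nat.card G))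
    (hmodel : ∀ (X : Type u) [Group X] [Finite X] (a b : ℕ), Model X a b → 4 ∣ a → SmallModel X)
    (hfour : ∀ (X : Type u) [Group X] [Finite X], Nonempty (X ≃* Equiv.Perm (Fin 4)) → SmallModel X) :
    SylowData G := by
  refine sylowData_of_prim' P fun z j D h4 => ?_
  by_cases hsol : Group.IsSolvable (XGrp B j)
  · rcases D.card_fix_of_solvable P with h | h
    · rw [h] at h4; norm_num at h4
    · exact hfour _ (D.x_four P h)
  · have hM := ih (XGrp B j) (D.card_X_lt P) _ _ (D.setting P) (D.x_radFree P hsol) hsol
    exact hmodel _ _ _ hM (by rw [D.card_img_A P]; exact h4)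

end CfsgLib.Recog.ABProd
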