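import Cfsg.Agent.Lib.Recog.ABProd.Main
import Cfsg.Agent.Lib.Recog.ABProd.XModel
import Cfsg.Agent.Lib.Recog.ABProd.Ident

/-!
The factorisation theorem, given the dihedral Sylow 2-subgroup theorem for perfect groups.
-/

set_option autoImplicit false

namespace CfsgLib.Recog.ABProd

universe u

/-- The induction, with the dihedral theorem as the only hypothesis. -/
theorem modelBelow_of_perfectDihedral (hGW : CfsgLib.Recog.GW.PerfectDihedral.{u}) :
    ∀ N, ModelBelow.{u} N :=
  model_all hGW
    (fun P ih => sylowData_of_models P ih (fun _ _ _ _ _ h h4 => smallModel_of_model h h4)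
      (fun _ _ _ h => smallModel_perm_four h))
    (fun P he hS N hN hs hC hm => model_of_socle P he hS N hN hs hC hm)

/-- The statement, with the dihedral theorem as the only hypothesis. -/
theorem result_of_perfectDihedral (hGW : CfsgLib.Recog.GW.PerfectDihedral.{u}) {G : Type u}
    [Group G] [Finite G]
    (hG : ¬ Group.IsSolvable G) (A B : Subgroup G) (hA : IsCyclic ↥A)
    (hB : ∀ (q : ℕ) [Fact q.Prime] (Q : Sylow q ↥B), IsCyclic ↥(Q : Subgroup ↥B))
    (hAB : ∀ g : G, ∃ a ∈ A, ∃ b ∈ B, g = a * b)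
    (R : Subgroup G) [R.Normal] (hRs : Group.IsSolvable ↥R)
    (hRmax : ∀ N : Subgroup G, N.Normal → Group.IsSolvable ↥N → N ≤ R) :
    ∃ (F : Type) (_ : Field F) (_ : Fintype F) (p : ℕ), p.Prime ∧ 3 < p ∧ Fintype.card F = p ∧
      Nonempty ((G ⧸ R) ≃* (GL (Fin 2) F ⧸ Subgroup.center (GL (Fin 2) F))) :=
  result_of_model (modelBelow_of_perfectDihedral hGW) hG A B hA hB hAB R hRs hRmax

end CfsgLib.Recog.ABProd
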