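import Cfsg.Agent.Lib.Recog.ABProd.Defs
import Cfsg.Agent.Lib.Recog.SchurCyclic
import Cfsg.Agent.Lib.Recog.GenDihedral.ReduceBase
import Cfsg.Agent.S3972
import Mathlib.GroupTheory.GroupAction.MultipleTransitivity
import Mathlib.GroupTheory.GroupAction.Primitive
import Mathlib.GroupTheory.GroupAction.Quotient
import Mathlib.Tactic

/-!
A primitive group with a regular cyclic subgroup and a Z-group as point stabiliser: it is
2-transitive of even degree, every two-point stabiliser is cyclic of even order, and every pair of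
points is fixed by exactly one involution.
-/

set_option autoImplicit false

namespace CfsgLib.Recog.ABProd

open MulAction Subgroup

universe u

variable {G : Type u} [Group G] {A B : Subgroup G}

/-- The base point of the coset space. -/
abbrev pt (B : Subgroup G) : G ⧸ B := ((1 : G) : G ⧸ B)

theorem smul_pt_eq_iff {B : Subgroup G} {g : G} : g • pt B = pt B ↔ g ∈ B := by
  rw [← mem_stabilizer_iff, stabilizer_quotient]

theorem commute_of_cyclic {H : Subgroup G} (hH : IsCyclic H) {x y : G} (hx : x ∈ H) (hy : y ∈ H) :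
    x * y = y * x :=
  congrArg Subtype.val ((IsCyclic.isMulCommutative (α := H)).is_comm.comm ⟨x, hx⟩ ⟨y, hy⟩)

/-- A subgroup of a Z-group meeting the derived group trivially is cyclic. -/
theorem isCyclic_of_disjoint_commutator {H : Type*} [Group H] [Finite H] [IsZGroup H]
    (D : Subgroup H) (hD : D ⊓ commutator H = ⊥) : IsCyclic D := by
  refine isCyclic_of_injective ((Abelianization.of).comp D.subtype) ?_
  rw [← MonoidHom.ker_eq_bot_iff, eq_bot_iff]
  intro x hx
  have h1 : (x : H) ∈ commutator H := by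
    rw [← Abelianization.ker_of]
    exact hx
  have h2 : (x : H) ∈ D ⊓ commutator H := ⟨x.2, h1⟩
  rw [hD, Subgroup.mem_bot] at h2
  exact Subgroup.mem_bot.2 (Subtype.ext h2)

/-- In a finite cyclic group the elements of order dividing `orderOf b` are the powers of `b`. -/
theorem mem_zpowers_of_cyclic {C : Type*} [Group C] [Finite C] [IsCyclic C] {b x : C}
    (hx : x ^ orderOf b = 1) : x ∈ Subgroup.zpowers b := by
  classical
  haveI := Fintype.ofFinite C
  by_contra h
  have h1 := IsCyclic.card_pow_eq_one_le (α := C) (orderOf_pos b)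
  have h2 : (insert x (Finset.univ.filter fun y => y ∈ Subgroup.zpowers b)).card ≤
      (Finset.univ.filter fun y : C => y ^ orderOf b = 1).card := by
    refine Finset.card_le_card (Finset.insert_subset (by simp [hx]) fun y hy => ?_)
    simp only [Finset.mem_filter, Finset.mem_univ, true_and] at hy ⊢
    obtain ⟨k, rfl⟩ := Subgroup.mem_zpowers_iff.1 hy
    rw [← zpow_natCast, ← zpow_mul, mul_comm, zpow_mul, zpow_natCast, pow_orderOf_eq_one, one_zpow]
  rw [Finset.card_insert_of_notMem (by simpa using h)] at h2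
  have h3 : (Finset.univ.filter fun y => y ∈ Subgroup.zpowers b).card = orderOf b := by
    rw [← Nat.card_zpowers, Nat.card_eq_fintype_card, ← Fintype.card_subtype]
  omega

/-- A cyclic group has at most one involution. -/
theorem invol_unique_of_cyclic {H : Subgroup G} [Finite H] (hH : IsCyclic H) {s t : G} (hs : s ∈ H) (ht : t ∈ H)
    (hs2 : orderOf s = 2) (ht2 : orderOf t = 2) : s = t := by
  have h1 : (⟨t, ht⟩ : H) ∈ Subgroup.zpowers (⟨s, hs⟩ : H) :=
    mem_zpowers_of_cyclic (Subtype.ext (by simp [Subgroup.orderOf_mk, hs2, ← ht2, pow_orderOf_eq_one]))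
  obtain ⟨k, hk⟩ := Subgroup.mem_zpowers_iff.1 h1
  have hk' : s ^ k = t := congrArg Subtype.val hk
  rw [← zpow_mod_orderOf, hs2] at hk'
  rcases Int.emod_two_eq_zero_or_one k with h0 | h0
  · rw [Nat.cast_ofNat, h0, zpow_zero] at hk'
    rw [← hk', orderOf_one] at ht2
    simp at ht2
  · rw [Nat.cast_ofNat, h0, zpow_one] at hk'
    exact hk'

namespace Prim

variable (P : Prim A B)
include P

theorem faithful : FaithfulSMul G (G ⧸ B) := ⟨fun {g h} hgh => by
  have h1 : g⁻¹ * h ∈ B.normalCore := by
    rw [Subgroup.normalCore_eq_ker, MonoidHom.mem_ker]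
    refine Equiv.ext fun x => ?_
    simp [MulAction.toPermHom_apply, mul_smul, ← hgh x]
  rw [P.core, Subgroup.mem_bot, inv_mul_eq_one] at h1
  exact h1⟩

theorem regular_bijective : Function.Bijective fun a : A => (a : G) • pt B := by
  constructor
  · intro a b hab
    have h : ((a⁻¹ * b : A) : G) • pt B = pt B := by
      rw [Subgroup.coe_mul, Subgroup.coe_inv, mul_smul, inv_smul_eq_iff]
      exact hab.symm
    have h' : ((a⁻¹ * b : A) : G) ∈ A ⊓ B := ⟨(a⁻¹ * b).2, smul_pt_eq_iff.1 h⟩
    rw [P.disj, Subgroup.mem_bot] at h'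
    exact inv_mul_eq_one.1 (Subtype.ext h')
  · intro x
    obtain ⟨g, rfl⟩ := QuotientGroup.mk_surjective x
    obtain ⟨a, ha, b, hb, rfl⟩ := P.prod g
    refine ⟨⟨a, ha⟩, ?_⟩
    show a • pt B = _
    rw [show pt B = b • pt B from (smul_pt_eq_iff.2 hb).symm, ← mul_smul, MulAction.Quotient.smul_mk,
      smul_eq_mul, mul_one]

theorem card_points : Nat.card (G ⧸ B) = Nat.card A :=
  (Nat.card_congr (Equiv.ofBijective _ P.regular_bijective)).symm

theorem index_eq : B.index = Nat.card A := by rw [Subgroup.index_eq_card, P.card_points]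

theorem card_eq : Nat.card G = Nat.card A * Nat.card B := by
  rw [← P.index_eq, mul_comm, B.card_mul_index]

theorem nontrivial_points : Nontrivial (G ⧸ B) := by
  obtain ⟨g, -, hg⟩ := SetLike.exists_of_lt (lt_top_iff_ne_top.2 P.maxB.1)
  exact ⟨g • pt B, pt B, fun h => hg (smul_pt_eq_iff.1 h)⟩

theorem preprimitive : IsPreprimitive G (G ⧸ B) := by
  haveI := P.nontrivial_points
  exact (isCoatom_stabilizer_iff_preprimitive G (pt B)).1 (by rw [stabilizer_quotient]; exact P.maxB)

variable [Finite G]

theorem even_card_A : Even (Nat.card A) := by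
  classical
  have : Fact (Nat.Prime 2) := ⟨Nat.prime_two⟩
  by_contra hodd
  obtain ⟨T⟩ := (inferInstance : Nonempty (Sylow 2 B))
  have hcard : Nat.card ((T : Subgroup B).map B.subtype) = 2 ^ (Nat.card G).factorization 2 := by
    rw [Nat.card_congr ((T : Subgroup B).equivMapOfInjective B.subtype B.subtype_injective).toEquiv.symm,
      T.card_eq_multiplicity, P.card_eq, Nat.factorization_mul Nat.card_pos.ne' Nat.card_pos.ne']
    rw [Finsupp.add_apply, Nat.factorization_eq_zero_of_not_dvd (n := Nat.card A)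
      (fun h => hodd (even_iff_two_dvd.2 h)), zero_add]
  let T' : Sylow 2 G := Sylow.ofCard _ hcard
  haveI := P.zgrp
  have hc : IsCyclic (T' : Subgroup G) := by
    haveI : IsCyclic T := inferInstance
    rw [Sylow.coe_ofCard]
    exact isCyclic_of_surjective _ ((T : Subgroup B).equivMapOfInjective B.subtype B.subtype_injective).surjective
  exact P.nonsolv (CfsgLib.Recog.GenDihedral.isSolvable_of_cyclic_sylow T' hc)

theorem two_lt_card_A : 2 < Nat.card A := by
  classical
  haveI := P.nontrivial_points
  have h1 : 1 < Nat.card A := P.card_points ▸ Finite.one_lt_card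
  by_contra h
  have h2 : Nat.card (G ⧸ B) = 2 := by rw [P.card_points]; omega
  haveI := P.faithful
  have hinj := MulAction.toPerm_injective (α := G) (β := G ⧸ B)
  have hle : Nat.card G ≤ 2 := by
    have := Nat.card_le_card_of_injective _ hinj
    rwa [Nat.card_perm, h2] at this
  refine P.nonsolv ?_
  haveI : IsCyclic G := by
    rcases Nat.lt_or_ge 1 (Nat.card G) with h' | h'
    · exact isCyclic_of_prime_card (p := 2) (hp := ⟨Nat.prime_two⟩) (by omega)
    · haveI := (Nat.card_eq_one_iff_unique.1 (le_antisymm h' Nat.card_pos)).1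
      exact isCyclic_of_subsingleton
  infer_instance

theorem two_transitive : IsMultiplyPretransitive G (G ⧸ B) 2 := by
  classical
  haveI := P.cyc
  letI : CommGroup A := IsCyclic.commGroup
  have hn := P.two_lt_card_A
  by_cases hpp : IsPrimePow (Nat.card A)
  · obtain ⟨p, m, hp, hm0, hpm⟩ := hpp
    have h2 := P.even_card_A
    rw [← hpm, Nat.even_pow] at h2
    have hp' : Nat.Prime p := hp.nat_prime
    have hp2 : p = 2 := (hp'.eq_two_or_odd').resolve_right (fun h => Nat.not_even_iff_odd.2 h h2.1)
    have hm : 2 ≤ m := by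
      by_contra hm
      have : m = 1 := by omega
      rw [this, pow_one] at hpm
      omega
    obtain ⟨g, hg⟩ := IsCyclic.exists_generator (α := A)
    exact Cfsg.Agent.S3972.two_transitive_of_prime_power A.subtype (pt B) P.regular_bijective hp' hm g
      hg (by rw [orderOf_eq_card_of_forall_mem_zpowers hg, hpm]) P.preprimitive
  · exact CfsgLib.Recog.SchurCyclic.two_transitive A.subtype (pt B) P.regular_bijective P.preprimitive
      (by omega) hpp

theorem exists_map_pair {x y u v : G ⧸ B} (hxy : x ≠ y) (huv : u ≠ v) :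
    ∃ g : G, g • x = u ∧ g • y = v :=
  (is_two_pretransitive_iff.1 P.two_transitive) hxy huv

/-- The stabiliser in `B` of a second point is cyclic. -/
theorem pair_stabilizer_cyclic {x y : G ⧸ B} (hxy : x ≠ y) :
    IsCyclic ↥(stabilizer G x ⊓ stabilizer G y) := by
  classical
  haveI := P.zgrp
  -- the base case
  have key : ∀ w : G ⧸ B, w ≠ pt B → IsCyclic ↥((stabilizer G w).subgroupOf B) := by
    intro w hw
    refine isCyclic_of_disjoint_commutator _ (eq_bot_iff.2 ?_)
    rintro b ⟨hbw, hbc⟩
    haveI hcc : IsCyclic (commutator B) := IsZGroup.isCyclic_commutator _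
    haveI : (Subgroup.zpowers b).Normal := ⟨fun x hx g => by
      have hgx : g * x * g⁻¹ ∈ commutator B :=
        (inferInstance : (commutator B).Normal).conj_mem x ((Subgroup.zpowers_le.2 hbc) hx) g
      have horder : orderOf (g * x * g⁻¹) ∣ orderOf b := by
        rw [show g * x * g⁻¹ = MulAut.conj g x from rfl, MulEquiv.orderOf_eq]
        exact orderOf_dvd_of_mem_zpowers hx
      have : (⟨g * x * g⁻¹, hgx⟩ : commutator B) ∈ Subgroup.zpowers (⟨b, hbc⟩ : commutator B) := by
        refine mem_zpowers_of_cyclic (Subtype.ext ?_)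
        simpa [Subgroup.orderOf_mk] using orderOf_dvd_iff_pow_eq_one.1 horder
      obtain ⟨k, hk⟩ := Subgroup.mem_zpowers_iff.1 this
      exact Subgroup.mem_zpowers_iff.2 ⟨k, congrArg Subtype.val hk⟩⟩
    rw [Subgroup.mem_bot]
    haveI := P.faithful
    refine Subtype.ext (eq_of_smul_eq_smul (α := G ⧸ B) fun z => ?_)
    rw [OneMemClass.coe_one, one_smul]
    by_cases hz : z = pt B
    · subst hz; exact smul_pt_eq_iff.2 b.2
    obtain ⟨g, hg1, hg2⟩ := P.exists_map_pair (x := pt B) (y := z) (u := pt B) (v := w) (Ne.symm hz) (Ne.symm hw)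
    let g' : B := ⟨g, smul_pt_eq_iff.1 hg1⟩
    obtain ⟨k, hk⟩ := Subgroup.mem_zpowers_iff.1 ((inferInstance : (Subgroup.zpowers b).Normal).conj_mem b (Subgroup.mem_zpowers b) g')
    have hw' : (((g' * b * g'⁻¹ : B)) : G) • w = w := by
      rw [← hk, Subgroup.coe_zpow]
      exact mem_stabilizer_iff.1 (zpow_mem (mem_stabilizer_iff.2 hbw) k)
    simp only [Subgroup.coe_mul, Subgroup.coe_inv, mul_smul, g'] at hw'
    rw [← hg2, inv_smul_smul] at hw'
    exact smul_left_cancel g hw'
  obtain ⟨g, hg1, hg2⟩ : ∃ g : G, g • x = pt B ∧ g • y ≠ pt B := by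
    haveI := P.nontrivial_points
    obtain ⟨w, hw⟩ := exists_ne (pt B)
    obtain ⟨g, h1, h2⟩ := P.exists_map_pair hxy (Ne.symm hw)
    exact ⟨g, h1, h2 ▸ hw⟩
  haveI := key (g • y) hg2
  let f : ↥(stabilizer G x ⊓ stabilizer G y) →* ↥((stabilizer G (g • y)).subgroupOf B) :=
    { toFun := fun h => ⟨⟨g * h * g⁻¹, smul_pt_eq_iff.1 (by
          rw [mul_smul, mul_smul, ← hg1, inv_smul_smul, mem_stabilizer_iff.1 h.2.1])⟩, by
        show (g * (h : G) * g⁻¹) • (g • y) = g • y
        rw [mul_smul, mul_smul, inv_smul_smul, mem_stabilizer_iff.1 h.2.2]⟩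
      map_one' := Subtype.ext (Subtype.ext (by simp))
      map_mul' := fun a b => Subtype.ext (Subtype.ext (by simp [mul_assoc])) }
  refine isCyclic_of_injective f fun a b h => Subtype.ext ?_
  have := congrArg Subtype.val (congrArg Subtype.val h)
  simpa [f] using this

end Prim

end CfsgLib.Recog.ABProd
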