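import Cfsg.Agent.Lib.Recog.ABProd.SylImage
import Cfsg.Agent.Lib.Invol.BrauerSuzuki
import Cfsg.Agent.Lib.FT.OddOrder
import Mathlib.GroupTheory.Nilpotent

/-!
In a primitive group with a regular cyclic subgroup and a Z-group as point stabiliser the Sylow
2-subgroup has a cyclic subgroup of index two.
-/

set_option autoImplicit false
set_option linter.unusedSectionVars false

namespace CfsgLib.Recog.ABProd

open MulAction Subgroup

universe u

variable {G : Type u} [Group G] [Finite G] {A B : Subgroup G} {z j : G} {S : Sylow 2 G}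
  {u b : G} {k l : ℕ}

/-- Powers of a product with a normalised cyclic 2-group. -/
theorem pow_two_pow_mul {g c : G} (hs : ∀ n : ℕ, ∃ s : ℤ, Odd s ∧ (g ^ n)⁻¹ * c * g ^ n = c ^ s) (q : ℤ) :
    ∀ n : ℕ, ∃ w : ℤ, (g * c ^ q) ^ 2 ^ n = g ^ 2 ^ n * c ^ (2 ^ n * w) := by
  intro n
  induction n with
  | zero => exact ⟨q, by simp⟩
  | succ n ih =>
    obtain ⟨w, hw⟩ := ih
    obtain ⟨s, ⟨t, rfl⟩, hst⟩ := hs (2 ^ n)
    refine ⟨w * (t + 1), ?_⟩
    have h : (g ^ 2 ^ n)⁻¹ * c ^ ((2 : ℤ) ^ n * w) * g ^ 2 ^ n = c ^ ((2 * t + 1) * (2 ^ n * w)) := by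
      rw [zpow_mul c (2 * t + 1), ← hst]
      have e := conj_zpow (a := (g ^ 2 ^ n)⁻¹) (b := c) (i := (2 : ℤ) ^ n * w)
      rw [inv_inv] at e
      exact e.symm
    calc (g * c ^ q) ^ 2 ^ (n + 1)
        = (g ^ 2 ^ n * c ^ ((2 : ℤ) ^ n * w)) * (g ^ 2 ^ n * c ^ ((2 : ℤ) ^ n * w)) := by
          rw [pow_succ, pow_mul, hw, pow_two]
      _ = g ^ 2 ^ n * g ^ 2 ^ n * ((g ^ 2 ^ n)⁻¹ * c ^ ((2 : ℤ) ^ n * w) * g ^ 2 ^ n) * c ^ ((2 : ℤ) ^ n * w) := by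
          group
      _ = g ^ 2 ^ (n + 1) * c ^ ((2 : ℤ) ^ (n + 1) * (w * (t + 1))) := by
          rw [h, mul_assoc, ← zpow_add, ← pow_add, ← two_mul, ← pow_succ']
          congr 2
          ring

namespace Ctx

variable (X : Ctx A B z j S u b k l)
include X

theorem b_sq_ord (h2 : 2 ≤ l) : orderOf (b * b) = 2 ^ (l - 1) := by
  rw [← pow_two, orderOf_pow' _ two_ne_zero, X.ad.b_ord, Nat.gcd_eq_right (dvd_pow_self 2 (by omega))]
  calc 2 ^ l / 2 = 2 ^ (l - 1 + 1) / 2 := by rw [Nat.sub_add_cancel (by omega : 1 ≤ l)]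
    _ = 2 ^ (l - 1) := by rw [pow_succ, Nat.mul_div_cancel _ two_pos]

/-- Elements of `S ∩ C(j)` conjugate `b²` to an odd power. -/
theorem conj_b_sq (F : ImgFacts B j z b ∨ ∃ v, ImgFacts B j v b) (h2 : 2 ≤ l) {g : G}
    (hg : g ∈ (S : Subgroup G) ⊓ Cj j) : ∃ s : ℤ, Odd s ∧ g⁻¹ * (b * b) * g = (b * b) ^ s := by
  obtain ⟨v, F⟩ : ∃ v, ImgFacts B j v b := F.elim (fun h => ⟨z, h⟩) id
  have hmem : g⁻¹ * (b * b) * g ∈ B ⊓ (S : Subgroup G) := by
    refine ⟨smul_pt_eq_iff.1 ?_, ?_⟩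
    · rw [mul_smul, mul_smul, mul_smul b b, F.b_fix _ (Cj_fix (⟨g, hg.2⟩ : Cj j) ⟨pt B, X.dist.pt_fixed⟩),
        inv_smul_smul]
    · exact (S : Subgroup G).mul_mem ((S : Subgroup G).mul_mem ((S : Subgroup G).inv_mem hg.1)
        ((S : Subgroup G).mul_mem X.ad.b_mem.2 X.ad.b_mem.2)) hg.1
  obtain ⟨e, he⟩ := Subgroup.mem_zpowers_iff.1 (X.ad.b_gen _ hmem)
  have hord : orderOf (g⁻¹ * (b * b) * g) = 2 ^ (l - 1) := by
    rw [← X.b_sq_ord h2]
    exact MulEquiv.orderOf_eq (MulAut.conj g).symm (b * b) ▸ (by simp [MulAut.conj_symm_apply])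
  have hone : (g⁻¹ * (b * b) * g) ^ 2 ^ (l - 1) = 1 := by rw [← hord, pow_orderOf_eq_one]
  rw [← he, ← zpow_natCast, ← zpow_mul, ← orderOf_dvd_iff_zpow_eq_one, X.ad.b_ord] at hone
  have heven : (2 : ℤ) ∣ e := by
    have h : ((2 : ℤ) * 2 ^ (l - 1)) ∣ e * 2 ^ (l - 1) := by
      push_cast at hone
      rw [← pow_succ', Nat.sub_add_cancel (by omega : 1 ≤ l)]
      exact hone
    exact (mul_dvd_mul_iff_right (by positivity)).1 h
  obtain ⟨s, rfl⟩ := heven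
  have hs : (b * b) ^ s = g⁻¹ * (b * b) * g := by
    rw [← he, zpow_mul, zpow_two]
  refine ⟨s, ?_, hs.symm⟩
  rcases Int.even_or_odd s with ⟨r, hr⟩ | h
  · exfalso
    have hp : ((b * b) ^ s) ^ 2 ^ (l - 2) = 1 := by
      rw [← zpow_natCast, ← zpow_mul, ← orderOf_dvd_iff_zpow_eq_one, X.b_sq_ord h2, hr]
      exact ⟨r, by push_cast; rw [show l - 1 = l - 2 + 1 by omega, pow_succ]; ring⟩
    rw [hs] at hp
    have := orderOf_dvd_of_pow_eq_one hp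
    rw [hord, Nat.pow_dvd_pow_iff_le_right one_lt_two] at this
    omega
  · exact h

/-- The square of the conjugate of `b` cannot fix the base point. -/
theorem sq_not_B (h2 : 2 ≤ l) {w : G} (hx : w * b * w⁻¹ ∈ (S : Subgroup G)) (hj : w * j * w⁻¹ ≠ j) :
    (w * b * w⁻¹) * (w * b * w⁻¹) ∉ B := by
  intro h
  refine hj (X.invol_BS ?_ (orderOf_conj_two X.dist.j_two))
  have e : w * j * w⁻¹ = ((w * b * w⁻¹) * (w * b * w⁻¹)) ^ 2 ^ (l - 2) := by
    rw [← pow_two, ← pow_mul, ← pow_succ', show l - 2 + 1 = l - 1 by omega, conj_pow, X.j_eq]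
  rw [e]
  exact Subgroup.pow_mem _ (show _ ∈ B ⊓ (S : Subgroup G) from ⟨h, (S : Subgroup G).mul_mem hx hx⟩) _

/-- The whole Sylow subgroup centralises `j`. -/
theorem S_le_C (hsm : 4 ∣ Nat.card (Fix B j) → SmallModel (XGrp B j)) (h2 : 2 ≤ l) :
    (S : Subgroup G) ≤ Cj j := by
  classical
  have : Fact (Nat.Prime 2) := ⟨Nat.prime_two⟩
  by_contra hnle
  haveI : Group.IsNilpotent (S : Subgroup G) := S.2.isNilpotent
  let N : Subgroup (S : Subgroup G) := (Cj j).subgroupOf (S : Subgroup G)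
  have hN : N < ⊤ := lt_top_iff_ne_top.2 fun h => hnle (Subgroup.subgroupOf_eq_top.1 h)
  obtain ⟨w, hw, hwN⟩ := SetLike.exists_of_lt (normalizerCondition_of_isNilpotent N hN)
  have hjw : (w : G) * j * (w : G)⁻¹ ≠ j := fun h => hwN (Subgroup.mem_subgroupOf.2
    (mem_Cj.2 (mul_inv_eq_iff_eq_mul.1 h)))
  have hxN : (w : G) * b * (w : G)⁻¹ ∈ (S : Subgroup G) ⊓ Cj j := by
    have h := (Subgroup.mem_normalizer_iff.1 hw ⟨b, X.ad.b_mem.2⟩).1 (Subgroup.mem_subgroupOf.2 X.b_mem_C)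
    exact ⟨(w * ⟨b, X.ad.b_mem.2⟩ * w⁻¹ : (S : Subgroup G)).2, Subgroup.mem_subgroupOf.1 h⟩
  have hsq := X.sq_not_B h2 hxN.1 hjw
  obtain ⟨v, ρ, hv, hgen, hρ, hρ1⟩ := X.exists_v
  obtain ⟨i, t, hx⟩ := X.decomp_C hgen hxN.1 hxN.2
  set x := (w : G) * b * (w : G)⁻¹ with hxdef
  by_cases hρ2 : ρ = 1
  · -- here `v` is the involution `z`
    have hvz : v = z := X.invol_A hv.1.1 (by rw [hρ, hρ2, pow_one])
    subst hvz
    refine hsq ?_
    rw [hx]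
    have hb : b ^ t ∈ B ⊓ (S : Subgroup G) := Subgroup.zpow_mem _ X.ad.b_mem t
    rcases Int.even_or_odd i with ⟨c, rfl⟩ | ⟨c, rfl⟩
    · rw [zpow_add, ← (Commute.refl v).mul_zpow, X.z_sq, one_zpow, one_mul]
      exact B.mul_mem hb.1 hb.1
    · rw [zpow_add, zpow_mul, zpow_two, X.z_sq, one_zpow, one_mul, zpow_one]
      have h := (X.z_normalises hb).1
      rw [inv_eq_self_of_orderOf_two X.dist.z_two] at h
      rw [show v * b ^ t * (v * b ^ t) = (v * b ^ t * v) * b ^ t by group]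
      exact B.mul_mem h hb.1
  have hρ2' : 2 ≤ ρ := by omega
  have F := X.imgFacts (hsm (X.four_dvd_fix hv hρ hρ2')) hv hgen hρ hρ2'
  rcases Int.even_or_odd t with ⟨q, rfl⟩ | ⟨q, rfl⟩
  · -- a rotation: its powers end in `A`
    have hbq : b ^ (q + q) = (b * b) ^ q := by rw [zpow_add, (Commute.refl b).mul_zpow]
    rw [hbq] at hx
    have hvN : ∀ n : ℕ, (v ^ i) ^ n ∈ (S : Subgroup G) ⊓ Cj j := fun n =>
      Subgroup.pow_mem _ (Subgroup.zpow_mem _ (show v ∈ (S : Subgroup G) ⊓ Cj j from ⟨hv.1.2, hv.2⟩) i) n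
    obtain ⟨e, he⟩ := pow_two_pow_mul (g := v ^ i) (c := b * b)
      (fun n => X.conj_b_sq (Or.inr ⟨v, F⟩) h2 (hvN n)) q (l - 1)
    have h1 : x ^ 2 ^ (l - 1) = (w : G) * j * (w : G)⁻¹ := by rw [hxdef, conj_pow, X.j_eq]
    rw [hx, he] at h1
    have h0 : (b * b) ^ ((2 : ℤ) ^ (l - 1) * e) = 1 := by
      rw [zpow_mul, show ((2 : ℤ) ^ (l - 1)) = ((2 ^ (l - 1) : ℕ) : ℤ) by push_cast; rfl, zpow_natCast,
        ← X.b_sq_ord h2, pow_orderOf_eq_one, one_zpow]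
    rw [h0, mul_one] at h1
    have hA : (w : G) * j * (w : G)⁻¹ ∈ A :=
      h1 ▸ A.pow_mem (A.zpow_mem hv.1.1 i) _
    have := X.prim.A_free hA ((w : G) • pt B) (by rw [mul_smul, mul_smul, inv_smul_smul, X.dist.pt_fixed])
    have h2' := orderOf_conj_two (g := (w : G)) X.dist.j_two
    rw [this, orderOf_one] at h2'
    omega
  · -- a reflection: its square fixes the fixed points
    refine hsq (smul_pt_eq_iff.1 ?_)
    rw [hx, show b ^ (2 * q + 1) = (b * b) ^ q * b by rw [zpow_add, zpow_mul, zpow_two, zpow_one]]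
    have hbb : ∀ y : G ⧸ B, j • y = y → (b * b) ^ q • y = y := fun y hy => by
      refine mem_stabilizer_iff.1 (Subgroup.zpow_mem _ (mem_stabilizer_iff.2 ?_) q)
      rw [mul_smul]; exact F.b_fix y hy
    have hfx : ∀ y : G ⧸ B, j • y = y → j • (b • y) = b • y := fun y hy =>
      Cj_fix (⟨b, X.b_mem_C⟩ : Cj j) ⟨y, hy⟩
    have hvfx : ∀ y : G ⧸ B, j • y = y → j • (v ^ i • y) = v ^ i • y := fun y hy =>
      Cj_fix (⟨v ^ i, Subgroup.zpow_mem _ hv.2 i⟩ : Cj j) ⟨y, hy⟩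
    have hp := X.dist.pt_fixed
    have e1 : (v ^ i * ((b * b) ^ q * b)) • pt B = (v ^ i * b) • pt B := by
      rw [mul_smul, mul_smul, hbb _ (hfx _ hp), ← mul_smul]
    have hp' : j • ((v ^ i * b) • pt B) = (v ^ i * b) • pt B := by
      rw [mul_smul]; exact hvfx _ (hfx _ hp)
    rw [mul_smul, e1, mul_smul, mul_smul, hbb _ (hfx _ hp'), ← mul_smul]
    exact F.out_sq i _ hp

end Ctx

end CfsgLib.Recog.ABProd
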