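import Cfsg.Agent.Lib.Recog.ABProd.Pair

/-!
The centraliser of the distinguished involution on its fixed points: a doubly transitive group
which is again a product of a regular cyclic subgroup and a Z-group.
-/

set_option autoImplicit false

namespace CfsgLib.Recog.ABProd

open MulAction Subgroup

universe u

variable {G : Type u} [Group G]

/-- The fixed points of `j`. -/
abbrev Fix (B : Subgroup G) (j : G) : Type u := {x : G ⧸ B // j • x = x}

/-- The centraliser of `j`. -/
abbrev Cj (j : G) : Subgroup G := centralizer ({j} : Set G)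

theorem mem_Cj {j g : G} : g ∈ Cj j ↔ g * j = j * g := by
  simp [mem_centralizer_iff, eq_comm]

theorem Cj_fix {B : Subgroup G} {j : G} (c : Cj j) (x : Fix B j) :
    j • ((c : G) • x.1) = (c : G) • x.1 := by
  rw [← mul_smul, ← mem_Cj.1 c.2, mul_smul, x.2]

/-- The action of the centraliser on the fixed points. -/
def fixHom (B : Subgroup G) (j : G) : Cj j →* Equiv.Perm (Fix B j) where
  toFun c :=
    { toFun := fun x => ⟨(c : G) • x.1, Cj_fix c x⟩
      invFun := fun x => ⟨((c⁻¹ : Cj j) : G) • x.1, Cj_fix c⁻¹ x⟩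
      left_inv := fun x => Subtype.ext (by simp)
      right_inv := fun x => Subtype.ext (by simp) }
  map_one' := Equiv.ext fun x => Subtype.ext (by simp)
  map_mul' c d := Equiv.ext fun x => Subtype.ext (by simp [mul_smul])

@[simp] theorem fixHom_apply (B : Subgroup G) (j : G) (c : Cj j) (x : Fix B j) :
    ((fixHom B j c) x).1 = (c : G) • x.1 := rfl

/-- The distinguished commuting pair. -/
structure Dist (A B : Subgroup G) (z j : G) : Prop where
  zA : z ∈ A
  z_two : orderOf z = 2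
  j_two : orderOf j = 2
  jB : j ∈ B
  comm : Commute z j
  jz : j • (z • pt B) = z • pt B
  z_ne : z • pt B ≠ pt B

/-- The group induced on the fixed points. -/
abbrev XGrp (B : Subgroup G) (j : G) : Subgroup (Equiv.Perm (Fix B j)) := (fixHom B j).range

/-- The image in the induced group of a subgroup of `G`. -/
abbrev img (B : Subgroup G) (j : G) (H : Subgroup G) : Subgroup (XGrp B j) :=
  (H.subgroupOf (Cj j)).map (fixHom B j).rangeRestrict

variable {A B : Subgroup G} {z j : G}

theorem exists_dist [Finite G] (P : Prim A B) : ∃ z j : G, Dist A B z j := by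
  obtain ⟨z, j, h1, h2, h3, h4, h5, h6, h7⟩ := P.exists_z_j
  exact ⟨z, j, h1, h2, h3, h4, h5, h6, h7⟩

namespace Dist

variable (D : Dist A B z j)
include D

theorem z_ne_one : z ≠ 1 := fun h => by
  have := D.z_two
  simp [h] at this

theorem j_ne_one : j ≠ 1 := fun h => by
  have := D.j_two
  simp [h] at this

/-- The base point as a fixed point. -/
theorem pt_fixed : j • pt B = pt B := smul_pt_eq_iff.2 D.jB

theorem z_mem : z ∈ A ⊓ Cj j := ⟨D.zA, mem_Cj.2 D.comm.eq⟩

variable [Finite G] (P : Prim A B)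
include P

theorem fix_bijective :
    Function.Bijective fun a : ↥(A ⊓ Cj j) =>
      (⟨(a : G) • pt B, Cj_fix (⟨a, a.2.2⟩ : Cj j) ⟨pt B, D.pt_fixed⟩⟩ : Fix B j) := by
  constructor
  · intro a b h
    have h' : (⟨a, a.2.1⟩ : A) = ⟨b, b.2.1⟩ := P.regular_bijective.1 (congrArg Subtype.val h)
    exact Subtype.ext (congrArg (fun t : A => (t : G)) h')
  · intro x
    obtain ⟨a, ha⟩ := P.regular_bijective.2 x.1
    have hc : Commute (a : G) j := P.commute_of_smul_fixed D.zA D.z_ne_one D.j_two D.comm D.jz D.jB a.2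
      (by rw [show (a : G) • pt B = x.1 from ha]; exact x.2)
    exact ⟨⟨a, a.2, mem_Cj.2 hc.eq⟩, Subtype.ext ha⟩

theorem card_fix : Nat.card (Fix B j) = Nat.card ↥(A ⊓ Cj j) :=
  (Nat.card_congr (Equiv.ofBijective _ (D.fix_bijective P))).symm

theorem decomp {c : G} (hc : c ∈ Cj j) :
    ∃ a ∈ A ⊓ Cj j, ∃ b ∈ B ⊓ Cj j, c = a * b := by
  obtain ⟨a, ha⟩ := (D.fix_bijective P).2 ⟨c • pt B, Cj_fix (⟨c, hc⟩ : Cj j) ⟨pt B, D.pt_fixed⟩⟩
  have ha' : (a : G) • pt B = c • pt B := congrArg Subtype.val ha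
  refine ⟨a, a.2, (a : G)⁻¹ * c, ⟨smul_pt_eq_iff.1 ?_, ?_⟩, by group⟩
  · rw [mul_smul, ← ha', inv_smul_smul]
  · exact (Cj j).mul_mem ((Cj j).inv_mem a.2.2) hc

theorem two_dvd_card_fix : 2 ∣ Nat.card (Fix B j) := by
  rw [D.card_fix P, ← D.z_two, ← Subgroup.orderOf_mk z D.z_mem]
  exact orderOf_dvd_natCard _

/-- The induced group has the same shape. -/
theorem setting : Setting (img B j A) (img B j B) where
  cyc := by
    haveI := P.cyc
    haveI : IsCyclic (A.subgroupOf (Cj j)) :=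
      isCyclic_of_injective (((Cj j).subtype.comp (A.subgroupOf (Cj j)).subtype).codRestrict A
        fun x => x.2) fun x y h => Subtype.ext (Subtype.ext (congrArg (fun t : A => (t : G)) h))
    exact isCyclic_of_surjective _ ((fixHom B j).rangeRestrict.subgroupMap_surjective (A.subgroupOf (Cj j)))
  zgrp := by
    haveI := P.zgrp
    haveI : IsZGroup (B.subgroupOf (Cj j)) :=
      IsZGroup.of_injective (f := ((Cj j).subtype.comp (B.subgroupOf (Cj j)).subtype).codRestrict B
        fun x => x.2) fun x y h => Subtype.ext (Subtype.ext (congrArg (fun t : B => (t : G)) h))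
    exact IsZGroup.of_surjective ((fixHom B j).rangeRestrict.subgroupMap_surjective (B.subgroupOf (Cj j)))
  prod := by
    rintro ⟨_, c, rfl⟩
    obtain ⟨a, ha, b, hb, hab⟩ := D.decomp P c.2
    refine ⟨(fixHom B j).rangeRestrict ⟨a, ha.2⟩, ⟨_, ha.1, rfl⟩,
      (fixHom B j).rangeRestrict ⟨b, hb.2⟩, ⟨_, hb.1, rfl⟩, ?_⟩
    rw [← map_mul]
    exact Subtype.ext (congrArg (fixHom B j) (Subtype.ext hab))

theorem card_img_A : Nat.card (img B j A) = Nat.card (Fix B j) := by
  rw [D.card_fix P]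
  refine (Nat.card_congr (Equiv.ofBijective (fun a : ↥(A ⊓ Cj j) =>
    (⟨(fixHom B j).rangeRestrict ⟨a, a.2.2⟩, _, a.2.1, rfl⟩ : img B j A)) ⟨?_, ?_⟩)).symm
  · intro a b h
    refine (D.fix_bijective P).1 (Subtype.ext ?_)
    have h' : fixHom B j ⟨a, a.2.2⟩ = fixHom B j ⟨b, b.2.2⟩ :=
      congrArg Subtype.val (congrArg Subtype.val h)
    exact congrArg (fun σ : Equiv.Perm (Fix B j) => (σ ⟨pt B, D.pt_fixed⟩).1) h'
  · rintro ⟨_, c, hc, rfl⟩
    exact ⟨⟨c, hc, c.2⟩, rfl⟩

theorem card_X_lt : Nat.card (XGrp B j) < Nat.card G := by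
  classical
  have h1 : Nat.card (Cj j) = Nat.card (fixHom B j).ker * Nat.card (XGrp B j) := by
    rw [← Subgroup.index_ker, Subgroup.card_mul_index]
  have hk : 1 < Nat.card (fixHom B j).ker := by
    refine (Subgroup.one_lt_card_iff_ne_bot _).2 fun hbot => D.j_ne_one ?_
    have hjm : (⟨j, mem_Cj.2 rfl⟩ : Cj j) ∈ (fixHom B j).ker :=
      Equiv.ext fun x => Subtype.ext x.2
    rw [hbot, Subgroup.mem_bot] at hjm
    exact congrArg Subtype.val hjm
  have h2 : Nat.card (Cj j) ≤ Nat.card G := Subgroup.card_le_card_group _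
  have h3 : 0 < Nat.card (XGrp B j) := Nat.card_pos
  nlinarith

/-- The induced group is doubly transitive. -/
theorem exists_map_fix {x y u v : Fix B j} (hxy : x ≠ y) (huv : u ≠ v) :
    ∃ c : Cj j, fixHom B j c x = u ∧ fixHom B j c y = v := by
  obtain ⟨g, hg1, hg2⟩ := P.exists_map_pair (x := x.1) (y := y.1) (u := u.1) (v := v.1)
    (fun h => hxy (Subtype.ext h)) (fun h => huv (Subtype.ext h))
  have h := P.invol_unique (fun h => huv (Subtype.ext h)) (orderOf_conj_two (g := g) D.j_two) D.j_two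
    (by rw [mul_smul, mul_smul, ← hg1, inv_smul_smul, x.2])
    (by rw [mul_smul, mul_smul, ← hg2, inv_smul_smul, y.2]) u.2 v.2
  exact ⟨⟨g, mem_Cj.2 (mul_inv_eq_iff_eq_mul.1 h)⟩, Subtype.ext hg1, Subtype.ext hg2⟩

theorem not_fixed_of_ne {t : G} (ht : orderOf t = 2) (hne : t ≠ j) (hc : Commute t j)
    (x : Fix B j) : t • x.1 ≠ x.1 :=
  P.no_common_fixed D.j_two ht (Ne.symm hne) hc.symm x.2

end Dist

end CfsgLib.Recog.ABProd
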