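import Cfsg.Agent.Lib.Recog.ABProd.TwoTypes

/-!
Minimal nonsolvable normal subgroups inside the kernel of a sign character, for a Sylow 2-subgroup
with a cyclic subgroup of index at most two on which the character is nontrivial.
-/

set_option autoImplicit false
set_option linter.unusedSectionVars false
set_option linter.style.haveILetI false

namespace CfsgLib.Recog.ABProd

open Cfsg Subgroup

universe u

theorem zmod_two_cases : ∀ i : ZMod 2, i = 0 ∨ i = 1 := by decide

variable {G : Type u} [Group G] [Finite G]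

/-- The Sylow subgroup of a perfect normal subgroup in the kernel is dihedral. -/
theorem dihedral_in_kernel (hR : ∀ M : Subgroup G, M.Normal → Group.IsSolvable M → M = ⊥)
    (S : Sylow 2 G) (U : Subgroup G) [IsCyclic U] (hUS : U ≤ (S : Subgroup G))
    (hU : U.relIndex (S : Subgroup G) ≤ 2) (ε : G →* ℤˣ) (hε : ∃ s ∈ (S : Subgroup G), ε s ≠ 1)
    (N : Subgroup G) [N.Normal] [Group.IsPerfect N] (hN : N ≤ ε.ker) (hne : N ≠ ⊥) :
    ∃ (T : Sylow 2 N) (n : ℕ), 2 ≤ n ∧ Nonempty ((T : Subgroup N) ≃* DihedralGroup n) := by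
  classical
  haveI : Fact (Nat.Prime 2) := ⟨Nat.prime_two⟩
  obtain ⟨T, hT⟩ := CfsgLib.Transfer.exists_sylow_eq_subgroupOf S N
  obtain ⟨u, hu⟩ := (Subgroup.isCyclic_iff_exists_zpowers_eq_top U).1 inferInstance
  -- products of two elements outside `U`
  have hidxU : ∀ a ∈ (S : Subgroup G), ∀ b ∈ (S : Subgroup G), a ∉ U → b ∉ U → a * b ∈ U := by
    intro a ha b hb haU hbU
    set W := U.subgroupOf (S : Subgroup G) with hW
    have h0 : W.index ≠ 0 := Subgroup.index_ne_zero_of_finite
    have hle : W.index ≤ 2 := hU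
    have haW : (⟨a, ha⟩ : (S : Subgroup G)) ∉ W := haU
    have hbW : (⟨b, hb⟩ : (S : Subgroup G)) ∉ W := hbU
    have h2 : W.index = 2 := by
      rcases Nat.lt_or_ge W.index 2 with h | h
      · exfalso
        have : W = ⊤ := Subgroup.index_eq_one.1 (by omega)
        exact haW (this ▸ mem_top _)
      · omega
    exact (mul_mem_iff_of_index_two h2).2 (iff_of_false haW hbW)
  -- a generator of `U ∩ N`
  obtain ⟨v, hv⟩ := (Subgroup.isCyclic_iff_exists_zpowers_eq_top (U.subgroupOf N)).1 (by
    haveI : IsCyclic ↥((U ⊓ N : Subgroup G)) := Subgroup.isCyclic_of_le inf_le_left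
    exact isCyclic_of_surjective
      ((subgroupOfEquivOfLe (inf_le_right : U ⊓ N ≤ N)).symm.trans
        (MulEquiv.subgroupCongr (by rw [inf_subgroupOf_right])) : ↥(U ⊓ N) ≃* ↥(U.subgroupOf N))
      (MulEquiv.surjective _))
  have hvU : (v : G) ∈ U := by
    have h : v ∈ U.subgroupOf N := hv ▸ mem_zpowers v
    exact h
  have hmemT : ∀ x : N, x ∈ (T : Subgroup N) ↔ (x : G) ∈ (S : Subgroup G) := fun x => by
    rw [hT, mem_subgroupOf]
  have hidx : ∀ a ∈ (T : Subgroup N), ∀ b ∈ (T : Subgroup N), a ∉ zpowers v → b ∉ zpowers v →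
      a * b ∈ zpowers v := by
    intro a ha b hb haV hbV
    rw [hv] at haV hbV ⊢
    exact hidxU _ ((hmemT a).1 ha) _ ((hmemT b).1 hb) haV hbV
  -- elements of the kernel act on `U ∩ N` by plus or minus one
  have hact : ∀ t ∈ (T : Subgroup N), t * v * t⁻¹ = v ∨ t * v * t⁻¹ = v⁻¹ := by
    intro t ht
    have htS := (hmemT t).1 ht
    suffices h : (t : G) * v * (t : G)⁻¹ = v ∨ (t : G) * v * (t : G)⁻¹ = (v : G)⁻¹ by
      rcases h with h | h
      · exact Or.inl (Subtype.ext h)
      · exact Or.inr (Subtype.ext h)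
    by_cases htU : (t : G) ∈ U
    · left
      refine mul_inv_eq_iff_eq_mul.2 ?_
      have := hu ▸ htU
      obtain ⟨i, hi⟩ := mem_zpowers_iff.1 this
      obtain ⟨j, hj⟩ := mem_zpowers_iff.1 (hu ▸ hvU : (v : G) ∈ zpowers u)
      rw [← hi, ← hj]
      exact ((Commute.refl u).zpow_zpow i j).eq
    have huS : u ∈ (S : Subgroup G) := hUS (hu ▸ mem_zpowers u)
    -- `u` is outside the kernel
    have hεu : ε u ≠ 1 := by
      intro h1
      obtain ⟨s, hs, hs1⟩ := hε
      have hUk : U ≤ ε.ker := by rw [← hu, zpowers_le, MonoidHom.mem_ker]; exact h1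
      have hsU : s ∉ U := fun h => hs1 (hUk h)
      have := hUk (hidxU s hs _ htS hsU htU)
      rw [MonoidHom.mem_ker, map_mul, MonoidHom.mem_ker.1 (hN t.2), mul_one] at this
      exact hs1 this
    obtain ⟨j, hj⟩ := mem_zpowers_iff.1 (hu ▸ hvU : (v : G) ∈ zpowers u)
    have hj2 : Even j := by
      have h1 : ε u ^ j = 1 := by rw [← map_zpow, hj]; exact MonoidHom.mem_ker.1 (hN v.2)
      rcases Int.units_eq_one_or (ε u) with h | h
      · exact absurd h hεu
      rw [h] at h1
      rcases Int.even_or_odd j with he | ho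
      · exact he
      · rw [ho.neg_one_zpow] at h1
        exact absurd h1 (by decide)
    obtain ⟨i, rfl⟩ := hj2
    -- the action on `U`
    have hconjU : (t : G) * u * (t : G)⁻¹ ∈ U := by
      by_contra hc
      have h1 := hidxU _ htS u huS htU
      have hu' : u ∈ U := hu ▸ mem_zpowers u
      by_cases h2 : (t : G) * u ∈ U
      · exact htU (by simpa using mul_mem h2 (inv_mem hu'))
      · have h3 := hidxU _ (mul_mem htS huS) _ (inv_mem htS) h2 (fun h => htU (by simpa using inv_mem h))
        exact hc h3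
    obtain ⟨k, hk⟩ := mem_zpowers_iff.1 (hu ▸ hconjU : (t : G) * u * (t : G)⁻¹ ∈ zpowers u)
    obtain ⟨b, hb⟩ : ∃ b, orderOf u = 2 ^ b := by
      obtain ⟨q, hq⟩ := S.2 ⟨u, huS⟩
      obtain ⟨b, -, hb⟩ := (Nat.dvd_prime_pow Nat.prime_two).1
        (orderOf_dvd_of_pow_eq_one (congrArg Subtype.val hq : u ^ 2 ^ q = 1))
      exact ⟨b, hb⟩
    have htt : (t : G) * t ∈ U := hidxU _ htS _ htS htU htU
    have hk2 : u ^ (k * k) = u := by
      have : (t : G) * t * u * ((t : G) * t)⁻¹ = u := by
        refine mul_inv_eq_iff_eq_mul.2 ?_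
        obtain ⟨q, hq⟩ := mem_zpowers_iff.1 (hu ▸ htt : (t : G) * t ∈ zpowers u)
        rw [← hq]
        exact ((Commute.refl u).zpow_left q).eq
      rw [show (t : G) * t * u * ((t : G) * t)⁻¹ = t * ((t : G) * u * (t : G)⁻¹) * (t : G)⁻¹ by group,
        ← hk, ← conj_zpow, ← hk, ← zpow_mul] at this
      exact this
    have hd : ((2 ^ b : ℕ) : ℤ) ∣ k * k - 1 := by
      rw [← hb]
      refine orderOf_dvd_iff_zpow_eq_one.2 ?_
      rw [zpow_sub_one, hk2, mul_inv_cancel]
    push_cast at hd
    have hpm : (2 : ℤ) ^ b ∣ 2 * (k - 1) ∨ (2 : ℤ) ^ b ∣ 2 * (k + 1) := by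
      rcases Int.even_or_odd k with ⟨m, rfl⟩ | ⟨m, rfl⟩
      · -- only possible when `u = 1`
        left
        cases b with
        | zero => simp
        | succ b =>
          exfalso
          have h2 : (2 : ℤ) ∣ (m + m) * (m + m) - 1 :=
            (dvd_pow_self 2 (Nat.succ_ne_zero b)).trans hd
          obtain ⟨q, hq⟩ := h2
          have : (m + m) * (m + m) = 2 * (2 * m * m) := by ring
          omega
      · rw [show (2 * m + 1) * (2 * m + 1) - 1 = 4 * m * (m + 1) by ring] at hd
        have hcop : ∀ x : ℤ, Odd x → IsCoprime ((2 : ℤ) ^ b) x := fun x hx => by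
          obtain ⟨q, rfl⟩ := hx
          exact IsCoprime.pow_left ⟨-q, 1, by ring⟩
        rcases Int.even_or_odd m with he | ho
        · left
          have := (hcop _ he.add_one).dvd_of_dvd_mul_right hd
          rw [show 2 * (2 * m + 1 - 1) = 4 * m by ring]
          exact this
        · right
          rw [show (4 * m * (m + 1) : ℤ) = 4 * (m + 1) * m by ring] at hd
          have := (hcop _ ho).dvd_of_dvd_mul_right hd
          rw [show 2 * (2 * m + 1 + 1) = 4 * (m + 1) by ring]
          exact this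
    rw [← hj, ← conj_zpow, ← hk, ← zpow_mul]
    rcases hpm with h | h
    · left
      rw [← mul_inv_eq_one, ← zpow_sub, ← orderOf_dvd_iff_zpow_eq_one, hb]
      push_cast
      obtain ⟨q, hq⟩ := h
      exact ⟨q * i, by linear_combination i * hq⟩
    · right
      rw [← zpow_neg, ← mul_inv_eq_one, ← zpow_sub, ← orderOf_dvd_iff_zpow_eq_one, hb]
      push_cast
      obtain ⟨q, hq⟩ := h
      exact ⟨q * i, by linear_combination i * hq⟩
  have hvT : v ∈ (T : Subgroup N) := (hmemT v).2 (hUS hvU)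
  haveI : Nontrivial N := (Subgroup.nontrivial_iff_ne_bot N).2 hne
  have heven : Even (Nat.card N) := by
    by_contra h
    exact Group.IsPerfect.not_isSolvable N (Cfsg.Agent.S0205.result (Nat.not_even_iff_odd.1 h))
  have hO : ∀ M : Subgroup N, M.Normal → Odd (Nat.card M) → M = ⊥ := by
    intro M hM hodd
    have hchar : ((Cfsg.oddCore N).map N.subtype).Normal := by
      have := CfsgLib.Solvable.pPrimeCore_characteristic 2 N
      infer_instance
    have hb := hR _ hchar (Cfsg.Agent.S0205.result (by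
      rw [← Nat.card_congr ((Cfsg.oddCore N).equivMapOfInjective _ N.subtype_injective).toEquiv]
      exact CfsgLib.Invol.odd_card_oddCore N))
    rw [Subgroup.map_eq_bot_iff_of_injective _ N.subtype_injective] at hb
    exact le_bot_iff.1 (hb ▸ CfsgLib.Invol.le_oddCore hM hodd)
  have hZ : center N = ⊥ := by
    have hsol : Group.IsSolvable ↥((center N).map N.subtype) := by
      exact CfsgLib.Coprime.isSolvable_map _ (Group.isSolvable_of_comm fun a b => Subtype.ext (mem_center_iff.1 b.2 a))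
    have hb := hR _ inferInstance hsol
    rwa [Subgroup.map_eq_bot_iff_of_injective _ N.subtype_injective] at hb
  obtain ⟨n, hn, e⟩ := dihedral_of_perfect heven hO hZ T v hvT hidx hact
  exact ⟨T, n, hn, e⟩

/-- The centraliser of such a subgroup is trivial. -/
theorem centralizer_eq_bot (hR : ∀ M : Subgroup G, M.Normal → Group.IsSolvable M → M = ⊥)
    (S : Sylow 2 G) (U : Subgroup G) [IsCyclic U]
    (hU : U.relIndex (S : Subgroup G) ≤ 2)
    (N : Subgroup G) [hN : N.Normal] (T : Sylow 2 N) {n : ℕ} (hn : 2 ≤ n)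
    (e : (T : Subgroup N) ≃* DihedralGroup n) : centralizer (N : Set G) = ⊥ := by
  classical
  haveI : Fact (Nat.Prime 2) := ⟨Nat.prime_two⟩
  set C := centralizer (N : Set G) with hC
  haveI hCn : C.Normal := inferInstance
  have hinf : ∀ x ∈ C, x ∈ N → x = 1 := by
    intro x hx hxN
    have hsol : Group.IsSolvable ↥((center N).map N.subtype) := by
      exact CfsgLib.Coprime.isSolvable_map _ (Group.isSolvable_of_comm fun a b => Subtype.ext (mem_center_iff.1 b.2 a))
    have hb := hR _ inferInstance hsol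
    have : x ∈ (center N).map N.subtype := ⟨⟨x, hxN⟩, mem_center_iff.2 fun y =>
      Subtype.ext (mem_centralizer_iff.1 hx y y.2), rfl⟩
    rwa [hb, mem_bot] at this
  by_contra hne
  have heven : 2 ∣ Nat.card C := by
    rw [← even_iff_two_dvd]
    by_contra h
    exact hne (hR C hCn (Cfsg.Agent.S0205.result (Nat.not_even_iff_odd.1 h)))
  obtain ⟨⟨c, hcC⟩, hc⟩ := exists_prime_orderOf_dvd_card' (G := C) 2 heven
  rw [Subgroup.orderOf_mk] at hc
  have hc2 : c * c = 1 := by rw [← pow_two, ← hc, pow_orderOf_eq_one]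
  -- a four group in the Sylow subgroup of `N`
  obtain ⟨m, hm⟩ : ∃ m, 2 * n = 2 ^ (m + 2) := by
    obtain ⟨k, hk⟩ := IsPGroup.iff_card.1 T.2
    rw [Nat.card_congr e.toEquiv, DihedralGroup.nat_card] at hk
    have h4 : 2 ^ 2 ≤ 2 ^ k := by rw [← hk]; omega
    exact ⟨k - 2, by rw [hk]; congr 1; have := (Nat.pow_le_pow_iff_right (by norm_num)).1 h4; omega⟩
  set r : DihedralGroup n := DihedralGroup.r ((2 ^ m : ℕ) : ZMod n) with hr
  set q : DihedralGroup n := DihedralGroup.sr 0 with hq
  have hn' : n = 2 * 2 ^ m := by rw [pow_add] at hm; omega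
  haveI : NeZero n := ⟨by omega⟩
  have hr2 : r * r = 1 := by
    rw [hr, DihedralGroup.r_mul_r, ← Nat.cast_add, show 2 ^ m + 2 ^ m = n by omega,
      ZMod.natCast_self, DihedralGroup.r_zero]
  have hr1 : r ≠ 1 := by
    rw [hr, ← DihedralGroup.r_zero]
    intro h
    have h' := (ZMod.natCast_eq_zero_iff _ _).1 (DihedralGroup.r.inj h)
    have := Nat.le_of_dvd (by positivity) h'
    have : 0 < 2 ^ m := by positivity
    omega
  have hq2 : q * q = 1 := DihedralGroup.sr_mul_self 0
  have hrq : r * q = q * r := by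
    rw [hr, hq, DihedralGroup.r_mul_sr, DihedralGroup.sr_mul_r]
    congr 1
    rw [zero_sub, zero_add, neg_eq_iff_add_eq_zero, ← Nat.cast_add,
      show 2 ^ m + 2 ^ m = n by omega, ZMod.natCast_self]
  set a : G := (((e.symm r : (T : Subgroup N)) : N) : G) with ha
  set b : G := (((e.symm q : (T : Subgroup N)) : N) : G) with hb
  have emul : ∀ x y : DihedralGroup n, ((e.symm (x * y) : (T : Subgroup N)) : N) =
      (((e.symm x : (T : Subgroup N)) : N) * ((e.symm y : (T : Subgroup N)) : N) : N) := fun x y => by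
    rw [map_mul]; rfl
  have einj : ∀ x y : DihedralGroup n,
      (((e.symm x : (T : Subgroup N)) : N) : G) = ((e.symm y : (T : Subgroup N)) : N) → x = y :=
    fun x y h => e.symm.injective (Subtype.ext (Subtype.ext h))
  have e1 : (((e.symm 1 : (T : Subgroup N)) : N) : G) = 1 := by rw [map_one]; rfl
  have ha2 : a * a = 1 := by rw [ha, ← Subgroup.coe_mul, ← emul, hr2, e1]
  have hb2 : b * b = 1 := by rw [hb, ← Subgroup.coe_mul, ← emul, hq2, e1]
  have hab : a * b = b * a := by
    rw [ha, hb, ← Subgroup.coe_mul, ← emul, ← Subgroup.coe_mul, ← emul, hrq]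
  have haN : a ∈ N := ((e.symm r : (T : Subgroup N)) : N).2
  have hbN : b ∈ N := ((e.symm q : (T : Subgroup N)) : N).2
  have hca : a * c = c * a := mem_centralizer_iff.1 hcC a haN
  have hcb : b * c = c * b := mem_centralizer_iff.1 hcC b hbN
  have h1 : a ≠ 1 := fun h => hr1 (einj r 1 (by rw [e1]; exact h))
  have h2 : b ≠ 1 := fun h => by
    have := einj q 1 (by rw [e1]; exact h)
    rw [hq, ← DihedralGroup.r_zero] at this
    cases this
  have h3 : b ≠ a := fun h => by
    have := einj q r h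
    rw [hq, hr] at this
    cases this
  have hcN : c ∉ N := fun h => by
    rw [hinf c hcC h, orderOf_one] at hc
    omega
  -- the elementary group of order eight lies in a conjugate of `S`
  let f : Multiplicative (Fin 3 → ZMod 2) → G := fun x =>
    a ^ (x.toAdd 0).val * b ^ (x.toAdd 1).val * c ^ (x.toAdd 2).val
  have hpow : ∀ {d : G}, d * d = 1 → ∀ i j : ZMod 2, d ^ (i + j).val = d ^ i.val * d ^ j.val := by
    intro d hd i j
    rw [← pow_add, ← Nat.mod_add_div (i.val + j.val) 2, ← ZMod.val_add, pow_add, pow_mul, pow_two,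
      hd, one_pow, mul_one]
  have hfm : ∀ x y, f (x * y) = f x * f y := by
    intro x y
    simp only [f, toAdd_mul, Pi.add_apply, hpow ha2, hpow hb2, hpow hc2]
    have cab : Commute a b := hab
    have cac : Commute a c := hca
    have cbc : Commute b c := hcb
    generalize (x.toAdd 0).val = i₀, (x.toAdd 1).val = i₁, (x.toAdd 2).val = i₂,
      (y.toAdd 0).val = j₀, (y.toAdd 1).val = j₁, (y.toAdd 2).val = j₂
    calc a ^ i₀ * a ^ j₀ * (b ^ i₁ * b ^ j₁) * (c ^ i₂ * c ^ j₂)
        = a ^ i₀ * (a ^ j₀ * b ^ i₁) * (b ^ j₁ * c ^ i₂) * c ^ j₂ := by group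
      _ = a ^ i₀ * (b ^ i₁ * a ^ j₀) * (c ^ i₂ * b ^ j₁) * c ^ j₂ := by
          rw [(cab.pow_pow j₀ i₁).eq, (cbc.pow_pow j₁ i₂).eq]
      _ = a ^ i₀ * b ^ i₁ * (a ^ j₀ * c ^ i₂) * b ^ j₁ * c ^ j₂ := by group
      _ = a ^ i₀ * b ^ i₁ * (c ^ i₂ * a ^ j₀) * b ^ j₁ * c ^ j₂ := by rw [(cac.pow_pow j₀ i₂).eq]
      _ = _ := by group
  let φ : Multiplicative (Fin 3 → ZMod 2) →* G := MonoidHom.mk' f hfm
  have hφ : Function.Injective φ := by
    rw [injective_iff_map_eq_one]
    intro x hx
    have hx' : a ^ (x.toAdd 0).val * b ^ (x.toAdd 1).val * c ^ (x.toAdd 2).val = 1 := hx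
    have hz : ∀ i : ZMod 2, i = 0 ∨ i = 1 := zmod_two_cases
    have hx2 : x.toAdd 2 = 0 := by
      rcases hz (x.toAdd 2) with h | h
      · exact h
      exfalso
      rw [h, ZMod.val_one, pow_one] at hx'
      exact hcN (by
        rw [eq_inv_of_mul_eq_one_right hx']
        exact inv_mem (mul_mem (pow_mem haN _) (pow_mem hbN _)))
    rw [hx2, ZMod.val_zero, pow_zero, mul_one] at hx'
    have hx0 : x.toAdd 0 = 0 ∧ x.toAdd 1 = 0 := by
      rcases hz (x.toAdd 0) with h0 | h0 <;> rcases hz (x.toAdd 1) with h1' | h1' <;>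
        rw [h0, h1'] at hx' <;>
        simp only [ZMod.val_zero, ZMod.val_one, pow_zero, pow_one, one_mul, mul_one] at hx'
      · exact ⟨h0, h1'⟩
      · exact absurd hx' h2
      · exact absurd hx' h1
      · exact absurd ((eq_inv_of_mul_eq_one_right hx').trans
          (inv_eq_of_mul_eq_one_right ha2)) h3
    refine Multiplicative.toAdd.injective (funext fun i => ?_)
    fin_cases i
    exacts [hx0.1, hx0.2, hx2]
  have hE : Nat.card φ.range = 8 := by
    rw [← Nat.card_congr (MonoidHom.ofInjective hφ).toEquiv, Nat.card_congr Multiplicative.toAdd,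
      Nat.card_fun, Nat.card_zmod, Nat.card_fin]
    norm_num
  have hEsq : ∀ x ∈ φ.range, x * x = 1 := by
    rintro _ ⟨x, rfl⟩
    rw [← map_mul, show x * x = 1 from Multiplicative.toAdd.injective (funext fun i => by
      show x.toAdd i + x.toAdd i = 0
      exact ZModModule.add_self _), map_one]
  obtain ⟨S', hS'⟩ := (IsPGroup.of_card (n := 3) (by rw [hE]; norm_num) :
    IsPGroup 2 φ.range).exists_le_sylow
  obtain ⟨g, hg⟩ := MulAction.exists_smul_eq G S' S
  have hmap : (S' : Subgroup G).map (MulAut.conj g).toMonoidHom = (S : Subgroup G) :=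
    congrArg (fun Q : Sylow 2 G => (Q : Subgroup G)) hg
  set E := φ.range.map (MulAut.conj g).toMonoidHom with hEdef
  have hES : E ≤ (S : Subgroup G) := hmap ▸ Subgroup.map_mono hS'
  have hEc : Nat.card E = 8 := by
    rw [hEdef, Subgroup.card_map_of_injective (MulAut.conj g).injective, hE]
  have hEsq' : ∀ x ∈ E, x * x = 1 := by
    rintro _ ⟨x, hx, rfl⟩
    rw [← map_mul, hEsq x hx, map_one]
  have hEU : Nat.card ↥(U ⊓ E) ≤ 2 := by
    haveI : IsCyclic ↥(U ⊓ E) := Subgroup.isCyclic_of_le inf_le_left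
    obtain ⟨w, hw⟩ := IsCyclic.exists_generator (α := ↥(U ⊓ E))
    rw [← orderOf_eq_card_of_forall_mem_zpowers hw]
    refine Nat.le_of_dvd two_pos (orderOf_dvd_of_pow_eq_one ?_)
    rw [pow_two]
    exact Subtype.ext (hEsq' w (mem_inf.1 w.2).2)
  have h8 := (U ⊓ E).subgroupOf E |>.card_mul_index
  rw [Nat.card_congr (subgroupOfEquivOfLe inf_le_right).toEquiv, hEc] at h8
  have hi : ((U ⊓ E).subgroupOf E).index ≤ 2 := by
    show (U ⊓ E).relIndex E ≤ 2
    rw [inf_relIndex_right]
    exact le_trans (Subgroup.relIndex_le_of_le_right hES (Subgroup.index_ne_zero_of_finite)) hU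
  have := Nat.mul_le_mul hEU hi
  omega

end CfsgLib.Recog.ABProd
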