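import Cfsg.Agent.Lib.Recog.ABProd.Defs
import Cfsg.Agent.Lib.Recog.ABProd.SylowHalf

/-!
The socle of a group without solvable normal subgroups whose Sylow 2-subgroup has a cyclic subgroup
of index two and meets an odd element: a simple group with dihedral Sylow 2-subgroup.
-/

set_option autoImplicit false
set_option linter.unusedSectionVars false
set_option linter.style.haveILetI false

namespace CfsgLib.Recog.ABProd

open Subgroup

universe u

/-- A nontrivial normal subgroup of a dihedral 2-group of order at least eight contains the central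
involution. -/
theorem half_mem {n k : ℕ} (hn : n = 2 ^ (k + 2)) (A : Subgroup (DihedralGroup n)) [A.Normal]
    (hA : A ≠ ⊥) : DihedralGroup.r ((2 ^ (k + 1) : ℕ) : ZMod n) ∈ A := by
  haveI : NeZero n := ⟨by rw [hn]; positivity⟩
  obtain ⟨i, hi, hi0⟩ : ∃ i : ZMod n, DihedralGroup.r i ∈ A ∧ i ≠ 0 := by
    obtain ⟨x, hx, hx1⟩ : ∃ x ∈ A, x ≠ 1 := by
      by_contra h
      push Not at h
      exact hA ((Subgroup.eq_bot_iff_forall A).2 h)
    rcases x with i | i
    · exact ⟨i, hx, fun h => hx1 (by rw [h, DihedralGroup.r_zero])⟩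
    · refine ⟨2, ?_, ?_⟩
      · have h1 := A.mul_mem hx (‹A.Normal›.conj_mem _ hx (DihedralGroup.r 1)⁻¹)
        rw [DihedralGroup.inv_r, DihedralGroup.r_mul_sr, DihedralGroup.inv_r, DihedralGroup.sr_mul_r,
          DihedralGroup.sr_mul_sr] at h1
        convert h1 using 2
        ring
      · intro h
        have h2 : ((2 : ℕ) : ZMod n) = 0 := by exact_mod_cast h
        have := Nat.le_of_dvd two_pos ((ZMod.natCast_eq_zero_iff _ _).1 h2)
        have : 2 ^ 2 ≤ n := hn ▸ Nat.pow_le_pow_right two_pos (by omega)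
        omega
  obtain ⟨j, q, hq, e⟩ : ∃ j q : ℕ, Odd q ∧ i.val = 2 ^ j * q :=
    Nat.exists_eq_two_pow_mul_odd (fun h => hi0 ((ZMod.val_eq_zero i).1 h))
  have hlt : i.val < 2 ^ (k + 2) := hn ▸ i.val_lt
  have hj : j ≤ k + 1 := by
    by_contra hj
    have h1 : 2 ^ (k + 2) ≤ 2 ^ j * q :=
      le_trans (Nat.pow_le_pow_right two_pos (by omega)) (Nat.le_mul_of_pos_right _ hq.pos)
    omega
  have hm := A.pow_mem hi (2 ^ (k + 1 - j))
  rw [DihedralGroup.r_pow] at hm
  convert hm using 2
  rw [← ZMod.natCast_zmod_val i, e, ← Nat.cast_mul, mul_right_comm, ← pow_add,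
    show j + (k + 1 - j) = k + 1 by omega]
  obtain ⟨d, rfl⟩ := hq
  rw [show 2 ^ (k + 1) * (2 * d + 1) = d * 2 ^ (k + 2) + 2 ^ (k + 1) by ring, ← hn, Nat.cast_add,
    Nat.cast_mul, ZMod.natCast_self, mul_zero, zero_add]

variable {G : Type u} [Group G] [Finite G]

/-- The socle: simple, with dihedral Sylow 2-subgroup and trivial centraliser. -/
theorem exists_dihedral_normal (hR : RadFree G) (hns : ¬ Group.IsSolvable G) (hS : SylowData G) :
    ∃ N : Subgroup G, N.Normal ∧ IsSimpleGroup N ∧ ¬ IsMulCommutative N ∧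
      Subgroup.centralizer (N : Set G) = ⊥ ∧
      ∃ (T : Sylow 2 N) (n : ℕ), 2 ≤ n ∧ Nonempty ((T : Subgroup N) ≃* DihedralGroup n) := by
  classical
  haveI : Fact (Nat.Prime 2) := ⟨Nat.prime_two⟩
  obtain ⟨S, c, t, ε, hc, -, -, -, hidx, s, hs, hεs⟩ := hS
  have htop : (⊤ : Subgroup G) ≠ ⊥ := fun h => hns (Group.isSolvable_of_comm fun a b => by
    rw [show a = 1 from mem_bot.1 (h.le (mem_top a)), show b = 1 from mem_bot.1 (h.le (mem_top b))])
  obtain ⟨N, ⟨hN, hNne⟩, hmin⟩ :=
    exists_minimal_of_wellFoundedLT (fun M : Subgroup G => M.Normal ∧ M ≠ ⊥) ⟨⊤, inferInstance, htop⟩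
  have hmin' : ∀ M : Subgroup G, M.Normal → M ≤ N → M = ⊥ ∨ M = N := fun M hM hle =>
    or_iff_not_imp_left.2 fun h => le_antisymm hle (hmin ⟨hM, h⟩ hle)
  haveI : Nontrivial N := (Subgroup.nontrivial_iff_ne_bot N).2 hNne
  have hNs : ¬ Group.IsSolvable N := fun h => hNne (hR N hN h)
  haveI hP : Group.IsPerfect N := by
    rw [Subgroup.isPerfect_iff]
    rcases hmin' ⁅N, N⁆ inferInstance (Subgroup.commutator_le_self N) with h | h
    · exfalso
      refine hNs (Group.isSolvable_of_comm fun a b => Subtype.ext ?_)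
      exact commutatorElement_eq_one_iff_mul_comm.1
        (mem_bot.1 (h.le (Subgroup.commutator_mem_commutator a.2 b.2)))
    · exact h
  have hker : N ≤ ε.ker := fun x hx => by
    have h1 : (⟨x, hx⟩ : N) ∈ (ε.comp N.subtype).ker :=
      Abelianization.commutator_subset_ker _ Group.IsPerfect.mem_commutator
    exact h1
  obtain ⟨T, n, hn, ⟨e⟩⟩ := dihedral_in_kernel hR S (zpowers c) (zpowers_le.2 hc) hidx.le ε
    ⟨s, hs, by rw [hεs]; decide⟩ N hker hNne
  have hC := centralizer_eq_bot hR S (zpowers c) hidx.le N T hn e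
  refine ⟨N, hN, ⟨fun K hK => ?_⟩, fun h => ?_, hC, T, n, hn, ⟨e⟩⟩
  swap
  · exact hNs (Group.isSolvable_of_comm fun a b => h.1.comm a b)
  -- simplicity
  by_contra hK'
  push Not at hK'
  obtain ⟨M, hMK, ⟨hM, hMne⟩, hMmin⟩ :=
    exists_minimal_le_of_wellFoundedLT (fun L : Subgroup N => L.Normal ∧ L ≠ ⊥) K ⟨hK, hK'.1⟩
  have hMtop : M ≠ ⊤ := fun h => hK'.2 (top_le_iff.1 (h ▸ hMK))
  obtain ⟨φ, hφ⟩ : ∃ φ : G → MulAut N, ∀ g (x : N), ((φ g x : N) : G) = g * x * g⁻¹ :=
    ⟨fun g => MulAut.conjNormal g, fun g x => MulAut.conjNormal_apply g x⟩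
  have hconjN : ∀ g, (M.map (φ g).toMonoidHom).Normal := fun g =>
    hM.map _ (φ g).surjective
  have hdisj : ∀ g h, M.map (φ g).toMonoidHom ≠ M.map (φ h).toMonoidHom →
      Disjoint (M.map (φ g).toMonoidHom) (M.map (φ h).toMonoidHom) := by
    intro g h hne
    rw [disjoint_iff]
    by_contra hb
    set L := (M.map (φ g).toMonoidHom ⊓ M.map (φ h).toMonoidHom).comap (φ g).toMonoidHom with hL
    haveI := hconjN g
    haveI := hconjN h
    have hLn : L.Normal := (Subgroup.Normal.comap inferInstance _)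
    have hLne : L ≠ ⊥ := fun h0 => hb (by
      rw [← Subgroup.map_comap_eq_self_of_surjective (f := (φ g).toMonoidHom) (φ g).surjective
        (M.map (φ g).toMonoidHom ⊓ M.map (φ h).toMonoidHom), ← hL, h0, Subgroup.map_bot])
    have hLle : L ≤ M := fun x hx => by
      obtain ⟨y, hy, hye⟩ := (mem_inf.1 hx).1
      rwa [← (φ g).injective hye]
    have hle : M.map (φ g).toMonoidHom ≤ M.map (φ h).toMonoidHom := by
      rintro _ ⟨x, hx, rfl⟩
      exact (mem_inf.1 (hMmin ⟨hLn, hLne⟩ hLle hx)).2
    exact hne (eq_of_le_of_card_ge hle (by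
      rw [Subgroup.card_map_of_injective (f := (φ h).toMonoidHom) (φ h).injective,
        Subgroup.card_map_of_injective (f := (φ g).toMonoidHom) (φ g).injective]))
  have hMab : ¬ ∀ a ∈ M, ∀ b ∈ M, a * b = b * a := by
    intro hab
    refine hNs ?_
    set W : Set N := ⋃ g, ((M.map (φ g).toMonoidHom : Subgroup N) : Set N) with hW
    have hcl : closure W = ⊤ := by
      have hn : ((closure W).map N.subtype).Normal := by
        refine ⟨?_⟩
        rintro _ ⟨x, hx, rfl⟩ g
        have hmap : (closure W).map (φ g).toMonoidHom ≤ closure W := by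
          rw [MonoidHom.map_closure, closure_le]
          rintro _ ⟨y, hy, rfl⟩
          obtain ⟨a, z, hz, rfl⟩ := Set.mem_iUnion.1 hy
          refine subset_closure (Set.mem_iUnion.2 ⟨g * a, z, hz, ?_⟩)
          show φ (g * a) z = φ g (φ a z)
          refine Subtype.ext ?_
          rw [hφ, hφ, hφ]; group
        exact ⟨φ g x, hmap ⟨x, hx, rfl⟩, hφ g x⟩
      rcases hmin' _ hn (Subgroup.map_subtype_le _) with h | h
      · exfalso
        rw [Subgroup.map_eq_bot_iff_of_injective _ N.subtype_injective] at h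
        refine hMne ((Subgroup.eq_bot_iff_forall M).2 fun x hx => ?_)
        have : φ 1 x ∈ closure W := subset_closure (Set.mem_iUnion.2 ⟨1, x, hx, rfl⟩)
        rw [h, mem_bot] at this
        exact (φ 1).injective (this.trans (map_one _).symm)
      · rw [← Subgroup.map_subtype_inj, h, ← MonoidHom.range_eq_map, Subgroup.range_subtype]
    have hcomm : IsMulCommutative (closure W) := isMulCommutative_closure (by
      intro a ha b hb
      obtain ⟨g, x, hx, rfl⟩ := Set.mem_iUnion.1 ha
      obtain ⟨g', y, hy, rfl⟩ := Set.mem_iUnion.1 hb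
      by_cases hgg : M.map (φ g).toMonoidHom = M.map (φ g').toMonoidHom
      · obtain ⟨y', hy', hye⟩ := hgg.ge ⟨y, hy, rfl⟩
        rw [← hye, ← map_mul, ← map_mul, hab x hx y' hy']
      · exact Subgroup.commute_of_normal_of_disjoint _ _ (hconjN g) (hconjN g') (hdisj g g' hgg)
          _ _ ⟨x, hx, rfl⟩ ⟨y, hy, rfl⟩)
    refine Group.isSolvable_of_comm fun a b => ?_
    exact setLike_mul_comm (hcl.ge (mem_top a)) (hcl.ge (mem_top b))
  haveI hMP : Group.IsPerfect M := by
    rw [Subgroup.isPerfect_iff]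
    by_cases h0 : ⁅M, M⁆ = ⊥
    · exact absurd (fun a ha b hb => commutatorElement_eq_one_iff_mul_comm.1
        (mem_bot.1 (h0.le (Subgroup.commutator_mem_commutator ha hb)))) hMab
    · exact le_antisymm (Subgroup.commutator_le_self M)
        (hMmin ⟨inferInstance, h0⟩ (Subgroup.commutator_le_self M))
  haveI : Nontrivial M := (Subgroup.nontrivial_iff_ne_bot M).2 hMne
  -- a moved conjugate
  obtain ⟨g, hg⟩ : ∃ g, M.map (φ g).toMonoidHom ≠ M := by
    by_contra hall
    push Not at hall
    have hn : (M.map N.subtype).Normal := by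
      refine ⟨?_⟩
      rintro _ ⟨x, hx, rfl⟩ g
      exact ⟨φ g x, (hall g).le ⟨x, hx, rfl⟩, hφ g x⟩
    rcases hmin' _ hn (Subgroup.map_subtype_le _) with h | h
    · exact hMne ((Subgroup.map_eq_bot_iff_of_injective _ N.subtype_injective).1 h)
    · refine hMtop ?_
      rw [← Subgroup.map_subtype_inj, h, ← MonoidHom.range_eq_map, Subgroup.range_subtype]
  set M' := M.map (φ g).toMonoidHom with hM'
  haveI hM'n : M'.Normal := hconjN g
  have hd : Disjoint M M' := by
    have h1 : M.map (φ 1).toMonoidHom = M := by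
      rw [show (φ 1).toMonoidHom = MonoidHom.id N by
        ext x
        show ((φ 1 x : N) : G) = (x : G)
        rw [hφ]; group, Subgroup.map_id]
    have := hdisj 1 g (by rw [h1]; exact fun h => hg h.symm)
    rwa [h1] at this
  haveI hM'P : Group.IsPerfect M' :=
    Group.IsPerfect.ofSurjective (f := (φ g).toMonoidHom.subgroupMap M)
      (MonoidHom.subgroupMap_surjective _ _)
  haveI : Nontrivial M' := (Subgroup.nontrivial_iff_ne_bot M').2 fun h =>
    hMne ((Subgroup.map_eq_bot_iff_of_injective _ (φ g).injective).1 h)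
  -- the traces on the Sylow subgroup
  have key : ∀ L : Subgroup N, L.Normal → Group.IsPerfect L → Nontrivial L →
      ((L.subgroupOf (T : Subgroup N)).map e.toMonoidHom).Normal ∧
        2 < Nat.card ((L.subgroupOf (T : Subgroup N)).map e.toMonoidHom) := by
    intro L hL hLP hLn
    haveI := hL; haveI := hLP; haveI := hLn
    refine ⟨Subgroup.Normal.map (inferInstance) _ e.surjective, ?_⟩
    have heven : Even (Nat.card L) := by
      by_contra h
      exact Group.IsPerfect.not_isSolvable L (Cfsg.Agent.S0205.result (Nat.not_even_iff_odd.1 h))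
    obtain ⟨R, hR'⟩ := CfsgLib.Transfer.exists_sylow_eq_subgroupOf T L
    have hcard : Nat.card ((L.subgroupOf (T : Subgroup N)).map e.toMonoidHom) =
        Nat.card (R : Subgroup L) := by
      rw [Subgroup.card_map_of_injective e.injective, hR', ← inf_subgroupOf_right L (T : Subgroup N),
        ← inf_subgroupOf_right (T : Subgroup N) L,
        Nat.card_congr (subgroupOfEquivOfLe inf_le_right).toEquiv,
        Nat.card_congr (subgroupOfEquivOfLe inf_le_right).toEquiv, inf_comm]
    rw [hcard]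
    by_contra hle
    push Not at hle
    have hcyc : IsCyclic (R : Subgroup L) := by
      rcases Nat.lt_or_ge (Nat.card (R : Subgroup L)) 2 with h | h
      · have h1 : Nat.card (R : Subgroup L) = 1 := by
          have := Nat.card_pos (α := (R : Subgroup L)); omega
        haveI := (Nat.card_eq_one_iff_unique.1 h1).1
        exact isCyclic_of_subsingleton
      · exact isCyclic_of_prime_card (p := 2) (by omega)
    exact not_complement heven (CfsgLib.Transfer.hasNormalPComplement_of_normalizer_le_centralizer R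
      (hcyc.normalizer_le_centralizer ((Nat.minFac_eq_two_iff _).2 (even_iff_two_dvd.1 heven))))
  obtain ⟨hA, hA2⟩ := key M hM hMP inferInstance
  obtain ⟨hB, hB2⟩ := key M' hM'n hM'P inferInstance
  set A := (M.subgroupOf (T : Subgroup N)).map e.toMonoidHom
  set B := (M'.subgroupOf (T : Subgroup N)).map e.toMonoidHom
  have hAB : A ⊓ B = ⊥ := by
    rw [← Subgroup.map_inf _ _ _ e.injective, Subgroup.map_eq_bot_iff_of_injective _ e.injective]
    refine (Subgroup.eq_bot_iff_forall _).2 fun x hx => Subtype.ext ?_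
    exact disjoint_def.1 hd (mem_inf.1 hx).1 (mem_inf.1 hx).2
  obtain ⟨k, hk⟩ := IsPGroup.iff_card.1 T.2
  rw [Nat.card_congr e.toEquiv, DihedralGroup.nat_card] at hk
  have hk2 : 2 ≤ k := by
    by_contra h
    have : 2 ^ k ≤ 2 ^ 1 := Nat.pow_le_pow_right two_pos (by omega)
    omega
  haveI : NeZero n := ⟨by omega⟩
  rcases eq_or_lt_of_le hk2 with hk' | hk'
  · subst hk'
    have hprod : Nat.card A * Nat.card B ≤ Nat.card (DihedralGroup n) := by
      rw [← Nat.card_prod]
      refine Nat.card_le_card_of_injective (fun q : A × B => (q.1 : DihedralGroup n) * q.2) ?_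
      rintro ⟨a, b⟩ ⟨a', b'⟩ he
      have h1 : (a' : DihedralGroup n)⁻¹ * a = b' * (b : DihedralGroup n)⁻¹ := by
        rw [eq_mul_inv_iff_mul_eq, mul_assoc,
          show (a : DihedralGroup n) * b = a' * b' from he, inv_mul_cancel_left]
      have h2 : (a' : DihedralGroup n)⁻¹ * a = 1 := mem_bot.1 (hAB ▸
        mem_inf.2 ⟨A.mul_mem (A.inv_mem a'.2) a.2, by rw [h1]; exact B.mul_mem b'.2 (B.inv_mem b.2)⟩)
      rw [inv_mul_eq_one] at h2
      have h3 : (b : DihedralGroup n) = b' := by
        have he' : (a : DihedralGroup n) * b = a' * b' := he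
        rw [h2] at he'
        exact mul_left_cancel he'
      exact Prod.ext (Subtype.ext h2.symm) (Subtype.ext h3)
    rw [DihedralGroup.nat_card, hk] at hprod
    have : 3 * 3 ≤ Nat.card A * Nat.card B := Nat.mul_le_mul hA2 hB2
    exact absurd (le_trans this hprod) (by norm_num)
  · obtain ⟨j, rfl⟩ : ∃ j, k = j + 3 := ⟨k - 3, by omega⟩
    have hn' : n = 2 ^ (j + 2) := by rw [pow_succ] at hk; omega
    have hne : ∀ C : Subgroup (DihedralGroup n), 2 < Nat.card C → C ≠ ⊥ := fun C h h0 => by
      rw [h0, Subgroup.card_bot] at h; omega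
    have hm := mem_inf.2 ⟨half_mem hn' A (hne A hA2), half_mem hn' B (hne B hB2)⟩
    rw [hAB, mem_bot, ← DihedralGroup.r_zero] at hm
    have h0 := (ZMod.natCast_eq_zero_iff _ _).1 (DihedralGroup.r.inj hm)
    have := Nat.le_of_dvd (by positivity) h0
    rw [hn', pow_succ 2 (j + 1)] at this
    have : 0 < 2 ^ (j + 1) := by positivity
    omega

end CfsgLib.Recog.ABProd
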