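import Cfsg.Agent.Lib.Recog.ABProd.Basic
import Cfsg.Agent.Lib.Recog.ABProd.Models
import Cfsg.Agent.Lib.Recog.ABProd.Socle
import Cfsg.Agent.Lib.Recog.GW.RankOne
import Cfsg.Agent.Lib.Recog.GW.Reduce
import Cfsg.Agent.Lib.InvChar.ConjRank.CentreFreeBasic
import Cfsg.Agent.Lib.Invol.MetacyclicTwoSolvable
import Cfsg.Agent.S0205

/-!
The induction: a nonsolvable group `G = AB` without solvable normal subgroup, with `A` cyclic and
`B` a Z-group, is `PGL₂(p)`, given the analysis of the primitive case.
-/

set_option autoImplicit false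

namespace CfsgLib.Recog.ABProd

open Subgroup
open scoped commutatorElement

universe u

theorem Setting.map {G : Type*} [Group G] [Finite G] {A B : Subgroup G} (h : Setting A B)
    {H : Type*} [Group H] (f : G →* H) (hf : Function.Surjective f) :
    Setting (A.map f) (B.map f) := by
  haveI := h.cyc
  haveI := h.zgrp
  refine ⟨isCyclic_of_surjective _ (f.subgroupMap_surjective A),
    IsZGroup.of_surjective (f := f.subgroupMap B) (f.subgroupMap_surjective B), fun y => ?_⟩
  obtain ⟨g, rfl⟩ := hf y
  obtain ⟨a, ha, b, hb, rfl⟩ := h.prod g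
  exact ⟨f a, mem_map_of_mem f ha, f b, mem_map_of_mem f hb, map_mul f a b⟩

theorem isSolvable_comap_mk {G : Type u} [Group G] (N : Subgroup G) [N.Normal]
    (hN : Group.IsSolvable N) (X : Subgroup (G ⧸ N)) (hX : Group.IsSolvable X) :
    Group.IsSolvable ↥(X.comap (QuotientGroup.mk' N)) :=
  Group.isSolvable_of_ker_le_range
    (Subgroup.inclusion (show N ≤ X.comap (QuotientGroup.mk' N) from fun n hn => by
      rw [mem_comap, QuotientGroup.mk'_apply, (QuotientGroup.eq_one_iff n).2 hn]
      exact one_mem X))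
    ((QuotientGroup.mk' N).subgroupComap X) fun x hx =>
      ⟨⟨x, (QuotientGroup.eq_one_iff (x : G)).1 (congrArg Subtype.val (MonoidHom.mem_ker.1 hx))⟩, rfl⟩

/-- A radical free group modulo the identity: the quotient by the radical is radical free. -/
theorem radFree_quotient {G : Type u} [Group G] (R : Subgroup G) [R.Normal]
    (hRs : Group.IsSolvable R)
    (hmax : ∀ N : Subgroup G, N.Normal → Group.IsSolvable N → N ≤ R) : RadFree (G ⧸ R) := by
  intro X hX hs
  haveI := hX
  have h1 := hmax _ inferInstance (isSolvable_comap_mk R hRs X hs)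
  refine (eq_bot_iff_forall _).2 fun q hq => ?_
  obtain ⟨g, rfl⟩ := QuotientGroup.mk'_surjective R q
  exact (QuotientGroup.eq_one_iff g).2 (h1 hq)

theorem RadFree.of_normal {G : Type u} [Group G] [Finite G] (h : RadFree G) (K : Subgroup G)
    [K.Normal] : RadFree K := by
  intro N hN hs
  obtain ⟨hRn, hRs⟩ := CfsgLib.InvChar.ConjRank.solvableRadical_spec (G := K)
  set R := Cfsg.solvableRadical K with hR
  haveI := hRn
  haveI : R.Characteristic := by
    refine characteristic_iff_map_le.2 fun φ => ?_
    refine CfsgLib.InvChar.ConjRank.le_solvableRadical (hRn.map _ φ.surjective) ?_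
    haveI := hRs
    exact Group.isSolvable_of_surjective (φ.toMonoidHom.subgroupMap_surjective R)
  have h1 : R.map K.subtype = ⊥ := by
    refine h _ inferInstance ?_
    haveI := hRs
    exact Group.isSolvable_of_surjective (K.subtype.subgroupMap_surjective R)
  rw [map_eq_bot_iff_of_injective _ K.subtype_injective] at h1
  exact le_bot_iff.1 (h1 ▸ CfsgLib.InvChar.ConjRank.le_solvableRadical hN hs)

theorem not_isSolvable_of_injective {K H : Type*} [Group K] [Group H] (hK : ¬ Group.IsSolvable K)
    (f : K →* H) (hf : Function.Injective f) : ¬ Group.IsSolvable H := fun h =>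
  hK (by haveI := h; exact Group.isSolvable_of_isSolvable_injective hf)

theorem mk_comp_subtype_injective {G : Type*} [Group G] {H N : Subgroup G} [N.Normal]
    (h : H ⊓ N = ⊥) : Function.Injective ((QuotientGroup.mk' N).comp H.subtype) := by
  rw [← MonoidHom.ker_eq_bot_iff, eq_bot_iff]
  intro x hx
  have h1 : (x : G) ∈ H ⊓ N := ⟨x.2, (QuotientGroup.eq_one_iff (x : G)).1 (MonoidHom.mem_ker.1 hx)⟩
  rw [h, mem_bot] at h1
  exact mem_bot.2 (Subtype.ext h1)

/-- Two normal subgroups `K`, `C(K)` of trivial intersection: the quotient by the centralizer is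
radical free. -/
theorem radFree_quotient_centralizer {G : Type u} [Group G] (h : RadFree G) (K : Subgroup G)
    [K.Normal] [(centralizer (K : Set G)).Normal] (hKC : K ⊓ centralizer (K : Set G) = ⊥) :
    RadFree (G ⧸ centralizer (K : Set G)) := by
  intro X hX hs
  haveI := hX
  set C := centralizer (K : Set G) with hC
  set Y := X.comap (QuotientGroup.mk' C) with hY
  haveI : Y.Normal := hX.comap _
  have hYK : Y ⊓ K = ⊥ := by
    refine h _ inferInstance ?_
    haveI := hs
    let f : ↥(Y ⊓ K) →* X :=
      ((QuotientGroup.mk' C).subgroupComap X).comp (Subgroup.inclusion inf_le_left)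
    refine Group.isSolvable_of_isSolvable_injective (f := f) ?_
    rw [← MonoidHom.ker_eq_bot_iff, eq_bot_iff]
    intro x hx
    have h1 : (x : G) ∈ K ⊓ C :=
      ⟨x.2.2, (QuotientGroup.eq_one_iff (x : G)).1 (congrArg Subtype.val (MonoidHom.mem_ker.1 hx))⟩
    rw [hKC, mem_bot] at h1
    exact mem_bot.2 (Subtype.ext h1)
  have hYC : Y ≤ C := fun y hy => mem_centralizer_iff.2 fun k hk =>
    (commute_of_normal_of_disjoint Y K inferInstance inferInstance (disjoint_iff.2 hYK) y k hy hk).symm
  refine (eq_bot_iff_forall _).2 fun q hq => ?_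
  obtain ⟨g, rfl⟩ := QuotientGroup.mk'_surjective C q
  exact (QuotientGroup.eq_one_iff g).2 (hYC hq)

/-- The quotient by the core of a maximal subgroup over `B` is radical free unless solvable. -/
theorem radFree_quotient_core {G : Type u} [Group G] [Finite G] {B M : Subgroup G}
    (hB : IsZGroup B) (hM : IsCoatom M) (K : Subgroup G) [K.Normal] (hK : K = M.normalCore)
    (hMB : ∀ m ∈ M, ∃ k ∈ K, ∃ b ∈ B, m = k * b) (hns : ¬ Group.IsSolvable (G ⧸ K)) :
    RadFree (G ⧸ K) := by
  intro X hX hs
  haveI := hX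
  set Y := X.comap (QuotientGroup.mk' K) with hY
  haveI : Y.Normal := hX.comap _
  have hKY : K ≤ Y := fun k hk => by
    rw [hY, mem_comap, QuotientGroup.mk'_apply, (QuotientGroup.eq_one_iff k).2 hk]
    exact one_mem X
  by_cases hYM : Y ≤ M
  · have h1 : Y ≤ K := hK ▸ normal_le_normalCore.2 hYM
    refine (eq_bot_iff_forall _).2 fun q hq => ?_
    obtain ⟨g, rfl⟩ := QuotientGroup.mk'_surjective K q
    exact (QuotientGroup.eq_one_iff g).2 (h1 hq)
  exfalso
  refine hns (CfsgLib.Invol.MetacyclicTwo.solvable_of_extension X hs ?_)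
  haveI := hB
  let f : B →* (G ⧸ K) ⧸ X := (QuotientGroup.mk' X).comp ((QuotientGroup.mk' K).comp B.subtype)
  refine Group.isSolvable_of_surjective (f := f) fun q => ?_
  obtain ⟨q', rfl⟩ := QuotientGroup.mk'_surjective X q
  obtain ⟨g, rfl⟩ := QuotientGroup.mk'_surjective K q'
  have htop : Y ⊔ M = ⊤ := hM.2 _ (lt_of_le_of_ne le_sup_right fun e => hYM (e ▸ le_sup_left))
  obtain ⟨y, hy, m, hm, rfl⟩ := mem_sup_of_normal_left.1 (htop ▸ mem_top g)
  obtain ⟨k, hk, b, hb, rfl⟩ := hMB m hm
  refine ⟨⟨b, hb⟩, ?_⟩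
  show QuotientGroup.mk' X (QuotientGroup.mk' K b) = _
  rw [QuotientGroup.mk'_apply, QuotientGroup.mk'_apply X, QuotientGroup.eq, ← map_inv, ← map_mul]
  have h2 : b⁻¹ * (y * k) * b ∈ Y := by
    have := Subgroup.Normal.conj_mem inferInstance (y * k) (mul_mem hy (hKY hk)) b⁻¹
    rwa [inv_inv] at this
  rw [show b⁻¹ * (y * (k * b)) = b⁻¹ * (y * k) * b by group]
  exact h2

/-- A subgroup of a cyclic group with a pair of even bounds on its two projections. -/
theorem two_mul_card_le_cyclic {A H₁ H₂ : Type*} [Group A] [Group H₁] [Group H₂] [Finite A]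
    [Finite H₁] [Finite H₂] [IsCyclic A] (f : A →* H₁ × H₂) (hf : Function.Injective f)
    (h1 : Even (Nat.card H₁)) (h2 : Even (Nat.card H₂)) :
    2 * Nat.card A ≤ Nat.card H₁ * Nat.card H₂ := by
  obtain ⟨g, hg⟩ := IsCyclic.exists_generator (α := A)
  rw [← orderOf_eq_card_of_forall_mem_zpowers hg, ← orderOf_injective f hf g, Prod.orderOf]
  set l := Nat.lcm (Nat.card H₁) (Nat.card H₂) with hl
  have hle : (orderOf (f g).1).lcm (orderOf (f g).2) ≤ l :=
    Nat.le_of_dvd (Nat.lcm_pos Nat.card_pos Nat.card_pos)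
      (Nat.lcm_dvd ((_root_.orderOf_dvd_natCard _).trans (Nat.dvd_lcm_left _ _))
        ((_root_.orderOf_dvd_natCard _).trans (Nat.dvd_lcm_right _ _)))
  have h3 := Nat.gcd_mul_lcm (Nat.card H₁) (Nat.card H₂)
  have h4 : 2 ≤ Nat.gcd (Nat.card H₁) (Nat.card H₂) :=
    Nat.le_of_dvd (Nat.gcd_pos_of_pos_left _ Nat.card_pos)
      (Nat.dvd_gcd h1.two_dvd h2.two_dvd)
  rw [← h3]
  exact Nat.mul_le_mul h4 hle

/-- A Z-group is no product of two groups of even order. -/
theorem two_mul_card_le_zgroup {B H₁ H₂ : Type*} [Group B] [Group H₁] [Group H₂] [Finite B]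
    [Finite H₁] [Finite H₂] [IsZGroup B] (f : B →* H₁ × H₂) (hf : Function.Injective f)
    (h1 : Even (Nat.card H₁)) (h2 : Even (Nat.card H₂)) :
    2 * Nat.card B ≤ Nat.card H₁ * Nat.card H₂ := by
  haveI : Fact (Nat.Prime 2) := ⟨Nat.prime_two⟩
  by_contra hlt
  have hr : f.range = ⊤ := by
    by_contra hne
    have h3 := f.range.card_mul_index
    rw [← Nat.card_congr (MonoidHom.ofInjective hf).toEquiv, Nat.card_prod] at h3
    have h4 : 1 < f.range.index := one_lt_index_of_ne_top hne
    have : Nat.card B * 2 ≤ Nat.card B * f.range.index := Nat.mul_le_mul_left _ h4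
    omega
  have hsur : Function.Surjective f := MonoidHom.range_eq_top.1 hr
  obtain ⟨s, hs⟩ := exists_prime_orderOf_dvd_card' (G := H₁) 2 h1.two_dvd
  obtain ⟨t, ht⟩ := exists_prime_orderOf_dvd_card' (G := H₂) 2 h2.two_dvd
  obtain ⟨x, hx⟩ := hsur (s, 1)
  obtain ⟨y, hy⟩ := hsur (1, t)
  have hx2 : orderOf x = 2 := by
    rw [← orderOf_injective f hf x, hx, Prod.orderOf]; simp [hs]
  have hy2 : orderOf y = 2 := by
    rw [← orderOf_injective f hf y, hy, Prod.orderOf]; simp [ht]
  have hxy : x * y = y * x := hf (by rw [map_mul, map_mul, hx, hy]; simp)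
  haveI : IsMulCommutative (closure ({x, y} : Set B)) := isMulCommutative_closure (by
    rintro a (rfl | rfl) b (rfl | rfl) <;> first | rfl | exact hxy | exact hxy.symm)
  letI : CommGroup (closure ({x, y} : Set B)) :=
    { (inferInstance : Group (closure ({x, y} : Set B))) with
      mul_comm := fun a b => IsMulCommutative.is_comm.comm a b }
  have hcyc : IsCyclic (closure ({x, y} : Set B)) := inferInstance
  have he := invol_unique_of_cyclic hcyc (subset_closure (Or.inl rfl))
    (subset_closure (Or.inr rfl)) hx2 hy2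
  rw [he, hy, Prod.mk.injEq] at hx
  rw [← hx.1, orderOf_one] at hs
  omega

/-- The induction step when the core of a maximal subgroup over `B` is not trivial. -/
theorem absurd_of_core_ne_bot {G : Type u} [Group G] [Finite G] {A B : Subgroup G}
    (hS : Setting A B) (hR : RadFree G) (hns : ¬ Group.IsSolvable G)
    (IH : ModelBelow.{u} (Nat.card G)) {M : Subgroup G} (hM : IsCoatom M) (hBM : B ≤ M)
    (hK1 : M.normalCore ≠ ⊥) (hAK : A ⊓ M ≤ M.normalCore) : False := by
  classical
  set K := M.normalCore with hKdef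
  haveI hKn : K.Normal := normalCore_normal M
  have hKM : K ≤ M := normalCore_le M
  have hKns : ¬ Group.IsSolvable K := fun h => hK1 (hR K hKn h)
  set C := centralizer (K : Set G) with hCdef
  haveI hCn : C.Normal := normal_centralizer
  have hKC : K ⊓ C = ⊥ := by
    refine hR _ inferInstance (Group.isSolvable_of_comm fun a b => Subtype.ext ?_)
    exact mem_centralizer_iff.1 b.2.2 a a.2.1
  by_cases hC : C = ⊥
  · -- `G` is inside the automorphism group of the socle of `M` modulo its radical
    obtain ⟨hRn, hRs⟩ := CfsgLib.InvChar.ConjRank.solvableRadical_spec (G := M)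
    set R := Cfsg.solvableRadical M with hRdef
    haveI := hRn
    have hSM : Setting (A.subgroupOf M) (B.subgroupOf M) := by
      refine ⟨?_, ?_, fun m => ?_⟩
      · haveI := hS.cyc
        exact isCyclic_of_injective ((M.subtype.comp (A.subgroupOf M).subtype).codRestrict A
          fun x => x.2) fun x y h => Subtype.ext (Subtype.ext (congrArg Subtype.val h :))
      · haveI := hS.zgrp
        exact IsZGroup.of_injective (f := (subgroupOfEquivOfLe hBM).toMonoidHom)
          (subgroupOfEquivOfLe hBM).injective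
      · obtain ⟨a, ha, b, hb, he⟩ := hS.prod m
        have haM : a ∈ M := by
          have : a = (m : G) * b⁻¹ := by rw [he]; group
          rw [this]
          exact mul_mem m.2 (inv_mem (hBM hb))
        exact ⟨⟨a, haM⟩, ha, ⟨b, hBM hb⟩, hb, Subtype.ext he⟩
    have hMns : ¬ Group.IsSolvable M :=
      not_isSolvable_of_injective hKns (inclusion hKM) (inclusion_injective hKM)
    have hXr : RadFree (M ⧸ R) := radFree_quotient R hRs fun N hN hs =>
      CfsgLib.InvChar.ConjRank.le_solvableRadical hN hs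
    have hXns : ¬ Group.IsSolvable (M ⧸ R) := fun h =>
      hMns (CfsgLib.Invol.MetacyclicTwo.solvable_of_extension R hRs h)
    have hMlt : Nat.card M < Nat.card G :=
      lt_of_le_of_ne (Nat.le_of_dvd Nat.card_pos (card_subgroup_dvd_card M))
        fun e => hM.1 (eq_top_of_card_eq M e)
    have hXle : Nat.card (M ⧸ R) ≤ Nat.card M :=
      Nat.le_of_dvd Nat.card_pos (card_quotient_dvd_card R)
    obtain ⟨-, -, -, hX⟩ := (IH (M ⧸ R) (lt_of_le_of_lt hXle hMlt) _ _
      (hSM.map _ (QuotientGroup.mk'_surjective R)) hXr hXns).facts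
    haveI : (K.subgroupOf M).Normal := hKn.subgroupOf M
    have hKR : K.subgroupOf M ⊓ R = ⊥ := by
      let ι : K →* M := inclusion hKM
      have h1 : R.comap ι = ⊥ := by
        refine hR.of_normal K _ inferInstance ?_
        haveI := hRs
        exact Group.isSolvable_of_isSolvable_injective (f := ι.subgroupComap R) fun x y h =>
          Subtype.ext (inclusion_injective hKM (congrArg Subtype.val h))
      refine (eq_bot_iff_forall _).2 fun m hm => ?_
      have h2 : (⟨m, hm.1⟩ : K) ∈ R.comap ι := hm.2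
      rw [h1, mem_bot] at h2
      exact Subtype.ext (congrArg Subtype.val h2 :)
    let f : K →* M ⧸ R := (QuotientGroup.mk' R).comp (inclusion hKM)
    have hf : Function.Injective f := by
      rw [← MonoidHom.ker_eq_bot_iff, eq_bot_iff]
      intro x hx
      have h1 : inclusion hKM x ∈ K.subgroupOf M ⊓ R :=
        ⟨x.2, (QuotientGroup.eq_one_iff _).1 (MonoidHom.mem_ker.1 hx)⟩
      rw [hKR, mem_bot] at h1
      exact mem_bot.2 (Subtype.ext (congrArg Subtype.val h1 :))
    have hfn : f.range.Normal := by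
      rw [MonoidHom.range_comp, Subgroup.inclusion_range]
      exact Subgroup.Normal.map inferInstance _ (QuotientGroup.mk'_surjective R)
    obtain ⟨-, hXC, hXA⟩ := hX f.range hfn
      (not_isSolvable_of_injective hKns f.rangeRestrict ((MonoidHom.rangeRestrict_injective_iff).2 hf))
    set L := ⁅K, K⁆ with hL
    haveI hLn : L.Normal := by rw [hL]; infer_instance
    have hLK : L ≤ K := Subgroup.commutator_le_self K
    have hmapL : (commutator K).map K.subtype = L := by
      rw [_root_.commutator_def, map_commutator, ← MonoidHom.range_eq_map, range_subtype]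
    have hmapX : (commutator K).map f = ⁅f.range, f.range⁆ := by
      rw [_root_.commutator_def, map_commutator, ← MonoidHom.range_eq_map]
    have hLX : Nat.card (MulAut L) = Nat.card (M ⧸ R) := by
      rw [← hXA, ← hmapL, ← hmapX]
      exact Nat.card_congr (MulAut.congr
        ((equivMapOfInjective _ _ K.subtype_injective).symm.trans
          (equivMapOfInjective _ _ hf))).toEquiv
    have hCL : centralizer (L : Set G) = ⊥ := by
      haveI : (centralizer (L : Set G)).Normal := normal_centralizer
      have hD : centralizer (L : Set G) ⊓ K = ⊥ := by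
        refine (eq_bot_iff_forall _).2 fun d hd => ?_
        have h1 : f ⟨d, hd.2⟩ ∈ centralizer ((⁅f.range, f.range⁆ : Subgroup (M ⧸ R)) : Set (M ⧸ R)) := by
          rw [← hmapX]
          refine mem_centralizer_iff.2 ?_
          rintro _ ⟨k, hk, rfl⟩
          rw [← map_mul, ← map_mul]
          refine congrArg f (Subtype.ext ?_)
          exact mem_centralizer_iff.1 hd.1 (k : G) (hmapL ▸ mem_map_of_mem K.subtype hk)
        rw [hXC, mem_bot] at h1
        exact congrArg Subtype.val (hf (h1.trans (map_one f).symm))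
      refine le_bot_iff.1 (le_trans ?_ hC.le)
      exact fun d hd => mem_centralizer_iff.2 fun k hk =>
        (commute_of_normal_of_disjoint _ K inferInstance hKn (disjoint_iff.2 hD) d k hd hk).symm
    have hφ : Function.Injective (MulAut.conjNormal : G →* MulAut L) := by
      rw [← MonoidHom.ker_eq_bot_iff, eq_bot_iff, ← hCL]
      intro x hx
      refine mem_centralizer_iff.2 fun l hl => ?_
      have h1 := congrArg Subtype.val (DFunLike.congr_fun (MonoidHom.mem_ker.1 hx) (⟨l, hl⟩ : L))
      rw [MulAut.conjNormal_apply, MulAut.one_apply] at h1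
      exact (mul_inv_eq_iff_eq_mul.1 h1).symm
    haveI : Finite (MulAut L) := Nat.finite_of_card_ne_zero (by rw [hLX]; exact Nat.card_pos.ne')
    have := Nat.card_le_card_of_injective _ hφ
    omega
  · -- two proper quotients
    have hCns : ¬ Group.IsSolvable C := fun h => hC (hR C hCn h)
    have hlt : ∀ (N : Subgroup G) [N.Normal], N ≠ ⊥ → Nat.card (G ⧸ N) < Nat.card G := by
      intro N _ hN
      rw [card_eq_card_quotient_mul_card_subgroup N]
      exact lt_mul_of_one_lt_right Nat.card_pos
        (Finite.one_lt_card_iff_nontrivial.2 ((nontrivial_iff_ne_bot N).2 hN))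
    set p := QuotientGroup.mk' C with hp
    set q := QuotientGroup.mk' K with hq
    have hKi : Function.Injective (p.comp K.subtype) := mk_comp_subtype_injective hKC
    have hCi : Function.Injective (q.comp C.subtype) :=
      mk_comp_subtype_injective ((inf_comm C K).trans hKC)
    have hKns' := not_isSolvable_of_injective hKns _ hKi
    have hCns' := not_isSolvable_of_injective hCns _ hCi
    have hMB : ∀ m ∈ M, ∃ k ∈ K, ∃ b ∈ B, m = k * b := by
      intro m hm
      obtain ⟨a, ha, b, hb, he⟩ := hS.prod m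
      refine ⟨a, hAK ⟨ha, ?_⟩, b, hb, he⟩
      show a ∈ M
      have : a = m * b⁻¹ := by rw [he]; group
      rw [this]
      exact mul_mem hm (inv_mem (hBM hb))
    obtain ⟨hX1, ha1, hb1, hk1⟩ := (IH (G ⧸ C) (hlt C hC) _ _
      (hS.map p (QuotientGroup.mk'_surjective C))
      (radFree_quotient_centralizer hR K hKC) hKns').facts
    obtain ⟨hX2, ha2, hb2, -⟩ := (IH (G ⧸ K) (hlt K hK1) _ _
      (hS.map q (QuotientGroup.mk'_surjective K))
      (radFree_quotient_core hS.zgrp hM K hKdef hMB hCns') hCns').facts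
    obtain ⟨hKle, -, -⟩ := hk1 (p.comp K.subtype).range
      (by rw [MonoidHom.range_comp, range_subtype]
          exact hKn.map _ (QuotientGroup.mk'_surjective C))
      (not_isSolvable_of_injective hKns _ ((MonoidHom.rangeRestrict_injective_iff).2 hKi))
    rw [← Nat.card_congr (MonoidHom.ofInjective hKi).toEquiv] at hKle
    have hprod : ∀ x : G, p x = 1 → q x = 1 → x = 1 := fun x h1 h2 => by
      have h3 : x ∈ K ⊓ C := ⟨(QuotientGroup.eq_one_iff x).1 h2, (QuotientGroup.eq_one_iff x).1 h1⟩
      rwa [hKC, mem_bot] at h3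
    have hinj : ∀ H : Subgroup G, Function.Injective ((p.subgroupMap H).prod (q.subgroupMap H)) := by
      intro H
      rw [← MonoidHom.ker_eq_bot_iff, eq_bot_iff]
      intro x hx
      rw [MonoidHom.mem_ker] at hx
      exact mem_bot.2 (Subtype.ext (hprod x (congrArg (fun z => (z.1 : G ⧸ C)) hx)
        (congrArg (fun z => (z.2 : G ⧸ K)) hx)))
    haveI := hS.cyc
    haveI := hS.zgrp
    have hA := two_mul_card_le_cyclic _ (hinj A) ha1 ha2
    have hB := two_mul_card_le_zgroup _ (hinj B) hb1 hb2
    have hG : Nat.card G ≤ Nat.card A * Nat.card B := by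
      rw [← Nat.card_prod]
      refine Nat.card_le_card_of_surjective (fun x : A × B => (x.1 : G) * x.2) fun g => ?_
      obtain ⟨a, ha, b, hb, rfl⟩ := hS.prod g
      exact ⟨(⟨a, ha⟩, ⟨b, hb⟩), rfl⟩
    have hGK : Nat.card G = Nat.card (G ⧸ K) * Nat.card K := card_eq_card_quotient_mul_card_subgroup K
    have h6 := Nat.mul_le_mul hA hB
    have h7 := Nat.mul_le_mul_left (Nat.card (G ⧸ K)) hKle
    rw [hX1, hX2] at h7
    rw [hX2] at hGK
    have hpos : 0 < Nat.card G := Nat.card_pos
    nlinarith [h6, h7, hG, hGK]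

/-- **The induction.** -/
theorem model_all (hGW : CfsgLib.Recog.GW.PerfectDihedral.{u})
    (hSyl : ∀ {G : Type u} [Group G] [Finite G] {A B : Subgroup G}, Prim A B →
      ModelBelow.{u} (Nat.card G) → SylowData G)
    (hIdent : ∀ {G : Type u} [Group G] [Finite G] {A B : Subgroup G} (_ : Prim A B)
      (_ : Even (Nat.card A)) (_ : SylowData G) (N : Subgroup G), N.Normal → IsSimpleGroup N →
      Subgroup.centralizer (N : Set G) = ⊥ → CfsgLib.Recog.GW.IsGWModel N →
      Model G (Nat.card A) (Nat.card B)) :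
    ∀ N, ModelBelow.{u} N := by
  intro N
  induction N with
  | zero => exact fun H _ _ h => absurd h (Nat.not_lt_zero _)
  | succ n ih =>
    intro G _ _ hlt A B hS hR hns
    by_cases hlt' : Nat.card G < n
    · exact ih G hlt' A B hS hR hns
    have IH : ModelBelow.{u} (Nat.card G) := (show Nat.card G = n by omega) ▸ ih
    have hBtop : B ≠ ⊤ := by
      rintro rfl
      haveI := hS.zgrp
      exact hns (Group.isSolvable_of_surjective (f := (⊤ : Subgroup G).subtype)
        fun g => ⟨⟨g, mem_top g⟩, rfl⟩)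
    obtain ⟨M, hM, hBM⟩ := (eq_top_or_exists_le_coatom B).resolve_left hBtop
    have hAK : A ⊓ M ≤ M.normalCore := by
      intro x hx
      show ∀ g : G, g * x * g⁻¹ ∈ M
      intro g
      obtain ⟨a, ha, b, hb, he⟩ := hS.prod g⁻¹
      have h1 : g = b⁻¹ * a⁻¹ := by rw [← mul_inv_rev, ← he, inv_inv]
      have h2 : g * x * g⁻¹ = b⁻¹ * x * b := by
        rw [h1, mul_inv_rev, inv_inv, inv_inv, mul_assoc b⁻¹ a⁻¹ x,
          commute_of_cyclic hS.cyc (inv_mem ha) hx.1]
        group
      rw [h2]
      exact mul_mem (mul_mem (inv_mem (hBM hb)) hx.2) (hBM hb)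
    by_cases hK : M.normalCore = ⊥
    swap
    · exact (absurd_of_core_ne_bot hS hR hns IH hM hBM hK hAK).elim
    have hMB : M = B := by
      refine le_antisymm (fun m hm => ?_) hBM
      obtain ⟨a, ha, b, hb, he⟩ := hS.prod m
      have haM : a ∈ M := by
        have : a = m * b⁻¹ := by rw [he]; group
        rw [this]
        exact mul_mem hm (inv_mem (hBM hb))
      have ha1 := hAK ⟨ha, haM⟩
      rw [hK, mem_bot] at ha1
      rw [he, ha1, one_mul]
      exact hb
    subst hMB
    have P : Prim A M :=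
      { toSetting := hS, disj := le_bot_iff.1 (hK ▸ hAK), maxB := hM, core := hK, rad := hR,
        nonsolv := hns }
    have hSD : SylowData G := hSyl P IH
    obtain ⟨L, hLn, hLs, hLc, hLC, T, m, hm, hT⟩ := exists_dihedral_normal hR hns hSD
    refine hIdent P P.even_card_A hSD L hLn hLs hLC ?_
    haveI := hLs
    haveI : Group.IsPerfect L := by
      refine ⟨(Subgroup.Normal.eq_bot_or_eq_top (inferInstance : (commutator L).Normal)).resolve_left
        fun h => hLc ⟨⟨fun u v => ?_⟩⟩⟩
      have h1 : ⁅u, v⁆ ∈ commutator L := commutator_mem_commutator (mem_top u) (mem_top v)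
      rw [h, mem_bot] at h1
      exact commutatorElement_eq_one_iff_mul_comm.1 h1
    haveI hOn : (Cfsg.oddCore L).Normal := CfsgLib.Solvable.pPrimeCore_normal 2 L
    have hO : Cfsg.oddCore L = ⊥ := by
      refine hOn.eq_bot_or_eq_top.resolve_right fun h => hLc ?_
      have hodd : Odd (Nat.card L) := by
        have := CfsgLib.Invol.odd_card_oddCore L
        rwa [h, card_top] at this
      haveI := Cfsg.Agent.S0205.result hodd
      exact ⟨⟨IsSimpleGroup.comm_iff_isSolvable.2 inferInstance⟩⟩
    let e : L ≃* L ⧸ Cfsg.oddCore L :=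
      (QuotientGroup.quotientBot (G := L)).symm.trans (QuotientGroup.quotientMulEquivOfEq hO.symm)
    rcases hGW L T m hm hT with ⟨F, i, j, ho, hq, ⟨g⟩⟩ | hg7
    · exact Or.inl ⟨F, i, j, ho, hq, ⟨e.trans g⟩⟩
    · exact Or.inr (hg7.map e.trans)

/-- The statement on the quotient by the radical, from the induction. -/
theorem result_of_model (hmod : ∀ N, ModelBelow.{u} N) {G : Type u} [Group G] [Finite G]
    (hG : ¬ Group.IsSolvable G) (A B : Subgroup G) (hA : IsCyclic ↥A)
    (hB : ∀ (q : ℕ) [Fact q.Prime] (Q : Sylow q ↥B), IsCyclic ↥(Q : Subgroup ↥B))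
    (hAB : ∀ g : G, ∃ a ∈ A, ∃ b ∈ B, g = a * b)
    (R : Subgroup G) [hR : R.Normal] (hRs : Group.IsSolvable ↥R)
    (hRmax : ∀ N : Subgroup G, N.Normal → Group.IsSolvable ↥N → N ≤ R) :
    ∃ (F : Type) (_ : Field F) (_ : Fintype F) (p : ℕ), p.Prime ∧ 3 < p ∧ Fintype.card F = p ∧
      Nonempty ((G ⧸ R) ≃* (GL (Fin 2) F ⧸ Subgroup.center (GL (Fin 2) F))) := by
  have hS : Setting A B := ⟨hA, ⟨fun p hp Q => @hB p ⟨hp⟩ Q⟩, hAB⟩
  obtain ⟨F, i, j, p, hp, hp3, hc, he, -⟩ := hmod _ (G ⧸ R) (Nat.lt_succ_self _) _ _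
    (hS.map _ (QuotientGroup.mk'_surjective R)) (radFree_quotient R hRs hRmax)
    fun h => hG (CfsgLib.Invol.MetacyclicTwo.solvable_of_extension R hRs h)
  exact ⟨F, i, j, p, hp, hp3, hc, he⟩

end CfsgLib.Recog.ABProd
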