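import Cfsg.Agent.Lib.Recog.ABProd.Basic

/-!
Every pair of points is fixed by exactly one involution; the involutions with a fixed point are
conjugate; the centraliser in the regular cyclic subgroup is regular on the fixed points.
-/

set_option autoImplicit false

namespace CfsgLib.Recog.ABProd

open MulAction Subgroup

universe u

variable {G : Type u} [Group G] {A B : Subgroup G}

theorem inv_eq_self_of_orderOf_two {t : G} (ht : orderOf t = 2) : t⁻¹ = t := by
  rw [inv_eq_iff_mul_eq_one, ← pow_two, ← ht, pow_orderOf_eq_one]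

theorem orderOf_conj_two {t g : G} (ht : orderOf t = 2) : orderOf (g * t * g⁻¹) = 2 := by
  rw [show g * t * g⁻¹ = MulAut.conj g t from rfl, MulEquiv.orderOf_eq, ht]

namespace Prim

variable [Finite G] (P : Prim A B)
include P

theorem invol_unique {x y : G ⧸ B} (hxy : x ≠ y) {s t : G} (hs : orderOf s = 2)
    (ht : orderOf t = 2) (hsx : s • x = x) (hsy : s • y = y) (htx : t • x = x) (hty : t • y = y) :
    s = t :=
  invol_unique_of_cyclic (H := stabilizer G x ⊓ stabilizer G y) (P.pair_stabilizer_cyclic hxy)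
    ⟨hsx, hsy⟩ ⟨htx, hty⟩ hs ht

theorem even_card_B : Even (Nat.card B) := by
  classical
  have : Fact (Nat.Prime 2) := ⟨Nat.prime_two⟩
  by_contra hodd
  obtain ⟨T⟩ := (inferInstance : Nonempty (Sylow 2 A))
  have hcard : Nat.card ((T : Subgroup A).map A.subtype) = 2 ^ (Nat.card G).factorization 2 := by
    rw [Nat.card_congr ((T : Subgroup A).equivMapOfInjective A.subtype A.subtype_injective).toEquiv.symm,
      T.card_eq_multiplicity, P.card_eq, Nat.factorization_mul Nat.card_pos.ne' Nat.card_pos.ne']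
    rw [Finsupp.add_apply, Nat.factorization_eq_zero_of_not_dvd (n := Nat.card B)
      (fun h => hodd (even_iff_two_dvd.2 h)), add_zero]
  let T' : Sylow 2 G := Sylow.ofCard _ hcard
  haveI := P.cyc
  have hc : IsCyclic (T' : Subgroup G) := by
    haveI : IsCyclic T := Subgroup.isCyclic _
    rw [Sylow.coe_ofCard]
    exact isCyclic_of_surjective _ ((T : Subgroup A).equivMapOfInjective A.subtype A.subtype_injective).surjective
  exact P.nonsolv (CfsgLib.Recog.GenDihedral.isSolvable_of_cyclic_sylow T' hc)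

/-- An involution with a fixed point has another one. -/
theorem exists_other_fixed {t : G} (ht : orderOf t = 2) {x : G ⧸ B} (hx : t • x = x) :
    ∃ y, y ≠ x ∧ t • y = y := by
  classical
  have := Fintype.ofFinite (G ⧸ B)
  have : Fact (Nat.Prime 2) := ⟨Nat.prime_two⟩
  have hp : IsPGroup 2 (Subgroup.zpowers t) :=
    IsPGroup.of_card (n := 1) (by rw [Nat.card_zpowers, ht, pow_one])
  have hd : 2 ∣ Nat.card (G ⧸ B) := P.card_points ▸ even_iff_two_dvd.1 P.even_card_A
  obtain ⟨y, hy, hne⟩ := hp.exists_fixed_point_of_prime_dvd_card_of_fixed_point (G ⧸ B) hd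
    (a := x) (fun g => by
      obtain ⟨k, hk⟩ := Subgroup.mem_zpowers_iff.1 g.2
      show (g : G) • x = x
      rw [← hk]
      exact mem_stabilizer_iff.1 (zpow_mem (mem_stabilizer_iff.2 hx) k))
  exact ⟨y, fun h => hne h.symm, hy ⟨t, Subgroup.mem_zpowers t⟩⟩

theorem conj_of_fixed {s t : G} (hs : orderOf s = 2) (ht : orderOf t = 2) {x y : G ⧸ B}
    (hx : s • x = x) (hy : t • y = y) : IsConj s t := by
  obtain ⟨x', hx', hsx'⟩ := P.exists_other_fixed hs hx
  obtain ⟨y', hy', hty'⟩ := P.exists_other_fixed ht hy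
  obtain ⟨g, h1, h2⟩ := P.exists_map_pair hx'.symm hy'.symm
  refine isConj_iff.2 ⟨g, P.invol_unique hy'.symm (orderOf_conj_two hs) ht ?_ ?_ hy hty'⟩
  · rw [mul_smul, mul_smul, ← h1, inv_smul_smul, hx]
  · rw [mul_smul, mul_smul, ← h2, inv_smul_smul, hsx']

theorem exists_invol_fixing {x y : G ⧸ B} (hxy : x ≠ y) :
    ∃ t : G, orderOf t = 2 ∧ t • x = x ∧ t • y = y := by
  classical
  have : Fact (Nat.Prime 2) := ⟨Nat.prime_two⟩
  obtain ⟨s, hs⟩ := exists_prime_orderOf_dvd_card' (G := B) 2 (even_iff_two_dvd.1 P.even_card_B)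
  have hs2 : orderOf (s : G) = 2 := by rwa [Subgroup.orderOf_coe]
  have hfix : (s : G) • pt B = pt B := smul_pt_eq_iff.2 s.2
  obtain ⟨w, hw, hsw⟩ := P.exists_other_fixed hs2 hfix
  obtain ⟨g, h1, h2⟩ := P.exists_map_pair hw.symm hxy
  refine ⟨g * s * g⁻¹, orderOf_conj_two hs2, ?_, ?_⟩
  · rw [mul_smul, mul_smul, ← h1, inv_smul_smul, hfix]
  · rw [mul_smul, mul_smul, ← h2, inv_smul_smul, hsw]

/-- Two distinct commuting involutions with fixed points have no common fixed point. -/
theorem no_common_fixed {s t : G} (hs : orderOf s = 2) (ht : orderOf t = 2) (hne : s ≠ t)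
    (hc : Commute s t) {x : G ⧸ B} (hsx : s • x = x) : t • x ≠ x := by
  classical
  intro htx
  have := Fintype.ofFinite (G ⧸ B)
  have : Fact (Nat.Prime 2) := ⟨Nat.prime_two⟩
  -- `t` acts on the fixed points of `s`, an even set
  let F := {y : G ⧸ B // s • y = y}
  obtain ⟨y, hy, hsy⟩ := P.exists_other_fixed hs hsx
  have hu : ∀ y : G ⧸ B, y ≠ x → ¬ (s • y = y ∧ t • y = y) := fun y hy h =>
    hne (P.invol_unique hy.symm hs ht hsx h.1 htx h.2)
  -- the fixed points of `s` are an even number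
  have hsc : ∀ y : G ⧸ B, s • (t • y) = t • (s • y) := fun y => by rw [← mul_smul, hc.eq, mul_smul]
  let σ : Equiv.Perm F :=
    { toFun := fun y => ⟨t • y.1, by rw [hsc, y.2]⟩
      invFun := fun y => ⟨t • y.1, by rw [hsc, y.2]⟩
      left_inv := fun y => Subtype.ext (by
        show t • t • y.1 = y.1
        rw [← mul_smul, ← pow_two, ← ht, pow_orderOf_eq_one, one_smul])
      right_inv := fun y => Subtype.ext (by
        show t • t • y.1 = y.1
        rw [← mul_smul, ← pow_two, ← ht, pow_orderOf_eq_one, one_smul]) }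
  have hσ : σ ^ 2 = 1 := by
    refine Equiv.ext fun y => Subtype.ext ?_
    show t • t • y.1 = y.1
    rw [← mul_smul, ← pow_two, ← ht, pow_orderOf_eq_one, one_smul]
  have h2 : 2 ∣ Fintype.card F := by
    have hsp : IsPGroup 2 (Subgroup.zpowers s) :=
      IsPGroup.of_card (n := 1) (by rw [Nat.card_zpowers, hs, pow_one])
    have hmod := hsp.card_modEq_card_fixedPoints (α := G ⧸ B)
    have he : (fixedPoints (Subgroup.zpowers s) (G ⧸ B)) ≃ F :=
      Equiv.subtypeEquivRight fun y => ⟨fun h => h ⟨s, Subgroup.mem_zpowers s⟩, fun h g => by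
        obtain ⟨k, hk⟩ := Subgroup.mem_zpowers_iff.1 g.2
        show (g : G) • y = y
        rw [← hk]
        exact mem_stabilizer_iff.1 (zpow_mem (mem_stabilizer_iff.2 h) k)⟩
    rw [Nat.card_congr he, P.card_points, Nat.card_eq_fintype_card (α := F)] at hmod
    have h0 : Nat.card A ≡ 0 [MOD 2] := Nat.modEq_zero_iff_dvd.2 (even_iff_two_dvd.1 P.even_card_A)
    exact Nat.modEq_zero_iff_dvd.1 (hmod.symm.trans h0)
  obtain ⟨w, hw, hwne⟩ := Equiv.Perm.exists_fixed_point_of_prime' (p := 2) (n := 1) h2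
    (by simpa using hσ) (a := (⟨x, hsx⟩ : F)) (Subtype.ext htx)
  exact hu w.1 (fun e => hwne (Subtype.ext e)) ⟨w.2, congrArg Subtype.val hw⟩

omit [Finite G] in
theorem smul_fixed_of_commute {g t : G} (hc : Commute g t) {x : G ⧸ B} (hx : t • x = x) :
    t • (g • x) = g • x := by
  rw [← mul_smul, ← hc.eq, mul_smul, hx]

/-- An involution of the regular cyclic subgroup fixes no point. -/
theorem A_free {a : G} (ha : a ∈ A) (x : G ⧸ B) (hx : a • x = x) : a = 1 := by
  haveI := P.cyc
  obtain ⟨b, rfl⟩ := P.regular_bijective.2 x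
  have h : a • pt B = pt B := by
    have h' : (b : G) • a • pt B = (b : G) • pt B := by
      rw [← mul_smul, commute_of_cyclic P.cyc b.2 ha, mul_smul]; exact hx
    exact smul_left_cancel _ h'
  have h' : a ∈ A ⊓ B := ⟨ha, smul_pt_eq_iff.1 h⟩
  rwa [P.disj, Subgroup.mem_bot] at h'

/-- The distinguished pair of involutions. -/
theorem exists_z_j : ∃ z j : G, z ∈ A ∧ orderOf z = 2 ∧ orderOf j = 2 ∧ j ∈ B ∧ Commute z j ∧
    j • (z • pt B) = z • pt B ∧ z • pt B ≠ pt B := by
  classical
  have : Fact (Nat.Prime 2) := ⟨Nat.prime_two⟩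
  obtain ⟨s, hs⟩ := exists_prime_orderOf_dvd_card' (G := A) 2 (even_iff_two_dvd.1 P.even_card_A)
  have hz : orderOf (s : G) = 2 := by rwa [Subgroup.orderOf_coe]
  have hne : (s : G) • pt B ≠ pt B := fun h => by
    rw [P.A_free s.2 _ h, orderOf_one] at hz
    simp at hz
  obtain ⟨j, hj, h1, h2⟩ := P.exists_invol_fixing hne
  refine ⟨s, j, s.2, hz, hj, smul_pt_eq_iff.1 h2, ?_, h1, hne⟩
  have hss : (s : G) • (s : G) • pt B = pt B := by
    rw [← mul_smul, ← pow_two, ← hz, pow_orderOf_eq_one, one_smul]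
  have h := P.invol_unique hne (orderOf_conj_two (g := (s : G)) hj) hj ?_ ?_ h1 h2
  · exact mul_inv_eq_iff_eq_mul.1 h
  · rw [mul_smul, mul_smul, inv_smul_smul, h2]
  · rw [inv_eq_self_of_orderOf_two hz, mul_smul, mul_smul, h1, hss]

/-- The elements of `A` that map the base point into the fixed points of `j` centralise `j`. -/
theorem commute_of_smul_fixed {z j a : G} (hz : z ∈ A) (hz1 : z ≠ 1) (hj : orderOf j = 2)
    (hc : Commute z j) (hjz : j • (z • pt B) = z • pt B) (hjB : j ∈ B) (ha : a ∈ A)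
    (hfix : j • (a • pt B) = a • pt B) : Commute a j := by
  have haz : a * z = z * a := commute_of_cyclic P.cyc ha hz
  have h3 : a • (z • pt B) = z • (a • pt B) := by rw [← mul_smul, haz, mul_smul]
  have hne : a • pt B ≠ a • (z • pt B) := by
    rw [h3]
    exact fun e => hz1 (P.A_free hz _ e.symm)
  have h := P.invol_unique hne (orderOf_conj_two (g := a) hj) hj ?_ ?_ hfix ?_
  · exact mul_inv_eq_iff_eq_mul.1 h
  · rw [mul_smul, mul_smul, inv_smul_smul, smul_pt_eq_iff.2 hjB]
  · rw [mul_smul, mul_smul, inv_smul_smul, hjz]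
  · rw [h3]
    exact smul_fixed_of_commute P hc hfix

end Prim

end CfsgLib.Recog.ABProd
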