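import Cfsg.Agent.Lib.Recog.ABProd.XShape
import Mathlib.GroupTheory.Perm.Cycle.Basic
import Mathlib.GroupTheory.SpecificGroups.Alternating

/-!
The generator of a regular cyclic group of even degree is an odd permutation; the group induced on
four fixed points is the symmetric group.
-/

set_option autoImplicit false
set_option linter.unusedSectionVars false

namespace CfsgLib.Recog.ABProd

open MulAction Subgroup

universe u

/-- A permutation with a single orbit of even size is odd. -/
theorem sign_of_one_orbit {α : Type*} [Fintype α] [DecidableEq α] (σ : Equiv.Perm α) (x : α)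
    (h : ∀ y, ∃ k : ℤ, (σ ^ k) x = y) (he : Even (Fintype.card α)) : Equiv.Perm.sign σ = -1 := by
  have h1 : 2 ≤ Fintype.card α := by
    have := Fintype.card_pos_iff.2 ⟨x⟩
    obtain ⟨k, hk⟩ := he
    omega
  obtain ⟨y, hy⟩ : ∃ y, y ≠ x := Fintype.exists_ne_of_one_lt_card h1 x
  have hmove : ∀ w, σ w ≠ w := by
    intro w hw
    obtain ⟨k, hk⟩ := h w
    have hx : σ x = x := by
      rw [← hk, ← Equiv.Perm.mul_apply, ← zpow_one_add, add_comm, zpow_add_one, Equiv.Perm.mul_apply] at hw
      exact (σ ^ k).injective hw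
    obtain ⟨k', hk'⟩ := h y
    exact hy (hk'.symm.trans (Equiv.Perm.zpow_apply_eq_self_of_apply_eq_self hx k'))
  have hcyc : σ.IsCycle := ⟨x, hmove x, fun w _ => h w⟩
  have hsupp : σ.support = Finset.univ := Finset.eq_univ_iff_forall.2 fun w => Equiv.Perm.mem_support.2 (hmove w)
  rw [hcyc.sign, hsupp, Finset.card_univ, he.neg_one_pow]

variable {G : Type u} [Group G] [Finite G] {A B : Subgroup G} {z j : G}

namespace Dist

variable (D : Dist A B z j) (P : Prim A B)
include D P

/-- A generator of the image of `A` permutes the fixed points in one orbit. -/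
theorem exists_one_orbit : ∃ a ∈ A ⊓ Cj j, (∀ c ∈ A ⊓ Cj j, c ∈ Subgroup.zpowers a) ∧
    ∀ y : Fix B j, ∃ k : ℤ, a ^ k • pt B = y.1 := by
  haveI := P.cyc
  haveI : IsCyclic ↥(A ⊓ Cj j) :=
    isCyclic_of_injective (Subgroup.inclusion inf_le_left) (Subgroup.inclusion_injective inf_le_left)
  obtain ⟨a, ha⟩ := IsCyclic.exists_generator (α := ↥(A ⊓ Cj j))
  refine ⟨a, a.2, fun c hc => ?_, fun y => ?_⟩
  · obtain ⟨k, hk⟩ := Subgroup.mem_zpowers_iff.1 (ha ⟨c, hc⟩)
    exact Subgroup.mem_zpowers_iff.2 ⟨k, congrArg Subtype.val hk⟩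
  · obtain ⟨c, hc⟩ := (D.fix_bijective P).2 y
    obtain ⟨k, rfl⟩ := Subgroup.mem_zpowers_iff.1 (ha c)
    exact ⟨k, congrArg Subtype.val hc⟩

theorem x_four (h4 : Nat.card (Fix B j) = 4) : Nonempty (XGrp B j ≃* Equiv.Perm (Fin 4)) := by
  classical
  have := Fintype.ofFinite (Fix B j)
  have hc4 : Fintype.card (Fix B j) = 4 := by rwa [← Nat.card_eq_fintype_card]
  have hperm : Nat.card (Equiv.Perm (Fix B j)) = 24 := by
    rw [Nat.card_perm, h4]; rfl
  have htop : XGrp B j = ⊤ := by
    by_contra hne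
    obtain ⟨a, ha, -, horb⟩ := D.exists_one_orbit P
    set σ := fixHom B j ⟨a, ha.2⟩ with hσdef
    have horb' : ∀ y : Fix B j, ∃ k : ℤ, (σ ^ k) D.x0 = y := fun y => by
      obtain ⟨k, hk⟩ := horb y
      refine ⟨k, Subtype.ext ?_⟩
      rw [hσdef, ← map_zpow, fixHom_apply, Subgroup.coe_zpow]
      exact hk
    have hsign := sign_of_one_orbit σ D.x0 horb' ⟨2, hc4⟩
    haveI : IsPretransitive (XGrp B j) (Fix B j) := by
      haveI := D.x_two_transitive P
      exact isPretransitive_of_is_two_pretransitive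
    have h1 : 4 ∣ Nat.card (XGrp B j) := by
      rw [← h4, ← MulAction.index_stabilizer_of_transitive (XGrp B j) D.x0]
      exact Subgroup.index_dvd_card _
    have h3 : 3 ∣ Nat.card (XGrp B j) := by
      let S : Subgroup (XGrp B j) := stabilizer (XGrp B j) D.x0
      have hO : ∀ y : Fix B j, y ≠ D.x0 → ∀ w : Fix B j, w ∈ MulAction.orbit S y ↔ w ≠ D.x0 := by
        intro y hy w
        constructor
        · rintro ⟨g, rfl⟩ h
          exact hy (smul_left_cancel (g : XGrp B j) (h.trans (mem_stabilizer_iff.1 g.2).symm))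
        · intro hw
          obtain ⟨c, h0, h1⟩ := D.exists_map_fix P hy.symm hw.symm
          exact ⟨⟨(fixHom B j).rangeRestrict c, h0⟩, h1⟩
      obtain ⟨y, hy⟩ := Fintype.exists_ne_of_one_lt_card (by omega : 1 < Fintype.card (Fix B j)) D.x0
      have hcard : Nat.card (MulAction.orbit S y) = 3 := by
        rw [Nat.card_congr (Equiv.subtypeEquivRight (hO y hy)), Nat.card_eq_fintype_card,
          Fintype.card_subtype_compl, Fintype.card_subtype_eq, hc4]
      have h2 : (stabilizer S y).index = 3 := by rw [← hcard, MulAction.index_stabilizer]; rfl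
      exact (h2 ▸ Subgroup.index_dvd_card _).trans (Subgroup.card_subgroup_dvd_card S)
    have h12 : 12 ∣ Nat.card (XGrp B j) := Nat.Coprime.mul_dvd_of_dvd_of_dvd (by norm_num) h1 h3
    have hle := Subgroup.card_le_card_group (XGrp B j)
    have hlt : Nat.card (XGrp B j) ≠ 24 := fun h => hne (Subgroup.eq_top_of_card_eq _ (h.trans hperm.symm))
    have hpos : 0 < Nat.card (XGrp B j) := Nat.card_pos
    rw [hperm] at hle
    have hidx : (XGrp B j).index = 2 := by
      have := (XGrp B j).card_mul_index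
      rw [hperm] at this
      obtain ⟨t, ht⟩ := h12
      have ht1 : t = 1 := by omega
      rw [ht, ht1] at this
      omega
    have hmem : σ ∈ alternatingGroup (Fix B j) :=
      (Equiv.Perm.eq_alternatingGroup_of_index_eq_two hidx) ▸ ⟨⟨a, ha.2⟩, rfl⟩
    rw [Equiv.Perm.mem_alternatingGroup, hsign] at hmem
    exact absurd hmem (by decide)
  exact ⟨((MulEquiv.subgroupCongr htop).trans Subgroup.topEquiv).trans
    (Equiv.permCongrHom (Fintype.equivFinOfCardEq hc4))⟩

end Dist

end CfsgLib.Recog.ABProd
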