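import Cfsg.Agent.Lib.Recog.ABProd.TwoSylow

/-!
The adapted Sylow 2-subgroup and the centraliser of the distinguished involution.
-/

set_option autoImplicit false
set_option linter.unusedSectionVars false

namespace CfsgLib.Recog.ABProd

open MulAction Subgroup

universe u

/-- In a dihedral group an element of order at least three lies in a cyclic subgroup inverted by
every element outside it, all of which are involutions. -/
theorem dihedral_rotations {Q : Type*} [Group Q] {m : ℕ} (e : Q ≃* DihedralGroup m) (v : Q)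
    (hv : 3 ≤ orderOf v) :
    ∃ R : Subgroup Q, IsCyclic R ∧ v ∈ R ∧
      ∀ y, y ∈ R ∨ (y * y = 1 ∧ ∀ q ∈ R, y * q * y⁻¹ = q⁻¹) := by
  obtain ⟨i, hi⟩ : ∃ i, e v = DihedralGroup.r i := by
    cases h : e v with
    | r i => exact ⟨i, rfl⟩
    | sr i =>
      exfalso
      have := DihedralGroup.orderOf_sr i
      rw [← h, MulEquiv.orderOf_eq] at this
      omega
  refine ⟨Subgroup.zpowers (e.symm (DihedralGroup.r 1)), inferInstance, ?_, fun y => ?_⟩
  · obtain ⟨c, rfl⟩ := ZMod.intCast_surjective i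
    refine Subgroup.mem_zpowers_iff.2 ⟨c, ?_⟩
    rw [← map_zpow, DihedralGroup.r_one_zpow, ← hi, MulEquiv.symm_apply_apply]
  · cases h : e y with
    | r t =>
      left
      obtain ⟨c, rfl⟩ := ZMod.intCast_surjective t
      refine Subgroup.mem_zpowers_iff.2 ⟨c, ?_⟩
      rw [← map_zpow, DihedralGroup.r_one_zpow, ← h, MulEquiv.symm_apply_apply]
    | sr t =>
      right
      refine ⟨e.injective (by rw [map_mul, h, map_one, DihedralGroup.sr_mul_self]), fun q hq => ?_⟩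
      obtain ⟨c, rfl⟩ := Subgroup.mem_zpowers_iff.1 hq
      refine e.injective ?_
      rw [map_mul, map_mul, map_inv, map_inv, map_zpow, MulEquiv.apply_symm_apply,
        DihedralGroup.r_one_zpow, h, DihedralGroup.inv_sr, DihedralGroup.inv_r, DihedralGroup.sr_mul_r,
        DihedralGroup.sr_mul_sr]
      congr 1
      ring

variable {G : Type u} [Group G] [Finite G] {A B : Subgroup G} {z j : G} {S : Sylow 2 G}
  {u b : G} {k l : ℕ}

/-- All the data. -/
structure Ctx (A B : Subgroup G) (z j : G) (S : Sylow 2 G) (u b : G) (k l : ℕ) : Prop where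
  prim : Prim A B
  dist : Dist A B z j
  ad : Adapted A B S u b k l

namespace Ctx

variable (X : Ctx A B z j S u b k l)
include X

theorem invol_A {x : G} (hx : x ∈ A) (h2 : orderOf x = 2) : x = z :=
  invol_unique_of_cyclic X.prim.cyc hx X.dist.zA h2 X.dist.z_two

/-- Every 2-element of `A` lies in `S`. -/
theorem mem_S_of_A {x : G} (hx : x ∈ A) (h : x ^ 2 ^ k = 1) : x ∈ (S : Subgroup G) := by
  haveI := X.prim.cyc
  have h1 : (⟨x, hx⟩ : A) ∈ Subgroup.zpowers (⟨u, X.ad.u_mem.1⟩ : A) :=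
    mem_zpowers_of_cyclic (Subtype.ext (by simpa [Subgroup.orderOf_mk, X.ad.u_ord] using h))
  obtain ⟨i, hi⟩ := Subgroup.mem_zpowers_iff.1 h1
  rw [← show u ^ i = x from congrArg Subtype.val hi]
  exact Subgroup.zpow_mem _ X.ad.u_mem.2 i

theorem z_sq : z * z = 1 := by rw [← pow_two, ← X.dist.z_two, pow_orderOf_eq_one]

theorem z_mem_S : z ∈ (S : Subgroup G) := by
  refine X.mem_S_of_A X.dist.zA ?_
  rw [show 2 ^ k = 2 * 2 ^ (k - 1) by rw [← pow_succ', Nat.sub_add_cancel X.ad.k_pos], pow_mul,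
    pow_two, X.z_sq, one_pow]

theorem z_not_B : z ∉ B := fun h => by
  have h' : z ∈ A ⊓ B := ⟨X.dist.zA, h⟩
  rw [X.prim.disj, Subgroup.mem_bot] at h'
  exact X.dist.z_ne_one h'

theorem zpowers_b : Subgroup.zpowers b = B ⊓ (S : Subgroup G) :=
  le_antisymm (Subgroup.zpowers_le.2 X.ad.b_mem) fun x hx => X.ad.b_gen x hx

/-- The involution of `A` normalises the 2-part of the point stabiliser. -/
theorem z_normalises {c : G} (hc : c ∈ B ⊓ (S : Subgroup G)) :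
    z * c * z⁻¹ ∈ B ⊓ (S : Subgroup G) := by
  classical
  have : Fact (Nat.Prime 2) := ⟨Nat.prime_two⟩
  let H : Subgroup (S : Subgroup G) := (B ⊓ (S : Subgroup G)).subgroupOf (S : Subgroup G)
  have hH : Nat.card H = 2 ^ l := by
    rw [Nat.card_congr (Subgroup.subgroupOfEquivOfLe inf_le_right).toEquiv, ← X.zpowers_b, Nat.card_zpowers,
      X.ad.b_ord]
  obtain ⟨K, hK, hHK⟩ := Sylow.exists_subgroup_card_pow_succ
    (by rw [X.ad.card_S]; exact pow_dvd_pow 2 (by have := X.ad.k_pos; omega)) hH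
  obtain ⟨y, hy, hyH⟩ := SetLike.exists_of_lt (lt_of_le_of_ne hHK (fun e => by
    have := congrArg (fun T : Subgroup (S : Subgroup G) => Nat.card T) e
    simp only [hH, hK, pow_succ] at this
    have := Nat.two_pow_pos l
    omega))
  obtain ⟨a, ha, d, hd, hyad⟩ := X.ad.decomp y y.2
  have haK : (⟨a, ha.2⟩ : (S : Subgroup G)) ∈ K := by
    have e : (⟨a, ha.2⟩ : (S : Subgroup G)) = y * (⟨d, hd.2⟩ : (S : Subgroup G))⁻¹ := Subtype.ext (by simp [hyad])
    rw [e]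
    exact mul_mem hy (inv_mem (hHK (Subgroup.mem_subgroupOf.2 hd)))
  have ha1 : a ≠ 1 := fun h => hyH (Subgroup.mem_subgroupOf.2 (by rw [hyad, h, one_mul]; exact hd))
  have hle : orderOf a * 2 ^ l ≤ 2 ^ (l + 1) := by
    rw [← hK, ← hH, ← Nat.card_zpowers a, ← Nat.card_prod]
    refine Nat.card_le_card_of_injective (fun p : Subgroup.zpowers a × H =>
      (⟨⟨p.1 * p.2.1, Subgroup.mul_mem _ ((Subgroup.zpowers_le.2 ha.2) p.1.2) p.2.1.2⟩, ?_⟩ : K)) ?_
    · obtain ⟨i, hi⟩ := Subgroup.mem_zpowers_iff.1 p.1.2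
      have e : (⟨p.1 * p.2.1, Subgroup.mul_mem _ ((Subgroup.zpowers_le.2 ha.2) p.1.2) p.2.1.2⟩ : (S : Subgroup G))
          = (⟨a, ha.2⟩ : (S : Subgroup G)) ^ i * p.2.1 := Subtype.ext (by simp [hi])
      rw [e]
      exact mul_mem (zpow_mem haK i) (hHK p.2.2)
    · rintro ⟨p, q⟩ ⟨p', q'⟩ h
      have h' : (p : G) * (q.1 : G) = p' * (q'.1 : G) :=
        congrArg (fun t : K => ((t : (S : Subgroup G)) : G)) h
      have hq : ((q.1 : G) ∈ B) := (Subgroup.mem_subgroupOf.1 q.2).1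
      have hq' : ((q'.1 : G) ∈ B) := (Subgroup.mem_subgroupOf.1 q'.2).1
      have hpA : ∀ t : Subgroup.zpowers a, (t : G) ∈ A := fun t => (Subgroup.zpowers_le.2 ha.1) t.2
      have h2 : (p' : G)⁻¹ * p ∈ A ⊓ B := ⟨A.mul_mem (A.inv_mem (hpA p')) (hpA p), by
        have e : (p' : G)⁻¹ * p = (q'.1 : G) * (q.1 : G)⁻¹ := by
          rw [eq_mul_inv_iff_mul_eq, mul_assoc, h', inv_mul_cancel_left]
        rw [e]; exact B.mul_mem hq' (B.inv_mem hq)⟩
      rw [X.prim.disj, Subgroup.mem_bot, inv_mul_eq_one] at h2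
      obtain rfl : p = p' := Subtype.ext h2.symm
      rw [mul_left_cancel_iff] at h'
      rw [show q = q' from Subtype.ext (Subtype.ext h')]
  have haz : a = z := by
    refine X.invol_A ha.1 ?_
    rw [pow_succ', mul_comm (orderOf a)] at hle
    have h1 : orderOf a ≤ 2 := by
      have := Nat.two_pow_pos l
      nlinarith
    have h2 : orderOf a ≠ 1 := fun h => ha1 (orderOf_eq_one_iff.1 h)
    have := orderOf_pos a
    omega
  subst haz
  have hidx : (H.subgroupOf K).index = 2 := by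
    have h := (H.subgroupOf K).card_mul_index
    rw [Nat.card_congr (Subgroup.subgroupOfEquivOfLe hHK).toEquiv, hH, hK, pow_succ] at h
    exact Nat.eq_of_mul_eq_mul_left (Nat.two_pow_pos l) h
  haveI := Subgroup.normal_of_index_eq_two hidx
  have hcK : (⟨c, hc.2⟩ : (S : Subgroup G)) ∈ H := Subgroup.mem_subgroupOf.2 hc
  have := (inferInstance : (H.subgroupOf K).Normal).conj_mem ⟨⟨c, hc.2⟩, hHK hcK⟩
    (Subgroup.mem_subgroupOf.2 hcK) ⟨⟨a, ha.2⟩, haK⟩
  exact Subgroup.mem_subgroupOf.1 (Subgroup.mem_subgroupOf.1 this)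

theorem j_eq : b ^ 2 ^ (l - 1) = j := by
  have ho : orderOf (b ^ 2 ^ (l - 1)) = 2 := by
    rw [orderOf_pow' _ (pow_ne_zero _ two_ne_zero), X.ad.b_ord,
      Nat.gcd_eq_right (pow_dvd_pow 2 (Nat.sub_le l 1)), Nat.pow_div (Nat.sub_le l 1) two_pos,
      show l - (l - 1) = 1 by have := X.ad.l_pos; omega, pow_one]
  have hmem : b ^ 2 ^ (l - 1) ∈ B ⊓ (S : Subgroup G) := Subgroup.pow_mem _ X.ad.b_mem _
  refine X.prim.invol_unique X.dist.z_ne.symm ho X.dist.j_two (smul_pt_eq_iff.2 hmem.1) ?_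
    X.dist.pt_fixed X.dist.jz
  have h := X.z_normalises hmem
  have h' : (z * b ^ 2 ^ (l - 1) * z⁻¹) • pt B = pt B := smul_pt_eq_iff.2 h.1
  rw [mul_smul, mul_smul, inv_eq_self_of_orderOf_two X.dist.z_two] at h'
  have h2 := congrArg (fun y => z • y) h'
  simp only [← mul_smul, ← mul_assoc, X.z_sq, one_mul] at h2
  rw [← mul_smul]
  exact h2

theorem j_mem : j ∈ B ⊓ (S : Subgroup G) := X.j_eq ▸ Subgroup.pow_mem _ X.ad.b_mem _

theorem b_mem_C : b ∈ Cj j := by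
  rw [mem_Cj, ← X.j_eq, ← pow_succ', pow_succ]

theorem BS_le_C {c : G} (hc : c ∈ B ⊓ (S : Subgroup G)) : c ∈ Cj j := by
  obtain ⟨i, rfl⟩ := Subgroup.mem_zpowers_iff.1 (X.ad.b_gen c hc)
  exact Subgroup.zpow_mem _ X.b_mem_C i

theorem invol_BS {c : G} (hc : c ∈ B ⊓ (S : Subgroup G)) (h2 : orderOf c = 2) : c = j := by
  haveI : IsCyclic ↥(B ⊓ (S : Subgroup G)) := X.zpowers_b ▸ inferInstance
  exact invol_unique_of_cyclic inferInstance hc X.j_mem h2 X.dist.j_two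

/-- A generator of the 2-part of `A ∩ C(j)`. -/
theorem exists_v : ∃ (v : G) (ρ : ℕ), v ∈ A ⊓ (S : Subgroup G) ⊓ Cj j ∧
    (∀ x ∈ A ⊓ (S : Subgroup G) ⊓ Cj j, x ∈ Subgroup.zpowers v) ∧ orderOf v = 2 ^ ρ ∧ 1 ≤ ρ := by
  classical
  haveI := X.prim.cyc
  haveI : IsCyclic ↥(A ⊓ (S : Subgroup G) ⊓ Cj j) :=
    isCyclic_of_injective (Subgroup.inclusion (inf_le_left.trans inf_le_left))
      (Subgroup.inclusion_injective (inf_le_left.trans inf_le_left))
  obtain ⟨v, hv⟩ := IsCyclic.exists_generator (α := ↥(A ⊓ (S : Subgroup G) ⊓ Cj j))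
  have hord : orderOf (v : G) ∣ 2 ^ k := by
    obtain ⟨i, hi⟩ := Subgroup.mem_zpowers_iff.1 (X.ad.u_gen v v.2.1)
    rw [← hi, ← X.ad.u_ord]
    exact orderOf_dvd_of_mem_zpowers (Subgroup.zpow_mem _ (Subgroup.mem_zpowers u) i)
  obtain ⟨ρ, -, hρ⟩ := (Nat.dvd_prime_pow Nat.prime_two).1 hord
  refine ⟨v, ρ, v.2, fun x hx => ?_, hρ, ?_⟩
  · obtain ⟨i, hi⟩ := Subgroup.mem_zpowers_iff.1 (hv ⟨x, hx⟩)
    exact Subgroup.mem_zpowers_iff.2 ⟨i, congrArg Subtype.val hi⟩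
  · by_contra h
    rw [show ρ = 0 by omega, pow_zero, orderOf_eq_one_iff] at hρ
    obtain ⟨i, hi⟩ := Subgroup.mem_zpowers_iff.1
      (hv ⟨z, ⟨⟨X.dist.zA, X.z_mem_S⟩, mem_Cj.2 X.dist.comm.eq⟩⟩)
    refine X.dist.z_ne_one ?_
    have := congrArg Subtype.val hi
    simp [hρ] at this
    exact this.symm

/-- Decomposition of the elements of `S` centralising `j`. -/
theorem decomp_C {v : G} (hv : ∀ x ∈ A ⊓ (S : Subgroup G) ⊓ Cj j, x ∈ Subgroup.zpowers v) {x : G}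
    (hx : x ∈ (S : Subgroup G)) (hxC : x ∈ Cj j) : ∃ i t : ℤ, x = v ^ i * b ^ t := by
  obtain ⟨a, ha, c, hc, rfl⟩ := X.ad.decomp x hx
  have haC : a ∈ Cj j := by
    have := (Cj j).mul_mem hxC ((Cj j).inv_mem (X.BS_le_C hc))
    rwa [mul_inv_cancel_right] at this
  obtain ⟨i, hi⟩ := Subgroup.mem_zpowers_iff.1 (hv a ⟨ha, haC⟩)
  obtain ⟨t, ht⟩ := Subgroup.mem_zpowers_iff.1 (X.ad.b_gen c hc)
  exact ⟨i, t, by rw [hi, ht]⟩

theorem four_dvd_fix {v : G} {ρ : ℕ} (hv : v ∈ A ⊓ (S : Subgroup G) ⊓ Cj j) (hρ : orderOf v = 2 ^ ρ)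
    (h2 : 2 ≤ ρ) : 4 ∣ Nat.card (Fix B j) := by
  rw [X.dist.card_fix X.prim]
  refine (pow_dvd_pow 2 h2 : 2 ^ 2 ∣ 2 ^ ρ).trans ?_
  rw [← hρ, ← Subgroup.orderOf_mk v (show v ∈ A ⊓ Cj j from ⟨hv.1.1, hv.2⟩)]
  exact orderOf_dvd_natCard _

end Ctx

end CfsgLib.Recog.ABProd
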