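import Cfsg.Agent.Lib.Recog.ABProd.Rotation

/-!
The image of the centraliser's Sylow 2-subgroup in the group on the fixed points, and the
consequence that it is the whole Sylow 2-subgroup.
-/

set_option autoImplicit false
set_option linter.unusedSectionVars false

namespace CfsgLib.Recog.ABProd

open MulAction Subgroup

universe u

variable {G : Type u} [Group G] [Finite G] {A B : Subgroup G} {z j : G} {S : Sylow 2 G}
  {u b : G} {k l : ℕ}

/-- The facts used about the image: `v` and `b` as permutations of the fixed points. -/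
structure ImgFacts (B : Subgroup G) (j v b : G) : Prop where
  b_fix : ∀ x : G ⧸ B, j • x = x → b • b • x = x
  inv_fix : ∀ x : G ⧸ B, j • x = x → b • v • x = v⁻¹ • b • x
  out_sq : ∀ i : ℤ, ∀ x : G ⧸ B, j • x = x → (v ^ i * b) • (v ^ i * b) • x = x
  b_move : ∃ x : G ⧸ B, j • x = x ∧ b • x ≠ x

namespace Ctx

variable (X : Ctx A B z j S u b k l)
include X

theorem imgFacts (hsm : SmallModel (XGrp B j)) {v : G} {ρ : ℕ}
    (hv : v ∈ A ⊓ (S : Subgroup G) ⊓ Cj j)
    (hgen : ∀ x ∈ A ⊓ (S : Subgroup G) ⊓ Cj j, x ∈ Subgroup.zpowers v)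
    (hρ : orderOf v = 2 ^ ρ) (h2 : 2 ≤ ρ) : ImgFacts B j v b := by
  classical
  have : Fact (Nat.Prime 2) := ⟨Nat.prime_two⟩
  -- `S ∩ C(j)` is a Sylow 2-subgroup of `C(j)`
  let N : Subgroup (Cj j) := (S : Subgroup G).subgroupOf (Cj j)
  have hcardN : 2 ^ ρ * 2 ^ l ∣ Nat.card N := by
    have hinj : Function.Injective (fun p : Subgroup.zpowers v × Subgroup.zpowers b =>
        (⟨⟨p.1 * p.2, (Cj j).mul_mem ((Subgroup.zpowers_le.2 hv.2) p.1.2)
          ((Subgroup.zpowers_le.2 X.b_mem_C) p.2.2)⟩, Subgroup.mem_subgroupOf.2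
          ((S : Subgroup G).mul_mem ((Subgroup.zpowers_le.2 hv.1.2) p.1.2)
            ((Subgroup.zpowers_le.2 X.ad.b_mem.2) p.2.2))⟩ : N)) := by
      rintro ⟨p, q⟩ ⟨p', q'⟩ h
      have h' : (p : G) * q = p' * q' := congrArg (fun t : N => ((t : Cj j) : G)) h
      have hpA : ∀ t : Subgroup.zpowers v, (t : G) ∈ A := fun t => (Subgroup.zpowers_le.2 hv.1.1) t.2
      have hqB : ∀ t : Subgroup.zpowers b, (t : G) ∈ B := fun t => (Subgroup.zpowers_le.2 X.ad.b_mem.1) t.2
      have h2 : (p' : G)⁻¹ * p ∈ A ⊓ B := ⟨A.mul_mem (A.inv_mem (hpA p')) (hpA p), by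
        have e : (p' : G)⁻¹ * p = q' * (q : G)⁻¹ := by
          rw [eq_mul_inv_iff_mul_eq, mul_assoc, h', inv_mul_cancel_left]
        rw [e]; exact B.mul_mem (hqB q') (B.inv_mem (hqB q))⟩
      rw [X.prim.disj, Subgroup.mem_bot, inv_mul_eq_one] at h2
      obtain rfl : p = p' := Subtype.ext h2.symm
      rw [mul_left_cancel_iff] at h'
      rw [show q = q' from Subtype.ext h']
    obtain ⟨i, hi⟩ := (S.2.comap_of_injective (Cj j).subtype (Cj j).subtype_injective).exists_card_eq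
    have hle := Nat.card_le_card_of_injective _ hinj
    rw [Nat.card_prod, Nat.card_zpowers, Nat.card_zpowers, hρ, X.ad.b_ord, ← pow_add] at hle
    rw [← pow_add]
    change Nat.card N = 2 ^ i at hi
    rw [hi] at hle ⊢
    exact pow_dvd_pow 2 ((Nat.pow_le_pow_iff_right one_lt_two).1 hle)
  have hAC : (Nat.card ↥(A ⊓ Cj j)).factorization 2 ≤ ρ := by
    obtain ⟨T⟩ := (inferInstance : Nonempty (Sylow 2 ↥(A ⊓ Cj j)))
    have hT : ((T : Subgroup ↥(A ⊓ Cj j)).map (A ⊓ Cj j).subtype) ≤ Subgroup.zpowers v := by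
      rintro x ⟨y, hy, rfl⟩
      refine hgen _ ⟨⟨y.2.1, X.mem_S_of_A y.2.1 ?_⟩, y.2.2⟩
      have hd : orderOf (y : G) ∣ 2 ^ k := by
        rw [← X.ad.two_A]
        obtain ⟨i, hi⟩ := IsPGroup.iff_orderOf.1 T.2 ⟨y, hy⟩
        rw [Subgroup.orderOf_mk, ← Subgroup.orderOf_coe] at hi
        rw [hi]
        refine pow_dvd_pow 2 ((Nat.prime_two.pow_dvd_iff_le_factorization Nat.card_pos.ne').1 ?_)
        rw [← hi, ← Subgroup.orderOf_mk (y : G) y.2.1]
        exact orderOf_dvd_natCard _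
      exact orderOf_dvd_iff_pow_eq_one.1 hd
    have h := Subgroup.card_dvd_of_le hT
    rw [Nat.card_congr ((T : Subgroup ↥(A ⊓ Cj j)).equivMapOfInjective _ (Subgroup.subtype_injective _)).toEquiv.symm,
      T.card_eq_multiplicity, Nat.card_zpowers, hρ] at h
    exact (Nat.pow_dvd_pow_iff_le_right one_lt_two).1 h
  have hBC : (Nat.card ↥(B ⊓ Cj j)).factorization 2 ≤ l := by
    rw [← X.ad.two_B]
    exact (Nat.prime_two.pow_dvd_iff_le_factorization Nat.card_pos.ne').1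
      ((Nat.ordProj_dvd _ 2).trans (Subgroup.card_dvd_of_le inf_le_left))
  have hcardC : Nat.card (Cj j) = Nat.card ↥(A ⊓ Cj j) * Nat.card ↥(B ⊓ Cj j) := by
    rw [← Nat.card_prod]
    refine (Nat.card_congr (Equiv.ofBijective (fun p : ↥(A ⊓ Cj j) × ↥(B ⊓ Cj j) =>
      (⟨p.1 * p.2, (Cj j).mul_mem p.1.2.2 p.2.2.2⟩ : Cj j)) ⟨?_, fun c => ?_⟩)).symm
    · rintro ⟨p, q⟩ ⟨p', q'⟩ h
      have h' : (p : G) * q = p' * q' := congrArg Subtype.val h
      have h2 : (p' : G)⁻¹ * p ∈ A ⊓ B := ⟨A.mul_mem (A.inv_mem p'.2.1) p.2.1, by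
        have e : (p' : G)⁻¹ * p = q' * (q : G)⁻¹ := by
          rw [eq_mul_inv_iff_mul_eq, mul_assoc, h', inv_mul_cancel_left]
        rw [e]; exact B.mul_mem q'.2.1 (B.inv_mem q.2.1)⟩
      rw [X.prim.disj, Subgroup.mem_bot, inv_mul_eq_one] at h2
      obtain rfl : p = p' := Subtype.ext h2.symm
      rw [mul_left_cancel_iff] at h'
      rw [show q = q' from Subtype.ext h']
    · obtain ⟨a, ha, c', hc', h⟩ := X.dist.decomp X.prim c.2
      exact ⟨⟨⟨a, ha⟩, ⟨c', hc'⟩⟩, Subtype.ext h.symm⟩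
  have hNeq : Nat.card N = 2 ^ (Nat.card (Cj j)).factorization 2 := by
    obtain ⟨i, hi⟩ := (S.2.comap_of_injective (Cj j).subtype (Cj j).subtype_injective).exists_card_eq
    change Nat.card N = 2 ^ i at hi
    have h1 : i ≤ (Nat.card (Cj j)).factorization 2 :=
      (Nat.prime_two.pow_dvd_iff_le_factorization Nat.card_pos.ne').1 (hi ▸ Subgroup.card_subgroup_dvd_card N)
    have h3 : ρ + l ≤ i := by
      rw [← Nat.pow_dvd_pow_iff_le_right one_lt_two, pow_add, ← hi]; exact hcardN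
    rw [hi, hcardC, Nat.factorization_mul Nat.card_pos.ne' Nat.card_pos.ne', Finsupp.add_apply]
    rw [hcardC, Nat.factorization_mul Nat.card_pos.ne' Nat.card_pos.ne', Finsupp.add_apply] at h1
    congr 1
    omega
  let T : Sylow 2 (Cj j) := Sylow.ofCard N hNeq
  have hπ : Function.Surjective (fixHom B j).rangeRestrict := (fixHom B j).rangeRestrict_surjective
  let T' : Sylow 2 (XGrp B j) := T.mapSurjective hπ
  have hT' : (T' : Subgroup (XGrp B j)) = N.map (fixHom B j).rangeRestrict := by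
    rw [Sylow.coe_mapSurjective, Sylow.coe_ofCard]
  obtain ⟨m, -, ⟨e⟩⟩ := hsm.1 T'
  -- the images
  let π : Cj j →* XGrp B j := (fixHom B j).rangeRestrict
  have hmemN : ∀ (x : G) (hxC : x ∈ Cj j), x ∈ (S : Subgroup G) → π ⟨x, hxC⟩ ∈ (T' : Subgroup (XGrp B j)) := by
    intro x hxC hxS
    rw [hT']
    exact ⟨⟨x, hxC⟩, Subgroup.mem_subgroupOf.2 hxS, rfl⟩
  let vb : (T' : Subgroup (XGrp B j)) := ⟨π ⟨v, hv.2⟩, hmemN v hv.2 hv.1.2⟩
  let bb : (T' : Subgroup (XGrp B j)) := ⟨π ⟨b, X.b_mem_C⟩, hmemN b X.b_mem_C X.ad.b_mem.2⟩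
  have hzfix : ∀ i : ℤ, (vb ^ i).1.1 (Dist.x0 X.dist) = Dist.x0 X.dist → v ^ i = 1 := by
    intro i hi
    have hi' : (v ^ i) • pt B = pt B := by
      have e : (vb ^ i).1 = π (⟨v, hv.2⟩ ^ i) := by rw [map_zpow]; rfl
      rw [e] at hi
      exact congrArg Subtype.val hi
    exact X.prim.A_free (A.zpow_mem hv.1.1 i) _ hi'
  have hordv : orderOf vb = 2 ^ ρ := by
    refine Nat.dvd_antisymm ?_ ?_
    · rw [← hρ]
      refine orderOf_dvd_of_pow_eq_one (Subtype.ext ?_)
      show (π ⟨v, hv.2⟩) ^ orderOf v = 1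
      rw [← map_pow, show (⟨v, hv.2⟩ : Cj j) ^ orderOf v = 1 from Subtype.ext (pow_orderOf_eq_one v), map_one]
    · rw [← hρ]
      refine orderOf_dvd_of_pow_eq_one ?_
      have h := hzfix (orderOf vb : ℕ) (by rw [zpow_natCast, pow_orderOf_eq_one]; rfl)
      rwa [zpow_natCast] at h
  have h3 : 3 ≤ orderOf vb := by
    rw [hordv]
    exact le_trans (by norm_num) (Nat.pow_le_pow_right two_pos h2)
  obtain ⟨R, hRc, hvR, hR⟩ := dihedral_rotations e vb h3
  have hbfix : bb.1.1 (Dist.x0 X.dist) = Dist.x0 X.dist := Subtype.ext (smul_pt_eq_iff.2 X.ad.b_mem.1)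
  -- the image of `b` is not a nontrivial rotation
  have hbR : bb ∈ R → bb = 1 := by
    intro hb
    by_contra hne
    haveI := hRc
    obtain ⟨i, hi⟩ := IsPGroup.iff_orderOf.1 (T'.2) bb
    obtain ⟨i, rfl⟩ := Nat.exists_eq_succ_of_ne_zero (show i ≠ 0 by
      rintro rfl; exact hne (orderOf_eq_one_iff.1 (by rw [hi, pow_zero])))
    have ho : orderOf (bb ^ 2 ^ i) = 2 := by
      rw [orderOf_pow' _ (pow_ne_zero _ two_ne_zero), hi, Nat.gcd_eq_right (pow_dvd_pow 2 (Nat.le_succ i)),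
        pow_succ', Nat.mul_div_assoc _ dvd_rfl, Nat.div_self (by positivity), mul_one]
    have ho' : orderOf (vb ^ 2 ^ (ρ - 1)) = 2 := by
      rw [orderOf_pow' _ (pow_ne_zero _ two_ne_zero), hordv, Nat.gcd_eq_right (pow_dvd_pow 2 (Nat.sub_le ρ 1)),
        Nat.pow_div (Nat.sub_le ρ 1) two_pos, show ρ - (ρ - 1) = 1 by omega, pow_one]
    have heq := invol_unique_of_cyclic hRc (R.pow_mem hb _) (R.pow_mem hvR _) ho ho'
    have h := hzfix ((2 ^ (ρ - 1) : ℕ) : ℤ) (by
      rw [zpow_natCast, ← heq, Subgroup.coe_pow, Subgroup.coe_pow]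
      exact Equiv.Perm.pow_apply_eq_self_of_apply_eq_self hbfix _)
    rw [zpow_natCast] at h
    have := orderOf_dvd_of_pow_eq_one h
    rw [hρ, Nat.pow_dvd_pow_iff_le_right one_lt_two] at this
    omega
  have hb1 : bb ≠ 1 := by
    intro hb
    obtain ⟨y, hy⟩ : ∃ y : (T' : Subgroup (XGrp B j)), y ∉ R := by
      by_contra h
      push Not at h
      have hs := h (e.symm (DihedralGroup.sr 0))
      haveI := hRc
      have h1 : IsMulCommutative (T' : Subgroup (XGrp B j)) := ⟨⟨fun p q =>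
        commute_of_cyclic hRc (h p) (h q)⟩⟩
      have h2 := h1.is_comm.comm (e.symm (DihedralGroup.sr 0)) (e.symm (DihedralGroup.r 1))
      rw [← map_mul, ← map_mul, e.symm.injective.eq_iff, DihedralGroup.sr_mul_r, DihedralGroup.r_mul_sr] at h2
      have h3' : (2 : ZMod m) = 0 := by
        have := DihedralGroup.sr.inj h2
        linear_combination this
      have hm : m ∣ 2 := (ZMod.natCast_eq_zero_iff 2 m).1 (by exact_mod_cast h3')
      have hcard : Nat.card (T' : Subgroup (XGrp B j)) = 2 * m := by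
        rw [Nat.card_congr e.toEquiv, DihedralGroup.nat_card]
      have := Nat.le_of_dvd two_pos hm
      have hd : orderOf vb ∣ m := by
        obtain ⟨i, hi⟩ : ∃ i, e vb = DihedralGroup.r i := by
          cases h' : e vb with
          | r i => exact ⟨i, rfl⟩
          | sr i =>
            have := DihedralGroup.orderOf_sr i
            rw [← h', MulEquiv.orderOf_eq] at this
            omega
        rw [← MulEquiv.orderOf_eq e, hi]
        obtain ⟨c, rfl⟩ := ZMod.intCast_surjective i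
        rw [← DihedralGroup.r_one_zpow]
        refine (orderOf_dvd_of_mem_zpowers (Subgroup.zpow_mem _ (Subgroup.mem_zpowers _) c)).trans ?_
        rw [DihedralGroup.orderOf_r_one]
      have hm0 : 0 < m := by
        rcases Nat.eq_zero_or_pos m with rfl | h'
        · simp at hm
        · exact h'
      have := Nat.le_of_dvd hm0 hd
      omega
    obtain ⟨y, hyy⟩ := y
    rw [hT'] at hyy
    obtain ⟨c, hc, rfl⟩ := hyy
    obtain ⟨i, t, hct⟩ := X.decomp_C hgen (Subgroup.mem_subgroupOf.1 hc) c.2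
    have hci : c = (⟨v, hv.2⟩ : Cj j) ^ i * (⟨b, X.b_mem_C⟩ : Cj j) ^ t := Subtype.ext (by simp [hct])
    refine hy ?_
    have : (⟨π c, hmemN c c.2 (Subgroup.mem_subgroupOf.1 hc)⟩ : (T' : Subgroup (XGrp B j))) = vb ^ i * bb ^ t := Subtype.ext (by
      show π c = _
      rw [hci, map_mul, map_zpow, map_zpow]; rfl)
    rw [this, hb, one_zpow, mul_one]
    exact R.zpow_mem hvR i
  have hbout : bb ∉ R := fun h => hb1 (hbR h)
  obtain ⟨hbsq, hbinv⟩ := (hR bb).resolve_left hbout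
  refine ⟨fun x hx => ?_, fun x hx => ?_, fun i x hx => ?_, ?_⟩
  · exact congrArg (fun t : (T' : Subgroup (XGrp B j)) => (t.1.1 ⟨x, hx⟩).1) hbsq
  · have h := hbinv vb hvR
    rw [mul_inv_eq_iff_eq_mul] at h
    exact congrArg (fun t : (T' : Subgroup (XGrp B j)) => (t.1.1 ⟨x, hx⟩).1) h
  · have hout : vb ^ i * bb ∉ R := fun h => hbout (by
      have := R.mul_mem (R.inv_mem (R.zpow_mem hvR i)) h
      rwa [inv_mul_cancel_left] at this)
    have h := ((hR _).resolve_left hout).1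
    have e1 : (vb ^ i * bb).1 = π (⟨v, hv.2⟩ ^ i * ⟨b, X.b_mem_C⟩) := by
      rw [map_mul, map_zpow]; rfl
    have h' := congrArg (fun t : (T' : Subgroup (XGrp B j)) => t.1) h
    simp only [Subgroup.coe_mul] at h'
    rw [show (vb ^ i).1 * bb.1 = π (⟨v, hv.2⟩ ^ i * ⟨b, X.b_mem_C⟩) from e1] at h'
    exact congrArg (fun t : XGrp B j => (t.1 ⟨x, hx⟩).1) h'
  · by_contra h
    push Not at h
    exact hb1 (Subtype.ext (Subtype.ext (Equiv.ext fun x => Subtype.ext (h x.1 x.2))))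

end Ctx

end CfsgLib.Recog.ABProd
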