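import Cfsg.Agent.Lib.Recog.ABProd.Isolated
import Mathlib.GroupTheory.Perm.Cycle.Type

/-!
The distinguished involution is not isolated, so the Sylow 2-subgroup has a cyclic subgroup of
index two.
-/

set_option autoImplicit false
set_option linter.unusedSectionVars false

namespace CfsgLib.Recog.ABProd

open MulAction Subgroup

universe u

variable {G : Type u} [Group G] [Finite G] {A B : Subgroup G} {z j : G} {S : Sylow 2 G}
  {u b : G} {k l : ℕ}

theorem zpowers_relIndex {H : Subgroup G} {c : G} (hc : c ∈ H) {n : ℕ}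
    (hn : Nat.card H = orderOf c * n) : (Subgroup.zpowers c).relIndex H = n := by
  have h := ((Subgroup.zpowers c).subgroupOf H).card_mul_index
  rw [Nat.card_congr (Subgroup.subgroupOfEquivOfLe (Subgroup.zpowers_le.2 hc)).toEquiv, Nat.card_zpowers,
    hn] at h
  exact Nat.eq_of_mul_eq_mul_left (orderOf_pos c) h

namespace Ctx

variable (X : Ctx A B z j S u b k l)
include X

/-- The fixed point free involutions of the centraliser act evenly on the fixed points. -/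
theorem invol_sign [Fintype (Fix B j)] [DecidableEq (Fix B j)] (h4 : 4 ∣ Nat.card (Fix B j))
    (t : Cj j) (ht : t * t = 1) (hfree : ∀ x : Fix B j, fixHom B j t x ≠ x) :
    Equiv.Perm.sign (fixHom B j t) = 1 := by
  rw [Equiv.Perm.sign_of_pow_two_eq_one (by rw [pow_two, ← map_mul, ht, map_one])]
  have h0 : Fintype.card (Function.fixedPoints (fixHom B j t)) = 0 :=
    Fintype.card_eq_zero_iff.2 ⟨fun x => hfree x.1 x.2⟩
  obtain ⟨c, hc⟩ := h4
  rw [h0, ← Nat.card_eq_fintype_card, hc, Nat.sub_zero, show 4 * c / 2 = 2 * c by omega, pow_mul]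
  simp

/-- A conjugate of `j` in the centraliser is conjugate to a `z κ` with `κ` trivial on the fixed
points. -/
theorem exists_conj_z (hsm : SmallModel (XGrp B j)) (h4 : 4 ∣ Nat.card (Fix B j)) {t : G}
    (ht : t ∈ Cj j) (ht2 : orderOf t = 2) (htj : t ≠ j) :
    ∃ κ : G, κ ∈ Cj j ∧ (∀ x : G ⧸ B, j • x = x → κ • x = x) ∧ IsConj t (z * κ) := by
  classical
  have := Fintype.ofFinite (Fix B j)
  obtain ⟨a, ha, -, horb⟩ := X.dist.exists_one_orbit X.prim
  set σ := fixHom B j ⟨a, ha.2⟩ with hσdef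
  have horb' : ∀ y : Fix B j, ∃ i : ℤ, (σ ^ i) (Dist.x0 X.dist) = y := fun y => by
    obtain ⟨i, hi⟩ := horb y
    refine ⟨i, Subtype.ext ?_⟩
    rw [hσdef, ← map_zpow, fixHom_apply, Subgroup.coe_zpow]
    exact hi
  have hsign : Equiv.Perm.sign σ = -1 := sign_of_one_orbit σ _ horb'
    (by rw [← Nat.card_eq_fintype_card]; exact even_iff_two_dvd.2 (dvd_trans ⟨2, rfl⟩ h4))
  let ε : XGrp B j →* ℤˣ := Equiv.Perm.sign.comp (XGrp B j).subtype
  have hidx : ε.ker.index = 2 := by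
    rw [Subgroup.index_ker]
    have htop : ε.range = ⊤ := eq_top_iff.2 fun y _ => by
      rcases Int.units_eq_one_or y with rfl | rfl
      · exact one_mem _
      · exact ⟨⟨σ, ⟨a, ha.2⟩, rfl⟩, hsign⟩
    rw [htop, Subgroup.card_top, Nat.card_eq_fintype_card, Fintype.card_units_int]
  have hz : z ∈ Cj j := mem_Cj.2 X.dist.comm.eq
  have hzfree : ∀ x : Fix B j, fixHom B j ⟨z, hz⟩ x ≠ x := fun x h =>
    X.dist.z_ne_one (X.prim.A_free X.dist.zA x.1 (congrArg Subtype.val h))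
  have htfree : ∀ x : Fix B j, fixHom B j ⟨t, ht⟩ x ≠ x := fun x h =>
    X.dist.not_fixed_of_ne X.prim ht2 htj (mem_Cj.1 ht) x (congrArg Subtype.val h)
  have htt : t * t = 1 := by rw [← pow_two, ← ht2, pow_orderOf_eq_one]
  let π : Cj j →* XGrp B j := (fixHom B j).rangeRestrict
  have hne : ∀ (c : Cj j), (∀ x : Fix B j, fixHom B j c x ≠ x) → c * c = 1 → orderOf (π c) = 2 := by
    intro c hc hcc
    refine orderOf_eq_prime (by rw [pow_two, ← map_mul, hcc, map_one]) (fun h => hc (Dist.x0 X.dist) ?_)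
    rw [show fixHom B j c = 1 from congrArg Subtype.val h]; rfl
  obtain ⟨q, hq⟩ := isConj_iff.1 (hsm.2 ε.ker hidx (π ⟨t, ht⟩)
    (X.invol_sign h4 ⟨t, ht⟩ (Subtype.ext htt) htfree) (π ⟨z, hz⟩)
    (X.invol_sign h4 ⟨z, hz⟩ (Subtype.ext X.z_sq) hzfree)
    (hne _ htfree (Subtype.ext htt)) (hne _ hzfree (Subtype.ext X.z_sq)))
  obtain ⟨c, rfl⟩ := (fixHom B j).rangeRestrict_surjective q
  let κ : Cj j := (⟨z, hz⟩ : Cj j)⁻¹ * (c * ⟨t, ht⟩ * c⁻¹)
  have hκ : π κ = 1 := by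
    rw [map_mul, map_inv, map_mul, map_mul, map_inv, hq, inv_mul_cancel]
  refine ⟨κ, κ.2, fun x hx => ?_, isConj_iff.2 ⟨c, ?_⟩⟩
  · exact congrArg (fun p : XGrp B j => (p.1 ⟨x, hx⟩).1) hκ
  · simp [κ, mul_assoc]

theorem isolated (hl : 2 ≤ l) (hk : 2 ≤ k) (hle : (S : Subgroup G) ≤ Cj j)
    (hsm : 4 ∣ Nat.card (Fix B j) → SmallModel (XGrp B j)) : Cfsg.IsIsolatedInvolution j := by
  classical
  have : Fact (Nat.Prime 2) := ⟨Nat.prime_two⟩
  have hu : u ∈ A ⊓ (S : Subgroup G) ⊓ Cj j := ⟨X.ad.u_mem, hle X.ad.u_mem.2⟩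
  have hgen : ∀ x ∈ A ⊓ (S : Subgroup G) ⊓ Cj j, x ∈ Subgroup.zpowers u := fun x hx => X.ad.u_gen x hx.1
  have h4 := X.four_dvd_fix hu X.ad.u_ord hk
  have hsmm := hsm h4
  have F := X.imgFacts hsmm hu hgen X.ad.u_ord hk
  have hzu : u ^ 2 ^ (k - 1) = z := by
    refine X.invol_A (A.pow_mem X.ad.u_mem.1 _) ?_
    rw [orderOf_pow' _ (pow_ne_zero _ two_ne_zero), X.ad.u_ord,
      Nat.gcd_eq_right (pow_dvd_pow 2 (Nat.sub_le k 1)), Nat.pow_div (Nat.sub_le k 1) two_pos,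
      show k - (k - 1) = 1 by omega, pow_one]
  have hfix_pt : ∀ x : G, orderOf x = 2 → IsConj j x → ∃ y : G ⧸ B, x • y = y := by
    intro x _ hc
    obtain ⟨g, rfl⟩ := isConj_iff.1 hc
    exact ⟨g • pt B, by rw [mul_smul, mul_smul, inv_smul_smul, X.dist.pt_fixed]⟩
  have hnz : ¬ IsConj j z := fun hc => by
    obtain ⟨y, hy⟩ := hfix_pt z X.dist.z_two hc
    exact X.dist.z_ne_one (X.prim.A_free X.dist.zA y hy)
  refine ⟨X.dist.j_two, fun g hg => ?_⟩
  by_contra hne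
  set t := g * j * g⁻¹ with htdef
  have ht2 : orderOf t = 2 := orderOf_conj_two X.dist.j_two
  obtain ⟨κ, hκC, hκfix, hconj⟩ := X.exists_conj_z hsmm h4 (mem_Cj.2 hg.eq.symm) ht2 hne
  have hjy : IsConj j (z * κ) := (isConj_iff.2 ⟨g, rfl⟩ : IsConj j t).trans hconj
  -- `z` inverts `κ`
  have hy2 : orderOf (z * κ) = 2 := by
    obtain ⟨c, hc⟩ := isConj_iff.1 hconj
    rw [← hc]; exact orderOf_conj_two ht2
  have hinv : z * κ * z⁻¹ = κ⁻¹ := by
    have h : z * κ * (z * κ) = 1 := by rw [← pow_two, ← hy2, pow_orderOf_eq_one]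
    rw [inv_eq_self_of_orderOf_two X.dist.z_two, eq_inv_iff_mul_eq_one, ← h, mul_assoc (z * κ)]
  have hinvn : ∀ i : ℤ, z * κ ^ i * z⁻¹ = κ ^ (-i) := fun i => by
    rw [← conj_zpow, hinv, inv_zpow, zpow_neg]
  -- remove the odd part
  obtain ⟨e, m, hm, hem⟩ := Nat.exists_eq_two_pow_mul_odd (orderOf_pos κ).ne'
  obtain ⟨c, hc⟩ : ∃ c : ℤ, (m : ℤ) = 2 * c + 1 := by
    obtain ⟨c, rfl⟩ := hm; exact ⟨c, by push_cast; ring⟩
  set κ' := κ ^ m with hκ'
  have hconj' : IsConj (z * κ) (z * κ') := by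
    refine isConj_iff.2 ⟨κ ^ (-c), ?_⟩
    have hz' : κ ^ (-c) * z = z * κ ^ c := by
      exact (mul_inv_eq_iff_eq_mul.1 (hinvn c)).symm
    rw [show κ ^ (-c) * (z * κ) * (κ ^ (-c))⁻¹ = κ ^ (-c) * z * (κ * κ ^ c) by group, hz', hκ', ← zpow_natCast, hc]
    group
  have hκfix' : ∀ x : G ⧸ B, j • x = x → κ' • x = x := fun x hx =>
    mem_stabilizer_iff.1 (Subgroup.pow_mem _ (mem_stabilizer_iff.2 (hκfix x hx)) m)
  have hp := X.dist.pt_fixed
  have hκB : κ' ∈ B := smul_pt_eq_iff.1 (hκfix' _ hp)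
  have hord : orderOf κ' ∣ 2 ^ l := by
    have h1 : orderOf κ' ∣ 2 ^ e := by
      refine orderOf_dvd_of_pow_eq_one ?_
      rw [hκ', ← pow_mul, mul_comm, ← hem, pow_orderOf_eq_one]
    obtain ⟨i, -, hi⟩ := (Nat.dvd_prime_pow Nat.prime_two).1 h1
    rw [hi, ← X.ad.two_B]
    refine pow_dvd_pow 2 ((Nat.prime_two.pow_dvd_iff_le_factorization Nat.card_pos.ne').1 ?_)
    rw [← hi, ← Subgroup.orderOf_mk κ' hκB]
    exact orderOf_dvd_natCard _
  -- `κ'` lies in the cyclic pair stabiliser, hence in `S`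
  have hbH : b ∈ stabilizer G (pt B) ⊓ stabilizer G (z • pt B) := by
    refine ⟨smul_pt_eq_iff.2 X.ad.b_mem.1, ?_⟩
    have h' : (z * b * z⁻¹) • pt B = pt B := smul_pt_eq_iff.2 (X.z_normalises X.ad.b_mem).1
    rw [mul_smul, mul_smul, inv_eq_self_of_orderOf_two X.dist.z_two] at h'
    have h2 := congrArg (fun y => z • y) h'
    simp only [← mul_smul, ← mul_assoc, X.z_sq, one_mul] at h2
    show b • z • pt B = z • pt B
    rw [← mul_smul]; exact h2
  have hκH : κ' ∈ stabilizer G (pt B) ⊓ stabilizer G (z • pt B) := ⟨hκfix' _ hp, hκfix' _ X.dist.jz⟩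
  obtain ⟨i, hi⟩ : ∃ i : ℤ, b ^ i = κ' := by
    haveI := X.prim.pair_stabilizer_cyclic X.dist.z_ne.symm
    have h1 := mem_zpowers_of_cyclic (b := (⟨b, hbH⟩ : ↥(stabilizer G (pt B) ⊓ stabilizer G (z • pt B))))
      (x := ⟨κ', hκH⟩) (Subtype.ext (by
        rw [Subgroup.orderOf_mk, X.ad.b_ord, SubmonoidClass.coe_pow]
        exact orderOf_dvd_iff_pow_eq_one.1 hord))
    obtain ⟨i, hi⟩ := Subgroup.mem_zpowers_iff.1 h1
    exact ⟨i, congrArg Subtype.val hi⟩
  obtain ⟨r, rfl⟩ : Even i := by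
    by_contra hodd
    obtain ⟨r, rfl⟩ := Int.not_even_iff_odd.1 hodd
    obtain ⟨x, hx, hmove⟩ := F.b_move
    refine hmove ?_
    have e' : κ' = (b * b) ^ r * b := by rw [← hi, zpow_add, zpow_mul, zpow_two, zpow_one]
    have h' := hκfix' x hx
    rw [e', mul_smul] at h'
    have hfix : (b * b) ^ r • (b • x) = b • x := by
      refine mem_stabilizer_iff.1 (Subgroup.zpow_mem _ (mem_stabilizer_iff.2 ?_) r)
      rw [mul_smul]
      exact F.b_fix _ (Cj_fix (⟨b, X.b_mem_C⟩ : Cj j) ⟨x, hx⟩)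
    rwa [hfix] at h'
  have hzN : ∀ q : ℕ, u ^ q ∈ (S : Subgroup G) ⊓ Cj j := fun q =>
    Subgroup.pow_mem _ (show u ∈ (S : Subgroup G) ⊓ Cj j from ⟨hu.1.2, hu.2⟩) q
  have hκ2 : κ' = (b * b) ^ r := by rw [← hi, zpow_add, (Commute.refl b).mul_zpow]
  have hinv' : z * κ' * z⁻¹ = κ'⁻¹ := by
    rw [hκ', ← zpow_natCast, hinvn, zpow_neg]
  -- `z` is a square, so `κ'` has order at most two
  obtain ⟨s, ⟨s', hs'⟩, hs⟩ := X.conj_b_sq (Or.inr ⟨u, F⟩) hl (hzN (2 ^ (k - 2)))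
  set w := u ^ 2 ^ (k - 2)
  have hww : w * w = z := by
    rw [← hzu, show k - 1 = k - 2 + 1 by omega, pow_succ, pow_mul, pow_two]
  have hstep : ∀ q : ℤ, w⁻¹ * (b * b) ^ q * w = (b * b) ^ (s * q) := fun q => by
    have e := conj_zpow (a := w⁻¹) (b := b * b) (i := q)
    rw [inv_inv] at e
    rw [← e, hs, ← zpow_mul]
  have hz2 : z * κ' * z⁻¹ = κ' ^ (s * s) := by
    rw [inv_eq_self_of_orderOf_two X.dist.z_two]
    nth_rewrite 1 [← inv_eq_self_of_orderOf_two X.dist.z_two]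
    rw [← hww, mul_inv_rev, hκ2, show w⁻¹ * w⁻¹ * (b * b) ^ r * (w * w) = w⁻¹ * (w⁻¹ * (b * b) ^ r * w) * w by group,
      hstep, hstep, ← zpow_mul]
    congr 1; ring
  have hsq : κ' ^ 2 = 1 := by
    have h : κ' ^ (s * s + 1) = 1 := by rw [zpow_add, zpow_one, ← hz2, hinv', inv_mul_cancel]
    rw [← orderOf_dvd_iff_zpow_eq_one] at h
    obtain ⟨i, -, hi⟩ := (Nat.dvd_prime_pow Nat.prime_two).1 hord
    rw [hi] at h
    rw [← orderOf_dvd_iff_pow_eq_one, hi]
    refine (pow_dvd_pow 2 (?_ : i ≤ 1)).trans (pow_one 2).dvd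
    by_contra hc
    have h4' : ((4 : ℤ)) ∣ s * s + 1 := dvd_trans (by
      rw [show i = 2 + (i - 2) by omega, pow_add]; push_cast; exact ⟨_, rfl⟩) h
    rw [hs', show (2 * s' + 1) * (2 * s' + 1) + 1 = 4 * (s' * s' + s') + 2 by ring,
      dvd_add_right (dvd_mul_right _ _)] at h4'
    norm_num at h4'
  have hjy' : IsConj j (z * κ') := hjy.trans hconj'
  have hκj : κ' = j := by
    rcases (Nat.dvd_prime Nat.prime_two).1 (orderOf_dvd_iff_pow_eq_one.2 hsq) with h | h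
    · rw [orderOf_eq_one_iff] at h
      rw [h, mul_one] at hjy'
      exact absurd hjy' hnz
    · exact X.invol_BS ⟨hκB, hi ▸ Subgroup.zpow_mem _ X.ad.b_mem.2 _⟩ h
  rw [hκj] at hjy'
  -- `z` and `j` are central in `S`
  have hjS : ∀ x ∈ (S : Subgroup G), x * j = j * x := fun x hx => mem_Cj.1 (hle hx)
  have hbz : b * z * b⁻¹ = z := by
    set t' := b * z * b⁻¹ with ht'
    have ht'S : t' ∈ (S : Subgroup G) :=
      (S : Subgroup G).mul_mem ((S : Subgroup G).mul_mem X.ad.b_mem.2 X.z_mem_S) ((S : Subgroup G).inv_mem X.ad.b_mem.2)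
    have himg : ∀ x : G ⧸ B, j • x = x → t' • x = z • x := by
      intro x hx
      have hstepv : ∀ n : ℕ, ∀ y : G ⧸ B, j • y = y → b • u ^ n • y = (u⁻¹) ^ n • b • y := by
        intro n
        induction n with
        | zero => intro y _; simp
        | succ n ih =>
          intro y hy
          rw [pow_succ', mul_smul, F.inv_fix _ (Cj_fix (⟨u ^ n, Subgroup.pow_mem _ hu.2 n⟩ : Cj j) ⟨y, hy⟩),
            ih y hy, pow_succ', mul_smul]
      have hx' : j • (b⁻¹ • x) = b⁻¹ • x := Cj_fix (⟨b⁻¹, (Cj j).inv_mem X.b_mem_C⟩ : Cj j) ⟨x, hx⟩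
      rw [ht', ← hzu, mul_smul, mul_smul, hstepv _ _ hx', smul_inv_smul, inv_pow, hzu,
        inv_eq_self_of_orderOf_two X.dist.z_two]
    obtain ⟨a, ha, d, hd, had⟩ := X.ad.decomp t' ht'S
    have ht'p : t' • pt B = z • pt B := himg _ hp
    have haz : a = z := by
      have e : (a : G) • pt B = z • pt B := by
        rw [← ht'p, had, mul_smul, smul_pt_eq_iff.2 hd.1]
      exact congrArg Subtype.val (X.prim.regular_bijective.1 (a₁ := (⟨a, ha.1⟩ : A)) (a₂ := ⟨z, X.dist.zA⟩) e)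
    subst haz
    have hd2 : orderOf (a * d) = 2 := had ▸ orderOf_conj_two X.dist.z_two
    have hconjd : IsConj a (a * d) := had ▸ isConj_iff.2 ⟨b, rfl⟩
    have hdinv : a * d * a⁻¹ = d⁻¹ := by
      have h : a * d * (a * d) = 1 := by rw [← pow_two, ← hd2, pow_orderOf_eq_one]
      rw [inv_eq_self_of_orderOf_two X.dist.z_two, eq_inv_iff_mul_eq_one, ← h, mul_assoc (a * d)]
    obtain ⟨i, hi'⟩ := Subgroup.mem_zpowers_iff.1 (X.ad.b_gen d hd)
    obtain ⟨r', rfl⟩ : Even i := by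
      by_contra hodd
      obtain ⟨r', rfl⟩ := Int.not_even_iff_odd.1 hodd
      obtain ⟨x, hx, hmove⟩ := F.b_move
      refine hmove ?_
      have h' := himg x hx
      rw [had, mul_smul, smul_left_cancel_iff, ← hi', zpow_add, zpow_mul, zpow_two, zpow_one, mul_smul] at h'
      have hfix : (b * b) ^ r' • (b • x) = b • x := by
        refine mem_stabilizer_iff.1 (Subgroup.zpow_mem _ (mem_stabilizer_iff.2 ?_) r')
        rw [mul_smul]
        exact F.b_fix _ (Cj_fix (⟨b, X.b_mem_C⟩ : Cj j) ⟨x, hx⟩)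
      rwa [hfix] at h'
    have hd2' : d = (b * b) ^ r' := by rw [← hi', zpow_add, (Commute.refl b).mul_zpow]
    have hdz : a * d * a⁻¹ = d ^ (s * s) := by
      rw [inv_eq_self_of_orderOf_two X.dist.z_two]
      nth_rewrite 1 [← inv_eq_self_of_orderOf_two X.dist.z_two]
      rw [← hww, mul_inv_rev, hd2', show w⁻¹ * w⁻¹ * (b * b) ^ r' * (w * w) = w⁻¹ * (w⁻¹ * (b * b) ^ r' * w) * w by group,
        hstep, hstep, ← zpow_mul]
      congr 1; ring
    have hdsq : d ^ 2 = 1 := by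
      have h : d ^ (s * s + 1) = 1 := by rw [zpow_add, zpow_one, ← hdz, hdinv, inv_mul_cancel]
      rw [← orderOf_dvd_iff_zpow_eq_one] at h
      have hdd : orderOf d ∣ 2 ^ l := by
        rw [← X.ad.b_ord]; exact orderOf_dvd_of_mem_zpowers (X.ad.b_gen d hd)
      obtain ⟨i, -, hi⟩ := (Nat.dvd_prime_pow Nat.prime_two).1 hdd
      rw [hi] at h
      rw [← orderOf_dvd_iff_pow_eq_one, hi]
      refine (pow_dvd_pow 2 (?_ : i ≤ 1)).trans (pow_one 2).dvd
      by_contra hc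
      have h4' : ((4 : ℤ)) ∣ s * s + 1 := dvd_trans (by
        rw [show i = 2 + (i - 2) by omega, pow_add]; push_cast; exact ⟨_, rfl⟩) h
      rw [hs', show (2 * s' + 1) * (2 * s' + 1) + 1 = 4 * (s' * s' + s') + 2 by ring,
        dvd_add_right (dvd_mul_right _ _)] at h4'
      norm_num at h4'
    rcases (Nat.dvd_prime Nat.prime_two).1 (orderOf_dvd_iff_pow_eq_one.2 hdsq) with h | h
    · rw [had, orderOf_eq_one_iff.1 h, mul_one]
    · rw [X.invol_BS hd h] at hconjd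
      exact absurd (hjy'.trans hconjd.symm) hnz
  have hzS : ∀ x ∈ (S : Subgroup G), x * z = z * x := by
    intro x hx
    obtain ⟨a, ha, d, hd, rfl⟩ := X.ad.decomp x hx
    obtain ⟨i, rfl⟩ := Subgroup.mem_zpowers_iff.1 (X.ad.b_gen d hd)
    have h1 : Commute (b ^ i) z := Commute.zpow_left (mul_inv_eq_iff_eq_mul.1 hbz) i
    have h2 : Commute a z := commute_of_cyclic X.prim.cyc ha.1 X.dist.zA
    exact (h2.mul_left h1).eq
  -- Burnside
  obtain ⟨g₀, hg₀⟩ := isConj_iff.1 hjy'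
  obtain ⟨h, hhN, hh⟩ := S.conj_eq_normalizer_conj_of_mem_centralizer j g₀⁻¹
    (mem_centralizer_iff.2 fun x hx => hjS x hx) (by
      rw [inv_inv, hg₀]
      exact mem_centralizer_iff.2 fun x hx => by
        rw [← mul_assoc, hzS x hx, mul_assoc, hjS x hx, mul_assoc])
  rw [inv_inv, hg₀] at hh
  -- the central involutions of `S`
  have hzh : h⁻¹ * z * h = z := by
    set y := h⁻¹ * z * h with hy
    have hhN' : h⁻¹ ∈ Subgroup.normalizer (S : Subgroup G) := inv_mem hhN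
    have hyS : y ∈ (S : Subgroup G) := by
      have := (Subgroup.mem_normalizer_iff.1 hhN' z).1 X.z_mem_S
      rwa [inv_inv] at this
    have hy2' : orderOf y = 2 := by
      have := orderOf_conj_two (g := h⁻¹) X.dist.z_two
      rwa [inv_inv] at this
    have hyz : IsConj z y := isConj_iff.2 ⟨h⁻¹, by rw [inv_inv]⟩
    have hyc : ∀ x ∈ (S : Subgroup G), x * y = y * x := by
      intro x hx
      have hx' := (Subgroup.mem_normalizer_iff.1 hhN x).1 hx
      have := congrArg (fun t => h⁻¹ * t * h) (hzS _ hx')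
      simp only [hy, mul_assoc, inv_mul_cancel_left, inv_mul_cancel, mul_one] at this ⊢
      exact this
    obtain ⟨a, ha, d, hd, had⟩ := X.ad.decomp y hyS
    have hdfix : ∀ x : G ⧸ B, d • (pt B) = pt B := fun _ => smul_pt_eq_iff.2 hd.1
    -- `a` is an involution or trivial, since `b` inverts it on the fixed points
    have hap : a * a = 1 := by
      refine X.prim.A_free (A.mul_mem ha.1 ha.1) (pt B) ?_
      obtain ⟨n, hn⟩ : ∃ n : ℕ, u ^ n = a := by
        obtain ⟨i, hi⟩ := (mem_powers_iff_mem_zpowers.2 (X.ad.u_gen a ha))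
        exact ⟨i, hi⟩
      have hstepv : ∀ n : ℕ, ∀ x : G ⧸ B, j • x = x → b • u ^ n • x = (u⁻¹) ^ n • b • x := by
        intro n
        induction n with
        | zero => intro x _; simp
        | succ n ih =>
          intro x hx
          rw [pow_succ', mul_smul, F.inv_fix _ (Cj_fix (⟨u ^ n, Subgroup.pow_mem _ hu.2 n⟩ : Cj j) ⟨x, hx⟩),
            ih x hx, pow_succ', mul_smul]
      have e1 : y • pt B = a • pt B := by rw [had, mul_smul, smul_pt_eq_iff.2 hd.1]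
      have e2 : b • (a • pt B) = a • pt B := by
        rw [← e1, ← mul_smul, hyc b X.ad.b_mem.2, mul_smul, smul_pt_eq_iff.2 X.ad.b_mem.1]
      rw [← hn, hstepv n _ hp, smul_pt_eq_iff.2 X.ad.b_mem.1, inv_pow, inv_smul_eq_iff, hn] at e2
      rw [mul_smul]; exact e2.symm
    have haz : a = 1 ∨ a = z := by
      rcases (Nat.dvd_prime Nat.prime_two).1 (orderOf_dvd_iff_pow_eq_one.2 (show a ^ 2 = 1 by rw [pow_two, hap])) with h' | h'
      · exact Or.inl (orderOf_eq_one_iff.1 h')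
      · exact Or.inr (X.invol_A ha.1 h')
    rcases haz with rfl | rfl
    · rw [one_mul] at had
      rw [had] at hyz hy2'
      exact absurd ((X.invol_BS hd hy2') ▸ hyz.symm) hnz
    · have hdc : a * d = d * a := (hzS d hd.2).symm
      have hd2 : d ^ 2 = 1 := by
        have h := pow_orderOf_eq_one y
        rw [hy2', had, Commute.mul_pow hdc, pow_two a, X.z_sq, one_mul] at h
        exact h
      rcases (Nat.dvd_prime Nat.prime_two).1 (orderOf_dvd_iff_pow_eq_one.2 hd2) with h' | h'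
      · rw [had, orderOf_eq_one_iff.1 h', mul_one]
      · rw [had, X.invol_BS hd h'] at hyz
        exact absurd (hjy'.trans hyz.symm) hnz
  -- `h` interchanges `j` and `z j`
  have hz' : ∀ n : ℕ, (Even n → (h ^ n)⁻¹ * j * h ^ n = j) ∧ (Odd n → (h ^ n)⁻¹ * j * h ^ n = z * j) := by
    intro n
    induction n with
    | zero => exact ⟨fun _ => by simp, fun h => absurd h (by decide)⟩
    | succ n ih =>
      refine ⟨fun he => ?_, fun ho => ?_⟩
      · have := ih.2 (Nat.not_even_iff_odd.1 (Nat.even_add_one.1 he))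
        rw [pow_succ, mul_inv_rev, show h⁻¹ * (h ^ n)⁻¹ * j * (h ^ n * h) = h⁻¹ * ((h ^ n)⁻¹ * j * h ^ n) * h by group,
          this, show h⁻¹ * (z * j) * h = (h⁻¹ * z * h) * (h⁻¹ * j * h) by group, hzh, ← hh, ← mul_assoc, X.z_sq,
          one_mul]
      · have := ih.1 (Nat.not_odd_iff_even.1 (Nat.odd_add_one.1 ho))
        rw [pow_succ, mul_inv_rev, show h⁻¹ * (h ^ n)⁻¹ * j * (h ^ n * h) = h⁻¹ * ((h ^ n)⁻¹ * j * h ^ n) * h by group,
          this, ← hh]
  obtain ⟨e', m', hm', hem'⟩ := Nat.exists_eq_two_pow_mul_odd (orderOf_pos h).ne'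
  have hS' : h ^ m' ∈ (S : Subgroup G) := by
    have hp : IsPGroup 2 ↥((S : Subgroup G) ⊔ Subgroup.zpowers (h ^ m')) := by
      have h1 : orderOf (h ^ m') ∣ 2 ^ e' := orderOf_dvd_of_pow_eq_one (by
        rw [← pow_mul, mul_comm, ← hem', pow_orderOf_eq_one])
      obtain ⟨i, -, hi⟩ := (Nat.dvd_prime_pow Nat.prime_two).1 h1
      exact S.2.to_sup_of_normal_left' (IsPGroup.of_card (n := i) (by rw [Nat.card_zpowers, hi]))
        (Subgroup.zpowers_le.2 (Subgroup.pow_mem _ hhN m'))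
    rw [← S.3 hp le_sup_left]
    exact Subgroup.mem_sup_right (Subgroup.mem_zpowers _)
  have hfin := (hz' m').2 hm'
  rw [mul_assoc, ← hjS _ hS', inv_mul_cancel_left] at hfin
  exact X.dist.z_ne_one (by simpa using hfin.symm)

end Ctx

/-- The Sylow 2-subgroup of a primitive instance has a cyclic subgroup of index two. -/
theorem sylowData_of_prim' (P : Prim A B)
    (hsm : ∀ z j : G, Dist A B z j → 4 ∣ Nat.card (Fix B j) → SmallModel (XGrp B j)) :
    SylowData G := by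
  classical
  obtain ⟨S, u, b, k, l, hS⟩ := exists_adapted P
  obtain ⟨ε, hε⟩ := exists_sign P hS
  obtain ⟨z, j, D⟩ := exists_dist P
  have X : Ctx A B z j S u b k l := ⟨P, D, hS⟩
  by_cases hk : k = 1
  · refine ⟨S, b, z, ε, hS.b_mem.2, X.z_mem_S, D.z_two, fun h => X.z_not_B ?_,
      zpowers_relIndex hS.b_mem.2 ?_, hε⟩
    · exact (Subgroup.zpowers_le.2 hS.b_mem.1) h
    · rw [hS.card_S, hS.b_ord, hk, add_comm, pow_add, pow_one]
  by_cases hl : l = 1
  · refine ⟨S, u, j, ε, hS.u_mem.2, X.j_mem.2, D.j_two, fun h => D.j_ne_one ?_,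
      zpowers_relIndex hS.u_mem.2 ?_, hε⟩
    · have h' : j ∈ A ⊓ B := ⟨(Subgroup.zpowers_le.2 hS.u_mem.1) h, D.jB⟩
      rwa [P.disj, Subgroup.mem_bot] at h'
    · rw [hS.card_S, hS.u_ord, hl, pow_add, pow_one]
  exfalso
  have hk' : 2 ≤ k := by have := hS.k_pos; omega
  have hl' : 2 ≤ l := by have := hS.l_pos; omega
  have hiso := X.isolated hl' hk' (X.S_le_C (hsm z j D) hl') (hsm z j D)
  have hO : Cfsg.oddCore G = ⊥ :=
    P.rad _ (CfsgLib.Solvable.pPrimeCore_normal 2 G)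
      (CfsgLib.FT.odd_order_solvable (CfsgLib.Invol.odd_card_oddCore G))
  have hc : j ∈ Subgroup.center G := Subgroup.mem_center_iff.2 fun g => by
    have h := CfsgLib.Invol.zstar G hiso g
    rw [hO, Subgroup.mem_bot, mul_inv_eq_one, mul_inv_eq_iff_eq_mul] at h
    exact h.symm
  have hn : (Subgroup.zpowers j).Normal :=
    ⟨fun x hx g => by
      obtain ⟨i, rfl⟩ := Subgroup.mem_zpowers_iff.1 hx
      rw [(Subgroup.mem_center_iff.1 (Subgroup.zpow_mem _ hc i) g), mul_inv_cancel_right]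
      exact hx⟩
  have h := P.rad _ hn inferInstance
  exact D.j_ne_one (Subgroup.zpowers_eq_bot.1 h)

end CfsgLib.Recog.ABProd
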