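import Cfsg.Agent.Lib.Recog.ABProd.Parity
import Mathlib.GroupTheory.Sylow
import Mathlib.GroupTheory.GroupAction.Embedding

/-!
A Sylow 2-subgroup that is the product of a Sylow 2-subgroup of each factor, and the sign
character.
-/

set_option autoImplicit false
set_option linter.unusedSectionVars false

namespace CfsgLib.Recog.ABProd

open MulAction Subgroup

universe u

variable {G : Type u} [Group G] [Finite G] {A B : Subgroup G} {z j : G}

/-- A Sylow 2-subgroup adapted to the factorisation, with generators of its two cyclic factors. -/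
structure Adapted (A B : Subgroup G) (S : Sylow 2 G) (u b : G) (k l : ℕ) : Prop where
  u_mem : u ∈ A ⊓ (S : Subgroup G)
  u_gen : ∀ x ∈ A ⊓ (S : Subgroup G), x ∈ Subgroup.zpowers u
  u_ord : orderOf u = 2 ^ k
  b_mem : b ∈ B ⊓ (S : Subgroup G)
  b_gen : ∀ x ∈ B ⊓ (S : Subgroup G), x ∈ Subgroup.zpowers b
  b_ord : orderOf b = 2 ^ l
  k_pos : 1 ≤ k
  l_pos : 1 ≤ l
  card_S : Nat.card (S : Subgroup G) = 2 ^ (k + l)
  decomp : ∀ s ∈ (S : Subgroup G), ∃ a ∈ A ⊓ (S : Subgroup G), ∃ c ∈ B ⊓ (S : Subgroup G), s = a * c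
  two_A : (Nat.card A).factorization 2 = k
  two_B : (Nat.card B).factorization 2 = l

theorem factorization_two_pos {H : Subgroup G} (h : Even (Nat.card H)) :
    1 ≤ (Nat.card H).factorization 2 :=
  Nat.prime_two.factorization_pos_of_dvd Nat.card_pos.ne' (even_iff_two_dvd.1 h)

/-- A cyclic group meets a 2-group in a cyclic group of order at most its 2-part. -/
theorem card_inf_sylow_le (H : Subgroup G) (S : Sylow 2 G) :
    Nat.card ↥(H ⊓ (S : Subgroup G)) ∣ 2 ^ (Nat.card H).factorization 2 := by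
  have : Fact (Nat.Prime 2) := ⟨Nat.prime_two⟩
  obtain ⟨i, hi⟩ := (S.2.to_le (inf_le_right : H ⊓ (S : Subgroup G) ≤ S)).exists_card_eq
  rw [hi]
  exact pow_dvd_pow 2 ((Nat.prime_two.pow_dvd_iff_le_factorization Nat.card_pos.ne').1
    (hi ▸ Subgroup.card_dvd_of_le (inf_le_left : H ⊓ (S : Subgroup G) ≤ H)))

theorem exists_adapted (P : Prim A B) : ∃ (S : Sylow 2 G) (u b : G) (k l : ℕ), Adapted A B S u b k l := by
  classical
  have : Fact (Nat.Prime 2) := ⟨Nat.prime_two⟩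
  obtain ⟨TA⟩ := (inferInstance : Nonempty (Sylow 2 A))
  obtain ⟨TB⟩ := (inferInstance : Nonempty (Sylow 2 B))
  have hTA : IsPGroup 2 ↥((TA : Subgroup A).map A.subtype) := TA.2.map _
  have hTB : IsPGroup 2 ↥((TB : Subgroup B).map B.subtype) := TB.2.map _
  obtain ⟨S₀, hS₀⟩ := hTA.exists_le_sylow
  obtain ⟨S₁, hS₁⟩ := hTB.exists_le_sylow
  obtain ⟨g, hg⟩ := MulAction.exists_smul_eq G S₀ S₁
  obtain ⟨a₀, ha₀, b₀, hb₀, hab⟩ := P.prod g⁻¹
  let S : Sylow 2 G := a₀⁻¹ • S₀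
  have hmemS : ∀ x : G, x ∈ (S : Subgroup G) ↔ a₀ * x * a₀⁻¹ ∈ (S₀ : Subgroup G) := by
    intro x
    show x ∈ ((a₀⁻¹ • S₀ : Sylow 2 G) : Subgroup G) ↔ _
    rw [Sylow.coe_subgroup_smul, Subgroup.mem_pointwise_smul_iff_inv_smul_mem]
    simp
  have hA2 : (TA : Subgroup A).map A.subtype ≤ A ⊓ (S : Subgroup G) := by
    intro x hx
    have hxA : x ∈ A := Subgroup.map_subtype_le _ hx
    refine ⟨hxA, (hmemS x).2 ?_⟩
    rw [commute_of_cyclic P.cyc ha₀ hxA, mul_inv_cancel_right]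
    exact hS₀ hx
  have hB2 : ((TB : Subgroup B).map B.subtype).map (MulAut.conj b₀).toMonoidHom ≤
      B ⊓ (S : Subgroup G) := by
    rintro _ ⟨x, hx, rfl⟩
    have hxB : x ∈ B := Subgroup.map_subtype_le _ hx
    refine ⟨B.mul_mem (B.mul_mem hb₀ hxB) (B.inv_mem hb₀), (hmemS _).2 ?_⟩
    have h1 : x ∈ ((g • S₀ : Sylow 2 G) : Subgroup G) := by rw [hg]; exact hS₁ hx
    rw [Sylow.coe_subgroup_smul, Subgroup.mem_pointwise_smul_iff_inv_smul_mem] at h1
    have e : g = b₀⁻¹ * a₀⁻¹ := by rw [← mul_inv_rev, ← hab, inv_inv]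
    simp [e, mul_assoc] at h1 ⊢
    exact h1
  set k := (Nat.card A).factorization 2
  set l := (Nat.card B).factorization 2
  have hcA : Nat.card ↥(A ⊓ (S : Subgroup G)) = 2 ^ k := by
    refine Nat.dvd_antisymm (card_inf_sylow_le A S) ?_
    have := Subgroup.card_dvd_of_le hA2
    rwa [Nat.card_congr ((TA : Subgroup A).equivMapOfInjective A.subtype A.subtype_injective).toEquiv.symm,
      TA.card_eq_multiplicity] at this
  have hcB : Nat.card ↥(B ⊓ (S : Subgroup G)) = 2 ^ l := by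
    refine Nat.dvd_antisymm (card_inf_sylow_le B S) ?_
    have := Subgroup.card_dvd_of_le hB2
    rwa [Nat.card_congr (((TB : Subgroup B).map B.subtype).equivMapOfInjective (MulAut.conj b₀).toMonoidHom
        (MulAut.conj b₀).injective).toEquiv.symm,
      Nat.card_congr ((TB : Subgroup B).equivMapOfInjective B.subtype B.subtype_injective).toEquiv.symm,
      TB.card_eq_multiplicity] at this
  have hcS : Nat.card (S : Subgroup G) = 2 ^ (k + l) := by
    rw [S.card_eq_multiplicity, P.card_eq, Nat.factorization_mul Nat.card_pos.ne' Nat.card_pos.ne',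
      Finsupp.add_apply]
  haveI := P.cyc
  haveI hA2c : IsCyclic ↥(A ⊓ (S : Subgroup G)) :=
    isCyclic_of_injective (Subgroup.inclusion inf_le_left) (Subgroup.inclusion_injective inf_le_left)
  haveI := P.zgrp
  haveI : IsZGroup ↥(B ⊓ (S : Subgroup G)) :=
    IsZGroup.of_injective (Subgroup.inclusion_injective (inf_le_left : B ⊓ (S : Subgroup G) ≤ B))
  have hpB : IsPGroup 2 ↥(B ⊓ (S : Subgroup G)) := S.2.to_le inf_le_right
  haveI := hpB.isNilpotent
  haveI : IsCyclic ↥(B ⊓ (S : Subgroup G)) := inferInstance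
  obtain ⟨u, hu⟩ := IsCyclic.exists_generator (α := ↥(A ⊓ (S : Subgroup G)))
  obtain ⟨b, hb⟩ := IsCyclic.exists_generator (α := ↥(B ⊓ (S : Subgroup G)))
  refine ⟨S, u, b, k, l, ⟨u.2, fun x hx => ?_, ?_, b.2, fun x hx => ?_, ?_,
    factorization_two_pos P.even_card_A, factorization_two_pos P.even_card_B, hcS, fun s hs => ?_, rfl, rfl⟩⟩
  · obtain ⟨i, hi⟩ := Subgroup.mem_zpowers_iff.1 (hu ⟨x, hx⟩)
    exact Subgroup.mem_zpowers_iff.2 ⟨i, congrArg Subtype.val hi⟩
  · rw [Subgroup.orderOf_coe, orderOf_eq_card_of_forall_mem_zpowers hu, hcA]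
  · obtain ⟨i, hi⟩ := Subgroup.mem_zpowers_iff.1 (hb ⟨x, hx⟩)
    exact Subgroup.mem_zpowers_iff.2 ⟨i, congrArg Subtype.val hi⟩
  · rw [Subgroup.orderOf_coe, orderOf_eq_card_of_forall_mem_zpowers hb, hcB]
  · let f : ↥(A ⊓ (S : Subgroup G)) × ↥(B ⊓ (S : Subgroup G)) → (S : Subgroup G) :=
      fun p => ⟨p.1 * p.2, (S : Subgroup G).mul_mem p.1.2.2 p.2.2.2⟩
    have hf : Function.Injective f := by
      rintro ⟨p, q⟩ ⟨p', q'⟩ h
      have h' : (p : G) * q = p' * q' := congrArg Subtype.val h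
      have h2 : (p' : G)⁻¹ * p ∈ A ⊓ B := ⟨A.mul_mem (A.inv_mem p'.2.1) p.2.1, by
        have e : (p' : G)⁻¹ * p = q' * (q : G)⁻¹ := by
          rw [eq_mul_inv_iff_mul_eq, mul_assoc, h', inv_mul_cancel_left]
        rw [e]; exact B.mul_mem q'.2.1 (B.inv_mem q.2.1)⟩
      rw [P.disj, Subgroup.mem_bot, inv_mul_eq_one] at h2
      have hp : p = p' := Subtype.ext h2.symm
      subst hp
      rw [mul_left_cancel_iff] at h'
      rw [Subtype.ext h']
    have hcard : Nat.card (↥(A ⊓ (S : Subgroup G)) × ↥(B ⊓ (S : Subgroup G))) = Nat.card (S : Subgroup G) := by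
      rw [Nat.card_prod, hcA, hcB, hcS, pow_add]
    obtain ⟨⟨p, q⟩, hpq⟩ := ((Nat.bijective_iff_injective_and_card f).2 ⟨hf, hcard⟩).2 ⟨s, hs⟩
    exact ⟨p, p.2, q, q.2, (congrArg Subtype.val hpq).symm⟩

/-- The sign of the action on the points is nontrivial on the adapted Sylow 2-subgroup. -/
theorem exists_sign (P : Prim A B) {S : Sylow 2 G} {u b : G} {k l : ℕ} (hS : Adapted A B S u b k l) :
    ∃ (ε : G →* ℤˣ), ∃ s ∈ (S : Subgroup G), ε s = -1 := by
  classical
  have : Fact (Nat.Prime 2) := ⟨Nat.prime_two⟩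
  have := Fintype.ofFinite (G ⧸ B)
  let ε : G →* ℤˣ := Equiv.Perm.sign.comp (MulAction.toPermHom G (G ⧸ B))
  haveI := P.cyc
  obtain ⟨a, ha⟩ := IsCyclic.exists_generator (α := A)
  have hεa : ε a = -1 := by
    refine sign_of_one_orbit _ (pt B) (fun y => ?_) (by
      rw [← Nat.card_eq_fintype_card, P.card_points]; exact P.even_card_A)
    obtain ⟨c, hc⟩ := P.regular_bijective.2 y
    obtain ⟨i, hi⟩ := Subgroup.mem_zpowers_iff.1 (ha c)
    refine ⟨i, ?_⟩
    rw [← map_zpow]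
    show ((a : G) ^ i) • pt B = y
    rw [← Subgroup.coe_zpow, hi]
    exact hc
  set e := Nat.card A / 2 ^ k
  have he : Odd e := by
    rw [← Nat.not_even_iff_odd, even_iff_two_dvd]
    rw [show e = Nat.card A / 2 ^ (Nat.card A).factorization 2 by rw [hS.two_A]]
    exact Nat.not_dvd_ordCompl Nat.prime_two Nat.card_pos.ne'
  refine ⟨ε, (a : G) ^ e, ?_, by rw [map_pow, hεa, he.neg_one_pow]⟩
  have hx : (a : A) ^ e ∈ Subgroup.zpowers (⟨u, hS.u_mem.1⟩ : A) := by
    refine mem_zpowers_of_cyclic ?_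
    rw [Subgroup.orderOf_mk, hS.u_ord, ← pow_mul]
    have h2 : 2 ^ k ∣ Nat.card A := by rw [← hS.two_A]; exact Nat.ordProj_dvd _ _
    rw [Nat.div_mul_cancel h2]
    exact pow_card_eq_one'
  obtain ⟨i, hi⟩ := Subgroup.mem_zpowers_iff.1 hx
  have hi' : u ^ i = (a : G) ^ e := congrArg Subtype.val hi
  exact hi' ▸ Subgroup.zpow_mem (S : Subgroup G) hS.u_mem.2 i

end CfsgLib.Recog.ABProd
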