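import Cfsg.Agent.Lib.Invol.BrauerSuzuki
import Cfsg.Agent.Lib.Invol.Dihedral
import Cfsg.Agent.Lib.SylLThreeFour.Weak
import Cfsg.Agent.Lib.Transfer.Frobenius
import Cfsg.Agent.S0205

/-!
A perfect group whose Sylow 2-subgroup has a cyclic subgroup of index at most two on which every
element acts as plus or minus one has dihedral Sylow 2-subgroups, given trivial centre and no
nontrivial normal subgroups of odd order.
-/

set_option autoImplicit false
set_option linter.unusedSectionVars false
set_option linter.style.haveILetI false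

namespace CfsgLib.Recog.ABProd

open Cfsg Subgroup

universe u

variable {N : Type u} [Group N] [Finite N]

/-- A perfect group of even order has no normal 2-complement. -/
theorem not_complement [Group.IsPerfect N] (heven : Even (Nat.card N)) :
    ¬ HasNormalPComplement 2 N := by
  intro h
  haveI : Fact (Nat.Prime 2) := ⟨Nat.prime_two⟩
  obtain ⟨K, hK, hc, hq⟩ := CfsgLib.Transfer.hasNormalPComplement_iff_exists.1 h
  haveI : Nontrivial (N ⧸ K) := by
    refine Finite.one_lt_card_iff_nontrivial.1 ?_
    by_contra hle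
    have h1 := Subgroup.card_eq_card_quotient_mul_card_subgroup K
    have h2 : Nat.card (N ⧸ K) = 1 := by have := Nat.card_pos (α := N ⧸ K); omega
    rw [h2, one_mul] at h1
    rw [h1] at heven
    exact Nat.not_even_iff_odd.2 (Nat.coprime_two_right.1 hc) heven
  haveI : Group.IsPerfect (N ⧸ K) := inferInstance
  haveI := hq.isNilpotent
  exact Group.IsPerfect.not_isNilpotent (N ⧸ K) inferInstance

/-- In a perfect group of even order the Sylow normalizer does not centralise the Sylow subgroup. -/
theorem not_central [Group.IsPerfect N] (heven : Even (Nat.card N)) (T : Sylow 2 N)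
    (hTab : ∀ a ∈ (T : Subgroup N), ∀ b ∈ (T : Subgroup N), a * b = b * a)
    (hfix : ∀ n ∈ normalizer ((T : Subgroup N) : Set N), Odd (orderOf n) →
      ∀ x ∈ (T : Subgroup N), n * x = x * n) : False := by
  haveI : Fact (Nat.Prime 2) := ⟨Nat.prime_two⟩
  refine not_complement heven
    (CfsgLib.Transfer.hasNormalPComplement_of_normalizer_le_centralizer T fun g hg => ?_)
  obtain ⟨s, hs, e, -, hen, hodd, rfl⟩ := CfsgLib.SylL34.exists_odd_part T hg
  refine mul_mem (mem_centralizer_iff.2 fun x hx => hTab x hx s hs)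
    (mem_centralizer_iff.2 fun x hx => (hfix e hen hodd x hx).symm)

/-- An element of odd order fixing the involutions of an abelian group of 2-power exponent
centralises it. -/
theorem fix_of_fix_invol {T : Subgroup N} (hT : IsPGroup 2 T)
    (hTab : ∀ a ∈ T, ∀ b ∈ T, a * b = b * a) {n : N} (hn : ∀ x ∈ T, n * x * n⁻¹ ∈ T)
    (hodd : Odd (orderOf n)) (hinv : ∀ x ∈ T, x * x = 1 → n * x * n⁻¹ = x) :
    ∀ x ∈ T, n * x * n⁻¹ = x := by
  suffices H : ∀ j, ∀ x ∈ T, x ^ 2 ^ j = 1 → n * x * n⁻¹ = x by
    intro x hx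
    obtain ⟨j, hj⟩ := hT ⟨x, hx⟩
    exact H j x hx (congrArg Subtype.val hj)
  intro j
  induction j with
  | zero =>
    intro x _ h
    rw [pow_zero, pow_one] at h
    rw [h]; group
  | succ j ih =>
    intro x hx h
    set t := x⁻¹ * (n * x * n⁻¹) with ht
    have htT : t ∈ T := mul_mem (inv_mem hx) (hn x hx)
    have hsq : n * (x * x) * n⁻¹ = x * x := ih _ (mul_mem hx hx) (by
      rw [← pow_two, ← pow_mul, ← pow_succ']; exact h)
    have hc : Commute (n * x * n⁻¹) x⁻¹ := hTab _ (hn x hx) _ (inv_mem hx)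
    have ht2 : t * t = 1 := by
      rw [ht, show x⁻¹ * (n * x * n⁻¹) * (x⁻¹ * (n * x * n⁻¹)) =
        x⁻¹ * (n * x * n⁻¹ * x⁻¹) * (n * x * n⁻¹) by group, hc.eq,
        show x⁻¹ * (x⁻¹ * (n * x * n⁻¹)) * (n * x * n⁻¹) = x⁻¹ * x⁻¹ * (n * (x * x) * n⁻¹) by group,
        hsq]
      group
    have htfix := hinv t htT ht2
    have hiter : ∀ k : ℕ, n ^ k * x * (n ^ k)⁻¹ = x * t ^ k := by
      intro k
      induction k with
      | zero => simp
      | succ k ihk =>
        rw [pow_succ', mul_inv_rev, show n * n ^ k * x * ((n ^ k)⁻¹ * n⁻¹) =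
          n * (n ^ k * x * (n ^ k)⁻¹) * n⁻¹ by group, ihk,
          show n * (x * t ^ k) * n⁻¹ = n * x * n⁻¹ * (n * t ^ k * n⁻¹) by group,
          ((show Commute n t from mul_inv_eq_iff_eq_mul.1 htfix).pow_right k).eq,
          mul_inv_cancel_right, show n * x * n⁻¹ = x * t by rw [ht, mul_inv_cancel_left], mul_assoc,
          ← pow_succ']
    have h1 := hiter (orderOf n)
    rw [pow_orderOf_eq_one, one_mul, inv_one, mul_one, left_eq_mul] at h1
    have h2 : t = 1 := orderOf_eq_one_iff.1 (Nat.eq_one_of_dvd_coprimes (Nat.coprime_two_left.2 hodd)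
      (orderOf_dvd_of_pow_eq_one (by rw [pow_two, ht2])) (orderOf_dvd_of_pow_eq_one h1))
    rw [ht, inv_mul_eq_one] at h2
    exact h2.symm

/-- The Sylow 2-subgroup is dihedral. -/
theorem dihedral_of_perfect [Group.IsPerfect N] (heven : Even (Nat.card N))
    (hO : ∀ M : Subgroup N, M.Normal → Odd (Nat.card M) → M = ⊥)
    (hZ : center N = ⊥) (T : Sylow 2 N) (v : N) (hv : v ∈ (T : Subgroup N))
    (hidx : ∀ a ∈ (T : Subgroup N), ∀ b ∈ (T : Subgroup N), a ∉ zpowers v → b ∉ zpowers v →
      a * b ∈ zpowers v)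
    (hact : ∀ t ∈ (T : Subgroup N), t * v * t⁻¹ = v ∨ t * v * t⁻¹ = v⁻¹) :
    ∃ n : ℕ, 2 ≤ n ∧ Nonempty ((T : Subgroup N) ≃* DihedralGroup n) := by
  classical
  haveI : Fact (Nat.Prime 2) := ⟨Nat.prime_two⟩
  have hnocyc : ¬ IsCyclic (T : Subgroup N) := fun hc => not_complement heven
    (CfsgLib.Transfer.hasNormalPComplement_of_normalizer_le_centralizer T
      (hc.normalizer_le_centralizer ((Nat.minFac_eq_two_iff _).2 (even_iff_two_dvd.1 heven))))
  have hVT : zpowers v ≤ (T : Subgroup N) := zpowers_le.2 hv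
  obtain ⟨s, hs, hsV⟩ : ∃ s ∈ (T : Subgroup N), s ∉ zpowers v := by
    by_contra hc
    push Not at hc
    exact hnocyc (by rw [le_antisymm (fun x hx => hc x hx) hVT]; infer_instance)
  obtain ⟨b, hb⟩ : ∃ b, orderOf v = 2 ^ b := by
    obtain ⟨j, hj⟩ := T.2 ⟨v, hv⟩
    obtain ⟨b, -, hb⟩ := (Nat.dvd_prime_pow Nat.prime_two).1
      (orderOf_dvd_of_pow_eq_one (congrArg Subtype.val hj : v ^ 2 ^ j = 1))
    exact ⟨b, hb⟩
  have hsq : ∀ x ∈ (T : Subgroup N), x * x ∈ zpowers v := fun x hx => by
    by_cases hxV : x ∈ zpowers v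
    · exact mul_mem hxV hxV
    · exact hidx x hx x hx hxV hxV
  have hdecomp : ∀ x ∈ (T : Subgroup N), x ∈ zpowers v ∨ x * s ∈ zpowers v := fun x hx => by
    by_cases hxV : x ∈ zpowers v
    · exact Or.inl hxV
    · exact Or.inr (hidx x hx s hs hxV hsV)
  have hgen : (T : Subgroup N) = closure ({v, s} : Set N) := by
    refine le_antisymm (fun x hx => ?_) ?_
    · have hv' : zpowers v ≤ closure ({v, s} : Set N) := zpowers_le.2 (subset_closure (Or.inl rfl))
      rcases hdecomp x hx with h | h
      · exact hv' h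
      · have := mul_mem (hv' h) (inv_mem (subset_closure (Or.inr rfl : s ∈ ({v, s} : Set N))))
        rwa [mul_inv_cancel_right] at this
    · rw [closure_le]
      rintro x (rfl | rfl)
      exacts [hv, hs]
  rcases hact s hs with hc | hi
  · -- abelian
    have hTab : ∀ a ∈ (T : Subgroup N), ∀ b ∈ (T : Subgroup N), a * b = b * a := by
      have hcomm : IsMulCommutative (closure ({v, s} : Set N)) := isMulCommutative_closure (by
        rintro a (rfl | rfl) b (rfl | rfl)
        · rfl
        · exact (mul_inv_eq_iff_eq_mul.1 hc).symm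
        · exact mul_inv_eq_iff_eq_mul.1 hc
        · rfl)
      intro a ha b hb
      rw [hgen] at ha hb
      exact setLike_mul_comm ha hb
    by_cases hb2 : 2 ≤ b
    · exfalso
      obtain ⟨c, rfl⟩ : ∃ c, b = c + 1 := ⟨b - 1, by omega⟩
      set w := v ^ 2 ^ c with hw
      have hwo : orderOf w = 2 := by
        rw [hw, orderOf_pow_of_dvd (pow_ne_zero _ two_ne_zero) (hb ▸ pow_dvd_pow 2 (by omega)), hb,
          pow_succ, Nat.mul_div_cancel_left _ (by positivity)]
      have huniqV : ∀ x ∈ zpowers v, x * x = 1 → x = 1 ∨ x = w := by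
        intro x hx hx2
        obtain ⟨i, hi, rfl⟩ := Finset.mem_image.1 (mem_zpowers_iff_mem_range_orderOf.1 hx)
        rw [Finset.mem_range, hb] at hi
        have hd : 2 ^ (c + 1) ∣ i * 2 := by
          rw [← hb]; exact orderOf_dvd_of_pow_eq_one (by rw [pow_mul, pow_two, hx2])
        rw [pow_succ, Nat.mul_dvd_mul_iff_right two_pos] at hd
        obtain ⟨q, rfl⟩ := hd
        have hq : q < 2 := by
          rw [pow_succ] at hi
          exact Nat.lt_of_mul_lt_mul_left hi
        interval_cases q
        · left; rw [mul_zero, pow_zero]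
        · right; rw [mul_one]
      refine not_central heven T hTab fun n hn hodd => ?_
      have hnT : ∀ x ∈ (T : Subgroup N), n * x * n⁻¹ ∈ (T : Subgroup N) := fun x hx =>
        (mem_normalizer_iff.1 hn x).1 hx
      have hw' : n * w * n⁻¹ = w := by
        obtain ⟨d, rfl⟩ : ∃ d, c = d + 1 := ⟨c - 1, by omega⟩
        have hwsq : w = v ^ 2 ^ d * v ^ 2 ^ d := by rw [hw, ← pow_add, ← two_mul, ← pow_succ']
        have hwV : n * w * n⁻¹ ∈ zpowers v := by
          rw [hwsq, show n * (v ^ 2 ^ d * v ^ 2 ^ d) * n⁻¹ =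
            n * v ^ 2 ^ d * n⁻¹ * (n * v ^ 2 ^ d * n⁻¹) by group]
          exact hsq _ (hnT _ (pow_mem hv _))
        have hw2 : w * w = 1 := by rw [← pow_two, ← hwo, pow_orderOf_eq_one]
        rcases huniqV _ hwV (by
          rw [show n * w * n⁻¹ * (n * w * n⁻¹) = n * (w * w) * n⁻¹ by group, hw2]; group) with e | e
        · rw [conj_eq_one_iff] at e
          rw [e, orderOf_one] at hwo
          omega
        · exact e
      intro x hx
      refine mul_inv_eq_iff_eq_mul.1 (fix_of_fix_invol T.2 hTab hnT hodd (fun y hy hy2 => ?_) x hx)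
      have hy1 : n * y * n⁻¹ * (n * y * n⁻¹) = 1 := by
        rw [show n * y * n⁻¹ * (n * y * n⁻¹) = n * (y * y) * n⁻¹ by group, hy2]; group
      by_cases hyV : y ∈ zpowers v
      · rcases huniqV y hyV hy2 with rfl | rfl
        · group
        · exact hw'
      have hny : n * y * n⁻¹ ∉ zpowers v := by
        intro h
        rcases huniqV _ h hy1 with e | e
        · exact hyV (by rw [conj_eq_one_iff.1 e]; exact one_mem _)
        · exact hyV (by
            rw [show y = n⁻¹ * (n * y * n⁻¹) * n by group, e]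
            nth_rw 1 [← hw']
            rw [show n⁻¹ * (n * w * n⁻¹) * n = w by group, hw]
            exact pow_mem (mem_zpowers v) _)
      have hprod := hidx y hy _ (hnT y hy) hyV hny
      rcases huniqV _ hprod (by
        rw [show y * (n * y * n⁻¹) * (y * (n * y * n⁻¹)) =
          y * (n * y * n⁻¹ * y) * (n * y * n⁻¹) by group, hTab _ (hnT y hy) y hy,
          show y * (y * (n * y * n⁻¹)) * (n * y * n⁻¹) = y * y * (n * y * n⁻¹ * (n * y * n⁻¹)) by
            group, hy2, hy1, one_mul]) with e | e
      · rw [eq_inv_of_mul_eq_one_right e]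
        exact inv_eq_of_mul_eq_one_left hy2
      · refine CfsgLib.Invol.conj_eq_of_sq_conj_eq hodd ?_
        have e' : n * y * n⁻¹ = y * w := by
          rw [← e, ← mul_assoc, hy2, one_mul]
        rw [mul_inv_rev, show n * n * y * (n⁻¹ * n⁻¹) = n * (n * y * n⁻¹) * n⁻¹ by group, e',
          show n * (y * w) * n⁻¹ = n * y * n⁻¹ * (n * w * n⁻¹) by group, hw', e', mul_assoc,
          ← pow_two, ← hwo, pow_orderOf_eq_one, mul_one]
    -- the four group
    have hb1 : b ≤ 1 := by omega
    have hv2 : v * v = 1 := by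
      rw [← pow_two, ← orderOf_dvd_iff_pow_eq_one, hb]
      exact (pow_dvd_pow 2 hb1).trans (dvd_of_eq (pow_one 2))
    have hb0 : b = 1 := by
      by_contra hne
      obtain rfl : b = 0 := by omega
      rw [pow_zero, orderOf_eq_one_iff] at hb
      refine hnocyc ?_
      rw [hgen, hb, closure_insert_one, ← zpowers_eq_closure]
      infer_instance
    subst hb0
    have hs2 : s * s = 1 := by
      by_contra hne
      refine hnocyc ?_
      have hsv : v ∈ zpowers s := by
        obtain ⟨i, hi, e⟩ := Finset.mem_image.1 (mem_zpowers_iff_mem_range_orderOf.1 (hsq s hs))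
        rw [Finset.mem_range, hb] at hi
        have e' : v ^ i = s * s := e
        interval_cases i
        · exact absurd (by rw [← e', pow_zero]) hne
        · rw [pow_one] at e'
          rw [e']
          exact mul_mem (mem_zpowers s) (mem_zpowers s)
      have : (T : Subgroup N) = zpowers s := by
        refine le_antisymm ?_ (zpowers_le.2 hs)
        rw [hgen, closure_le]
        rintro x (rfl | rfl)
        exacts [hsv, mem_zpowers _]
      rw [this]
      infer_instance
    have hso : orderOf s = 2 := orderOf_eq_prime (by rw [pow_two, hs2]) fun h => hsV (by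
      rw [h]; exact one_mem _)
    obtain ⟨e⟩ := CfsgLib.Invol.exists_mulEquiv_dihedral (n := 2) (r := v) (s := s)
      (by rw [hb, pow_one]) hso (by rw [hc]; exact (inv_eq_of_mul_eq_one_right hv2).symm) hsV
    exact ⟨2, le_rfl, ⟨(MulEquiv.subgroupCongr hgen).trans e⟩⟩
  · -- inverted
    by_cases hb1 : b ≤ 1
    · -- then the inverting element centralises
      have hv2 : v⁻¹ = v := by
        refine inv_eq_of_mul_eq_one_right ?_
        rw [← pow_two, ← orderOf_dvd_iff_pow_eq_one, hb]
        exact (pow_dvd_pow 2 hb1).trans (dvd_of_eq (pow_one 2))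
      rw [hv2] at hi
      by_cases hb0 : b = 0
      · exfalso
        subst hb0
        rw [pow_zero, orderOf_eq_one_iff] at hb
        refine hnocyc ?_
        rw [hgen, hb, closure_insert_one, ← zpowers_eq_closure]
        infer_instance
      obtain rfl : b = 1 := by omega
      by_cases hs2 : s * s = 1
      · have hso : orderOf s = 2 := orderOf_eq_prime (by rw [pow_two, hs2]) fun h => hsV (by
          rw [h]; exact one_mem _)
        obtain ⟨e⟩ := CfsgLib.Invol.exists_mulEquiv_dihedral (n := 2) (r := v) (s := s)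
          (by rw [hb, pow_one]) hso (by rw [hv2]; exact hi) hsV
        exact ⟨2, le_rfl, ⟨(MulEquiv.subgroupCongr hgen).trans e⟩⟩
      · exfalso
        refine hnocyc ?_
        have hsv : v ∈ zpowers s := by
          obtain ⟨i, hi', e⟩ := Finset.mem_image.1 (mem_zpowers_iff_mem_range_orderOf.1 (hsq s hs))
          rw [Finset.mem_range, hb] at hi'
          have e' : v ^ i = s * s := e
          interval_cases i
          · exact absurd (by rw [← e', pow_zero]) hs2
          · rw [pow_one] at e'
            rw [e']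
            exact mul_mem (mem_zpowers s) (mem_zpowers s)
        have : (T : Subgroup N) = zpowers s := by
          refine le_antisymm ?_ (zpowers_le.2 hs)
          rw [hgen, closure_le]
          rintro x (rfl | rfl)
          exacts [hsv, mem_zpowers _]
        rw [this]
        infer_instance
    push Not at hb1
    obtain ⟨c, rfl⟩ : ∃ c, b = c + 1 := ⟨b - 1, by omega⟩
    by_cases hs2 : s * s = 1
    · have hso : orderOf s = 2 := orderOf_eq_prime (by rw [pow_two, hs2]) fun h => hsV (by
        rw [h]; exact one_mem _)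
      haveI : NeZero (2 ^ (c + 1)) := ⟨pow_ne_zero _ two_ne_zero⟩
      obtain ⟨e⟩ := CfsgLib.Invol.exists_mulEquiv_dihedral (n := 2 ^ (c + 1)) (r := v) (s := s)
        hb hso hi hsV
      refine ⟨2 ^ (c + 1), ?_, ⟨(MulEquiv.subgroupCongr hgen).trans e⟩⟩
      calc 2 = 2 ^ 1 := rfl
        _ ≤ 2 ^ (c + 1) := Nat.pow_le_pow_right two_pos (by omega)
    -- quaternion: the involution of `T` is unique
    exfalso
    obtain ⟨j, hj⟩ := mem_zpowers_iff.1 (hsq s hs)
    have hfix : s * v ^ j * s⁻¹ = v ^ j := by rw [hj]; group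
    rw [← conj_zpow, hi, inv_zpow] at hfix
    have hj2 : v ^ j * v ^ j = 1 := by
      nth_rw 1 [← hfix]
      exact inv_mul_cancel _
    have hrank : ∀ E : Subgroup N, ¬ IsKleinFour E := by
      intro E hE
      haveI := hE
      have hp : IsPGroup 2 E := IsPGroup.of_card (n := 2) (by rw [hE.card_four]; norm_num)
      obtain ⟨T', hT'⟩ := hp.exists_le_sylow
      obtain ⟨g, hg⟩ := MulAction.exists_smul_eq N T' T
      have hmap : (T' : Subgroup N).map (MulAut.conj g).toMonoidHom = (T : Subgroup N) :=
        congrArg (fun R : Sylow 2 N => (R : Subgroup N)) hg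
      have hmem : ∀ x : E, g * x * g⁻¹ ∈ (T : Subgroup N) := fun x => hmap.le ⟨x, hT' x.2, rfl⟩
      have hsq1 : ∀ x : E, g * x * g⁻¹ * (g * x * g⁻¹) = 1 := fun x => by
        have : (x : N) * x = 1 := congrArg Subtype.val (IsKleinFour.mul_self x)
        rw [show g * x * g⁻¹ * (g * (x : N) * g⁻¹) = g * ((x : N) * x) * g⁻¹ by group, this]; group
      -- all these elements are powers of `v`
      have hin : ∀ x : E, g * x * g⁻¹ ∈ zpowers v := by
        intro x
        by_contra hxV
        obtain ⟨i, hi'⟩ := mem_zpowers_iff.1 ((hdecomp _ (hmem x)).resolve_left hxV)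
        have e1 : g * x * g⁻¹ = v ^ i * s⁻¹ := by rw [hi', mul_inv_cancel_right]
        have e2 := hsq1 x
        rw [e1, show v ^ i * s⁻¹ * (v ^ i * s⁻¹) = v ^ i * (s⁻¹ * v ^ i * s) * (s * s)⁻¹ by group]
          at e2
        have e3 : s⁻¹ * v ^ i * s = (v ^ i)⁻¹ := by
          have : s * (v ^ i)⁻¹ * s⁻¹ = v ^ i := by rw [← conj_inv, ← conj_zpow, hi, inv_zpow, inv_inv]
          calc s⁻¹ * v ^ i * s = s⁻¹ * (s * (v ^ i)⁻¹ * s⁻¹) * s := by rw [this]
            _ = _ := by group
        rw [e3, mul_inv_cancel, one_mul, inv_eq_one] at e2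
        exact hs2 e2
      have hcyc : IsCyclic E := by
        refine isCyclic_of_injective
          (f := (((MulAut.conj g).toMonoidHom.comp E.subtype).codRestrict (zpowers v) hin)) ?_
        intro a c h
        exact Subtype.ext ((MulAut.conj g).injective (congrArg Subtype.val h))
      exact IsKleinFour.not_isCyclic hcyc
    obtain ⟨z, hz, hzo⟩ := CfsgLib.Invol.centralInvol N heven hrank hO
    rw [hZ, mem_bot] at hz
    rw [hz, orderOf_one] at hzo
    omega

end CfsgLib.Recog.ABProd
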