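import Cfsg.Agent.Lib.Recog.ABProd.Line
import Cfsg.Agent.Lib.OddLocal.QuadPair
import Cfsg.Agent.Lib.Invol.MetacyclicTwoSolvable
import Mathlib.LinearAlgebra.FiniteDimensional.Lemmas
import Mathlib.Algebra.Module.ZMod
import Mathlib.Algebra.CharP.Two
import Mathlib.GroupTheory.SpecificGroups.Alternating

/-!
The group on the fixed points of the distinguished involution: nonsolvable with trivial radical,
or solvable of degree 2 or the symmetric group of degree 4.
-/

set_option autoImplicit false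

namespace CfsgLib.Recog.ABProd

open MulAction Subgroup

universe u

/-- A unipotent automorphism of an elementary abelian group of order `2 ^ m` is killed by any
power `2 ^ s ≥ m`. -/
theorem pow_eq_one_of_elementary {M : Type*} [AddCommGroup M] [Module (ZMod 2) M] [Finite M] {m s e : ℕ}
    (hm : Nat.card M = 2 ^ m) (hs : m ≤ 2 ^ s) (f : Module.End (ZMod 2) M) (hf : f ^ 2 ^ e = 1) :
    f ^ 2 ^ s = 1 := by
  classical
  haveI : Module.Finite (ZMod 2) M := Module.Finite.of_finite
  have hfr : Module.finrank (ZMod 2) M = m := by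
    have h := Module.natCard_eq_pow_finrank (K := ZMod 2) (V := M)
    rw [hm, Nat.card_zmod] at h
    exact (Nat.pow_right_injective le_rfl h).symm
  have h2 : ∀ x : Module.End (ZMod 2) M, x + x = 0 := fun x => by
    rw [← two_smul (ZMod 2) x, show (2 : ZMod 2) = 0 from rfl, zero_smul]
  have hsq : ∀ k : ℕ, (f + 1) ^ 2 ^ k = f ^ 2 ^ k + 1 := by
    intro k
    induction k with
    | zero => simp
    | succ k ih =>
      rw [pow_succ, pow_mul, ih, pow_mul, sq, sq, add_mul, mul_add, mul_add, one_mul, mul_one,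
        one_mul, add_assoc, ← add_assoc (f ^ 2 ^ k) (f ^ 2 ^ k) 1, h2, zero_add]
  have hnil : (f + 1) ^ m = 0 := by
    refine LinearMap.ext fun v => ?_
    have hv : v ∈ LinearMap.ker ((f + 1) ^ 2 ^ e) := by
      rw [LinearMap.mem_ker, hsq, hf, h2]; rfl
    have := Module.End.ker_pow_le_ker_pow_finrank (f + 1) (2 ^ e) hv
    rw [hfr, LinearMap.mem_ker] at this
    exact this
  have h := hsq s
  rw [pow_eq_zero_of_le hs hnil] at h
  calc f ^ 2 ^ s = f ^ 2 ^ s + (1 + 1) := by rw [h2, add_zero]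
    _ = 1 := by rw [← add_assoc, ← h, zero_add]

/-- The conjugation action on an elementary abelian normal 2-subgroup. -/
theorem pow_mem_centralizer {X : Type u} [Group X] [Finite X] (N : Subgroup X) [N.Normal]
    (hcomm : IsMulCommutative N) (hexp : ∀ n ∈ N, n * n = 1) {m s e : ℕ} (hm : Nat.card N = 2 ^ m)
    (hs : m ≤ 2 ^ s) {a : X} (ha : a ^ 2 ^ e = 1) : a ^ 2 ^ s ∈ centralizer (N : Set X) := by
  classical
  letI : CommGroup N := { (inferInstance : Group N) with mul_comm := fun x y => hcomm.is_comm.comm x y }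
  letI : Module (ZMod 2) (Additive N) := AddCommGroup.zmodModule fun x => by
    rw [two_nsmul]
    exact congrArg Additive.ofMul (Subtype.ext (hexp (Additive.toMul x : N) (Additive.toMul x).2))
  let φ : X →* Module.End (ZMod 2) (Additive N) :=
    { toFun := fun g => (MonoidHom.toAdditive (MulAut.conjNormal g : MulAut N).toMonoidHom).toZModLinearMap 2
      map_one' := LinearMap.ext fun v => by simp
      map_mul' := fun g h => LinearMap.ext fun v => by simp [map_mul] }
  have h := pow_eq_one_of_elementary (M := Additive N) (m := m) (s := s) (e := e) hm hs (φ a)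
    (by rw [← map_pow, ha, map_one])
  rw [← map_pow] at h
  rw [mem_centralizer_iff]
  intro n hn
  have h2 : ((MulAut.conjNormal (a ^ 2 ^ s) : MulAut N) ⟨n, hn⟩ : X) = n := by
    have e : φ (a ^ 2 ^ s) = φ a ^ 2 ^ s := map_pow φ a _
    have h3 := congrArg (fun t : Additive N => ((Additive.toMul t : N) : X))
      (LinearMap.congr_fun (e.trans ((map_pow φ a _).symm.trans h)) (Additive.ofMul (⟨n, hn⟩ : N)))
    exact h3
  rw [MulAut.conjNormal_apply] at h2
  exact (mul_inv_eq_iff_eq_mul.1 h2).symm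

variable {G : Type u} [Group G] [Finite G] {A B : Subgroup G} {z j : G}

namespace Dist

variable (D : Dist A B z j) (P : Prim A B)
include D P

/-- The base point of the induced group. -/
def x0 : Fix B j := ⟨pt B, D.pt_fixed⟩

theorem stab_eq (σ : XGrp B j) : σ.1 D.x0 = D.x0 ↔ σ ∈ img B j B := by
  obtain ⟨_, c, rfl⟩ := σ
  constructor
  · intro h
    exact ⟨c, Subgroup.mem_subgroupOf.2 ((smul_pt_eq_iff (B := B) (g := (c : G))).1 (congrArg Subtype.val h)), rfl⟩
  · rintro ⟨b, hb, hbc⟩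
    rw [← congrArg Subtype.val hbc]
    exact Subtype.ext (smul_pt_eq_iff.2 hb)

theorem x_two_transitive : IsMultiplyPretransitive (XGrp B j) (Fix B j) 2 := by
  rw [is_two_pretransitive_iff]
  intro a b c d hab hcd
  obtain ⟨g, h1, h2⟩ := D.exists_map_fix P hab hcd
  exact ⟨(fixHom B j).rangeRestrict g, h1, h2⟩

theorem fix_nontrivial : Nontrivial (Fix B j) :=
  ⟨⟨D.x0, ⟨z • pt B, D.jz⟩, fun h => D.z_ne (congrArg Subtype.val h).symm⟩⟩

theorem normal_transitive {N : Subgroup (XGrp B j)} (hN : N.Normal) (hne : N ≠ ⊥) (y : Fix B j) :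
    ∃ n ∈ N, (n : Equiv.Perm (Fix B j)) D.x0 = y := by
  haveI : IsPreprimitive (XGrp B j) (Fix B j) :=
    isPreprimitive_of_is_two_pretransitive (D.x_two_transitive P)
  have hfix : MulAction.fixedPoints N (Fix B j) ≠ ⊤ := by
    intro htop
    refine hne ((Subgroup.eq_bot_iff_forall N).2 fun n hn => Subtype.ext (Equiv.ext fun x => ?_))
    have := htop.symm.subset (Set.mem_univ x) ⟨n, hn⟩
    exact this
  haveI := hN
  haveI := IsQuasiPreprimitive.isPretransitive_of_normal (G := XGrp B j) (X := Fix B j) hfix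
  obtain ⟨n, hn⟩ := MulAction.exists_smul_eq N D.x0 y
  exact ⟨n, n.2, hn⟩

theorem x_radFree (hns : ¬ Group.IsSolvable (XGrp B j)) : RadFree (XGrp B j) := by
  intro N hN hs
  by_contra hne
  refine hns ?_
  haveI := hN
  refine CfsgLib.Invol.MetacyclicTwo.solvable_of_extension N hs ?_
  haveI : IsZGroup (img B j B) := (D.setting P).zgrp
  let f := (QuotientGroup.mk' N).comp (img B j B).subtype
  have hf : Function.Surjective f := by
    intro q
    obtain ⟨σ, rfl⟩ := QuotientGroup.mk'_surjective N q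
    obtain ⟨n, hn, hnx⟩ := D.normal_transitive P hN hne (σ.1 D.x0)
    refine ⟨⟨n⁻¹ * σ, (D.stab_eq P _).1 ?_⟩, ?_⟩
    · simp [← hnx]
    · simp only [f, MonoidHom.coe_comp, Function.comp_apply, Subgroup.coe_subtype, map_mul, map_inv]
      rw [show QuotientGroup.mk' N n = 1 from (QuotientGroup.eq_one_iff n).2 hn, inv_one, one_mul]
  exact Group.isSolvable_of_surjective hf

/-- A solvable induced group has degree at most four. -/
theorem card_fix_of_solvable [Group.IsSolvable (XGrp B j)] :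
    Nat.card (Fix B j) = 2 ∨ Nat.card (Fix B j) = 4 := by
  classical
  have : Fact (Nat.Prime 2) := ⟨Nat.prime_two⟩
  have := Fintype.ofFinite (Fix B j)
  haveI := D.fix_nontrivial P
  haveI : Nontrivial (XGrp B j) := by
    obtain ⟨u, v, huv⟩ := (D.fix_nontrivial P).exists_pair_ne
    obtain ⟨c, h1, -⟩ := D.exists_map_fix P huv huv.symm
    exact ⟨(fixHom B j).rangeRestrict c, 1, fun h => huv (by
      rw [← h1, show fixHom B j c = 1 from congrArg Subtype.val h]; rfl)⟩
  obtain ⟨N0, hN0, hN0ne, hN0c⟩ := CfsgLib.OddLocal.exists_abelian_normal (XGrp B j)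
  -- regularity
  have hreg : ∀ (M : Subgroup (XGrp B j)), M.Normal → M ≠ ⊥ → ∀ c ∈ centralizer (M : Set (XGrp B j)),
      c.1 D.x0 = D.x0 → c = 1 := by
    intro M hM hMne c hc hfix
    refine Subtype.ext (Equiv.ext fun y => ?_)
    obtain ⟨n, hn, rfl⟩ := D.normal_transitive P hM hMne y
    have h := congrArg (fun t : XGrp B j => t.1 D.x0) (mem_centralizer_iff.1 hc n hn)
    simp only [Subgroup.coe_mul, Equiv.Perm.coe_mul, Function.comp_apply, hfix] at h
    exact h.symm
  have hcardreg : ∀ (M : Subgroup (XGrp B j)), M.Normal → M ≠ ⊥ → IsMulCommutative M →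
      Nat.card M = Nat.card (Fix B j) ∧ centralizer (M : Set (XGrp B j)) ≤ M := by
    intro M hM hMne hMc
    have hle : M ≤ centralizer (M : Set (XGrp B j)) := fun x hx => mem_centralizer_iff.2 fun y hy =>
      congrArg Subtype.val (hMc.is_comm.comm ⟨y, hy⟩ ⟨x, hx⟩)
    refine ⟨Nat.card_congr (Equiv.ofBijective (fun n : M => n.1.1 D.x0) ⟨fun a b h => ?_,
      fun y => ?_⟩), fun c hc => ?_⟩
    · have := hreg M hM hMne (a⁻¹ * b : M) (hle (a⁻¹ * b : M).2) (by
        show (a.1.1)⁻¹ (b.1.1 D.x0) = _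
        rw [show b.1.1 D.x0 = a.1.1 D.x0 from h.symm, Equiv.Perm.coe_inv, Equiv.symm_apply_apply])
      exact inv_mul_eq_one.1 (Subtype.ext this)
    · obtain ⟨n, hn, h⟩ := D.normal_transitive P hM hMne y
      exact ⟨⟨n, hn⟩, h⟩
    · obtain ⟨n, hn, h⟩ := D.normal_transitive P hM hMne (c.1 D.x0)
      have := hreg M hM hMne (n⁻¹ * c) (mul_mem (inv_mem (hle hn)) hc) (by
        show (n.1)⁻¹ (c.1 D.x0) = _
        rw [← h, Equiv.Perm.coe_inv, Equiv.symm_apply_apply])
      rwa [← inv_mul_eq_one.1 this]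
  -- the elements of order two of `N0`
  let N : Subgroup (XGrp B j) :=
    { carrier := {x | x ∈ N0 ∧ x * x = 1}
      one_mem' := ⟨one_mem _, one_mul 1⟩
      mul_mem' := fun {x y} hx hy => ⟨mul_mem hx.1 hy.1, by
        have h : y * x = x * y := congrArg Subtype.val (hN0c.is_comm.comm ⟨y, hy.1⟩ ⟨x, hx.1⟩)
        rw [mul_assoc, ← mul_assoc y x y, h, mul_assoc x y y, hy.2, mul_one, hx.2]⟩
      inv_mem' := fun {x} hx => ⟨inv_mem hx.1, by rw [← mul_inv_rev, hx.2, inv_one]⟩ }
  have hNn : N.Normal := ⟨fun x hx g => ⟨hN0.conj_mem x hx.1 g, by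
    rw [conj_mul, hx.2, mul_one, mul_inv_cancel]⟩⟩
  have hNc : IsMulCommutative N := ⟨⟨fun x y => Subtype.ext
    (congrArg (fun t : N0 => (t : XGrp B j)) (hN0c.is_comm.comm ⟨x, x.2.1⟩ ⟨y, y.2.1⟩))⟩⟩
  have hNne : N ≠ ⊥ := by
    intro h
    obtain ⟨t, ht⟩ := exists_prime_orderOf_dvd_card' (G := N0) 2
      ((hcardreg N0 hN0 hN0ne hN0c).1 ▸ D.two_dvd_card_fix P)
    have : (t : XGrp B j) ∈ N := ⟨t.2, by
      rw [← Subgroup.orderOf_coe] at ht
      rw [← pow_two, ← ht, pow_orderOf_eq_one]⟩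
    rw [h, Subgroup.mem_bot, OneMemClass.coe_eq_one] at this
    rw [this, orderOf_one] at ht
    simp at ht
  obtain ⟨hNcard, hNC⟩ := hcardreg N hNn hNne hNc
  obtain ⟨m, hm⟩ : ∃ m, Nat.card N = 2 ^ m := by
    refine IsPGroup.exists_card_eq (fun x => ⟨1, Subtype.ext ?_⟩)
    rw [pow_one, pow_two]
    exact x.2.2
  -- the regular cyclic subgroup
  haveI := (D.setting P).cyc
  obtain ⟨a, ha⟩ := IsCyclic.exists_generator (α := img B j A)
  have horder : orderOf (a : XGrp B j) = 2 ^ m := by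
    rw [Subgroup.orderOf_coe, orderOf_eq_card_of_forall_mem_zpowers ha, D.card_img_A P, ← hNcard, hm]
  haveI := hNn
  have key : ∀ s, m ≤ 2 ^ s → m ≤ s + 1 := by
    intro s hs
    have h := hNC (pow_mem_centralizer N hNc (fun n hn => hn.2) hm hs
      (a := (a : XGrp B j)) (e := m) (by rw [← horder, pow_orderOf_eq_one]))
    have h2 := h.2
    rw [← pow_add, ← two_mul, ← pow_succ'] at h2
    have := orderOf_dvd_of_pow_eq_one h2
    rwa [horder, Nat.pow_dvd_pow_iff_le_right one_lt_two] at this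
  have hm1 : 1 ≤ m := by
    by_contra h
    have h0 : m = 0 := by omega
    have := D.two_dvd_card_fix P
    rw [← hNcard, hm, h0] at this
    omega
  have hm3 : m ≤ 3 := by
    by_contra h
    have hge : ∀ k : ℕ, k + 4 ≤ 2 ^ (k + 2) := by
      intro k; induction k with
      | zero => norm_num
      | succ k ih => rw [show k + 1 + 2 = (k + 2) + 1 by omega, pow_succ]; omega
    have := key (m - 2) (by
      have := hge (m - 4)
      rwa [show m - 4 + 4 = m by omega, show m - 4 + 2 = m - 2 by omega] at this)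
    omega
  rcases (show m = 1 ∨ m = 2 ∨ m = 3 by omega) with rfl | rfl | rfl
  · left; rw [← hNcard, hm]; norm_num
  · right; rw [← hNcard, hm]; norm_num
  exfalso
  -- degree eight
  have hN8 : Nat.card N = 8 := by rw [hm]; norm_num
  have hX8 : Nat.card (Fix B j) = 8 := by rw [← hNcard, hN8]
  -- two involutions fixing the same pair coincide
  have huniq : ∀ (y : Fix B j), y ≠ D.x0 → ∀ s t : XGrp B j, orderOf s = 2 → orderOf t = 2 →
      s.1 D.x0 = D.x0 → s.1 y = y → t.1 D.x0 = D.x0 → t.1 y = y → s = t := by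
    intro y hy s t hs ht hs0 hsy ht0 hty
    let H : Subgroup G := stabilizer G (pt B) ⊓ stabilizer G y.1
    haveI : IsCyclic H := P.pair_stabilizer_cyclic fun h => hy (Subtype.ext h.symm)
    haveI : IsCyclic (H.subgroupOf (Cj j)) :=
      isCyclic_of_injective (((Cj j).subtype.comp (H.subgroupOf (Cj j)).subtype).codRestrict H
        fun x => x.2) fun x w h => Subtype.ext (Subtype.ext (congrArg (fun t : H => (t : G)) h))
    have hcyc : IsCyclic ((H.subgroupOf (Cj j)).map (fixHom B j).rangeRestrict) :=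
      isCyclic_of_surjective _ ((fixHom B j).rangeRestrict.subgroupMap_surjective (H.subgroupOf (Cj j)))
    have hmem : ∀ u : XGrp B j, u.1 D.x0 = D.x0 → u.1 y = y →
        u ∈ (H.subgroupOf (Cj j)).map (fixHom B j).rangeRestrict := by
      rintro ⟨_, c, rfl⟩ h0 h1
      exact ⟨c, ⟨congrArg Subtype.val h0, congrArg Subtype.val h1⟩, rfl⟩
    exact invol_unique_of_cyclic hcyc (hmem s hs0 hsy) (hmem t ht0 hty) hs ht
  have hpt : ∀ y : Fix B j, ∃ n : N, n.1.1 D.x0 = y := fun y => by
    obtain ⟨n, hn, h⟩ := D.normal_transitive P hNn hNne y; exact ⟨⟨n, hn⟩, h⟩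
  have hinjN : ∀ n n' : N, n.1.1 D.x0 = n'.1.1 D.x0 → n = n' := by
    intro n n' h
    have hcard : Nat.card N = Nat.card (Fix B j) := hNcard
    exact ((Nat.bijective_iff_surjective_and_card (fun n : N => n.1.1 D.x0)).2 ⟨hpt, hcard⟩).1 h
  -- an involution fixing the base point
  obtain ⟨n, hn⟩ := hpt ((a : XGrp B j).1 D.x0)
  set t : XGrp B j := (n : XGrp B j)⁻¹ * (a : XGrp B j) with ht
  have ht0 : t.1 D.x0 = D.x0 := by
    show (n.1.1)⁻¹ ((a : XGrp B j).1 D.x0) = _
    rw [← hn, Equiv.Perm.coe_inv, Equiv.symm_apply_apply]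
  have hane : (a : XGrp B j) ∉ N := fun h => by
    have := orderOf_dvd_of_pow_eq_one (show (a : XGrp B j) ^ 2 = 1 by rw [pow_two]; exact h.2)
    rw [horder] at this
    norm_num at this
  have ht1 : t ≠ 1 := fun h => hane (by
    rw [← inv_mul_eq_one.1 h]; exact n.2)
  obtain ⟨k0, h2pow⟩ : ∃ k, t ^ 2 ^ k = 1 := by
    have hp : IsPGroup 2 ↥(N ⊔ Subgroup.zpowers (a : XGrp B j)) := by
      refine IsPGroup.to_sup_of_normal_left (fun x => ⟨1, Subtype.ext ?_⟩)
        (IsPGroup.of_card (n := 3) (by rw [Nat.card_zpowers, horder]))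
      rw [pow_one, pow_two]; exact x.2.2
    have htm : t ∈ N ⊔ Subgroup.zpowers (a : XGrp B j) :=
      mul_mem (inv_mem (Subgroup.mem_sup_left n.2)) (Subgroup.mem_sup_right (Subgroup.mem_zpowers _))
    obtain ⟨k, hk⟩ := hp ⟨t, htm⟩
    exact ⟨k, congrArg Subtype.val hk⟩
  obtain ⟨i, hi, hi0⟩ : ∃ i : XGrp B j, orderOf i = 2 ∧ i.1 D.x0 = D.x0 := by
    obtain ⟨k, -, hk⟩ := (Nat.dvd_prime_pow Nat.prime_two).1 (orderOf_dvd_of_pow_eq_one h2pow)
    obtain ⟨k, rfl⟩ := Nat.exists_eq_succ_of_ne_zero (show k ≠ 0 by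
      rintro rfl; exact ht1 (orderOf_eq_one_iff.1 (by rw [hk, pow_zero])))
    refine ⟨t ^ 2 ^ k, ?_, ?_⟩
    · rw [orderOf_pow' _ (pow_ne_zero _ two_ne_zero), hk, Nat.gcd_eq_right (pow_dvd_pow 2 (Nat.le_succ k)),
        pow_succ', Nat.mul_div_assoc _ dvd_rfl, Nat.div_self (by positivity), mul_one]
    · rw [Subgroup.coe_pow]; exact Equiv.Perm.pow_apply_eq_self_of_apply_eq_self ht0 _
  -- it fixes exactly four points, all involutions fixing the base point are conjugate to it
  let I : Finset (XGrp B j) := Finset.univ.filter fun u => orderOf u = 2 ∧ u.1 D.x0 = D.x0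
  have hfour : ∀ u ∈ I, (Finset.univ.filter fun y : Fix B j => u.1 y = y).card = 4 := by
    intro u hu
    simp only [I, Finset.mem_filter, Finset.mem_univ, true_and] at hu
    have hne1 : u ≠ 1 := fun h => by rw [h, orderOf_one] at hu; omega
    let φ : N →* N := (MulAut.conjNormal u : MulAut N).toMonoidHom
    let d : N →* N :=
      { toFun := fun x => x * φ x
        map_one' := by rw [map_one, mul_one]
        map_mul' := fun x w => by
          rw [map_mul]
          have : φ x * w = w * φ x := hNc.is_comm.comm _ _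
          rw [mul_assoc, ← mul_assoc w, ← this, mul_assoc, mul_assoc] }
    have huu : u * u = 1 := by rw [← pow_two, ← hu.1, pow_orderOf_eq_one]
    have hφφ : ∀ x, φ (φ x) = x := fun x => Subtype.ext (by
      show u * (u * x.1 * u⁻¹) * u⁻¹ = x.1
      rw [inv_eq_of_mul_eq_one_right huu, show u * (u * x.1 * u) * u = (u * u) * x.1 * (u * u) by group,
        huu, one_mul, mul_one])
    have hsq : ∀ x : N, x * x = 1 := fun x => Subtype.ext x.2.2
    have hker : ∀ x, x ∈ d.ker ↔ φ x = x := by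
      intro x
      rw [MonoidHom.mem_ker]
      show x * φ x = 1 ↔ _
      exact ⟨fun h => mul_left_cancel (h.trans (hsq x).symm), fun h => by rw [h, hsq]⟩
    have hrk : d.range ≤ d.ker := by
      rintro _ ⟨x, rfl⟩
      rw [hker]
      show φ (x * φ x) = x * φ x
      rw [map_mul, hφφ]
      exact hNc.is_comm.comm _ _
    have h8 : Nat.card d.ker * Nat.card d.range = 8 := by
      rw [← Subgroup.index_ker, Subgroup.card_mul_index, hN8]
    have hle : Nat.card d.range ≤ Nat.card d.ker := Subgroup.card_le_of_le hrk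
    have hk8 : Nat.card d.ker ≠ 8 := by
      intro h
      refine hne1 (hreg N hNn hNne u (mem_centralizer_iff.2 fun x hx => ?_) hu.2)
      have htop : d.ker = ⊤ := Subgroup.eq_top_of_card_eq _ (by rw [h, hN8])
      have h' : u * x * u⁻¹ = x :=
        congrArg Subtype.val ((hker ⟨x, hx⟩).1 (htop ▸ Subgroup.mem_top _))
      exact (mul_inv_eq_iff_eq_mul.1 h').symm
    have hk4 : Nat.card d.ker = 4 := by
      have hdvd : Nat.card d.ker ∣ 2 ^ 3 := ⟨_, h8.symm⟩
      obtain ⟨k, hk, hk'⟩ := (Nat.dvd_prime_pow Nat.prime_two).1 hdvd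
      rcases (show k = 0 ∨ k = 1 ∨ k = 2 ∨ k = 3 by omega) with rfl | rfl | rfl | rfl
      · rw [hk'] at h8 hle; norm_num at h8 hle; omega
      · rw [hk'] at h8 hle; norm_num at h8 hle; omega
      · exact hk'
      · exact absurd hk' hk8
    rw [← hk4, ← Fintype.card_subtype, ← Nat.card_eq_fintype_card]
    refine (Nat.card_congr (Equiv.ofBijective (fun x : d.ker => (⟨x.1.1.1 D.x0, ?_⟩ :
      {y : Fix B j // u.1 y = y})) ⟨fun x w h => Subtype.ext (hinjN _ _ (congrArg Subtype.val h)), ?_⟩)).symm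
    · have h := congrArg (fun s : N => s.1.1 D.x0) ((hker x.1).1 x.2)
      show u.1 (x.1.1.1 D.x0) = _
      have h' : u.1 (x.1.1.1 ((u.1)⁻¹ D.x0)) = x.1.1.1 D.x0 := h
      rwa [show (u.1)⁻¹ D.x0 = D.x0 by rw [Equiv.Perm.inv_eq_iff_eq, hu.2]] at h'
    · rintro ⟨y, hy⟩
      obtain ⟨x, rfl⟩ := hpt y
      refine ⟨⟨x, (hker x).2 (hinjN _ _ ?_)⟩, rfl⟩
      show u.1 (x.1.1 ((u.1)⁻¹ D.x0)) = _
      rw [show (u.1)⁻¹ D.x0 = D.x0 by rw [Equiv.Perm.inv_eq_iff_eq, hu.2], hy]
  have hcover : ∀ y : Fix B j, y ≠ D.x0 → ∃ u ∈ I, u.1 y = y := by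
    intro y hy
    obtain ⟨w, hw, hwne⟩ : ∃ w, i.1 w = w ∧ w ≠ D.x0 := by
      have h4 := hfour i (by simp [I, hi, hi0])
      obtain ⟨w, hw, hne⟩ := Finset.exists_mem_ne (s := Finset.univ.filter fun y : Fix B j => i.1 y = y)
        (by omega) D.x0
      exact ⟨w, (Finset.mem_filter.1 hw).2, hne⟩
    obtain ⟨g, hg1, hg2⟩ := D.exists_map_fix P hwne.symm hy.symm
    set g' : XGrp B j := (fixHom B j).rangeRestrict g
    refine ⟨g' * i * g'⁻¹, Finset.mem_filter.2 ⟨Finset.mem_univ _, orderOf_conj_two hi, ?_⟩, ?_⟩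
    · show g'.1 (i.1 ((g'.1)⁻¹ D.x0)) = D.x0
      rw [show (g'.1)⁻¹ D.x0 = D.x0 from Equiv.Perm.inv_eq_iff_eq.2 hg1.symm, hi0]
      exact hg1
    · show g'.1 (i.1 ((g'.1)⁻¹ y)) = y
      rw [show (g'.1)⁻¹ y = w from Equiv.Perm.inv_eq_iff_eq.2 hg2.symm, hw]
      exact hg2
  have h7 : 7 = I.card * 3 := by
    have hU : (Finset.univ.erase D.x0 : Finset (Fix B j)) =
        I.biUnion fun u => (Finset.univ.filter fun y : Fix B j => u.1 y = y).erase D.x0 := by
      ext y
      simp only [Finset.mem_erase, Finset.mem_univ, and_true, Finset.mem_biUnion, Finset.mem_filter, true_and]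
      exact ⟨fun h => let ⟨u, hu, huy⟩ := hcover y h; ⟨u, hu, h, huy⟩, fun ⟨_, _, h, _⟩ => h⟩
    have := congrArg Finset.card hU
    rw [Finset.card_erase_of_mem (Finset.mem_univ _), Finset.card_univ, ← Nat.card_eq_fintype_card, hX8,
      Finset.card_biUnion] at this
    · rw [Finset.sum_congr rfl (g := fun _ => 3) fun u hu => ?_, Finset.sum_const, smul_eq_mul] at this
      · omega
      · rw [Finset.card_erase_of_mem, hfour u hu]
        exact Finset.mem_filter.2 ⟨Finset.mem_univ _, (Finset.mem_filter.1 hu).2.2⟩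
    · intro u hu w hw huw
      simp only [Function.onFun, Finset.disjoint_left, Finset.mem_erase, Finset.mem_filter, Finset.mem_univ, true_and]
      rintro y ⟨hy, hyu⟩ ⟨-, hyw⟩
      have hu' := (Finset.mem_filter.1 (Finset.mem_coe.1 hu)).2
      have hw' := (Finset.mem_filter.1 (Finset.mem_coe.1 hw)).2
      exact huw (huniq y hy u w hu'.1 hw'.1 hu'.2 hyu hw'.2 hyw)
  omega

end Dist

end CfsgLib.Recog.ABProd
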